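import Mathlib
import Groth.Prelude.Def_CAlg2
import Groth.Agent.H47.EtaleWeakColim

set_option autoImplicit false
set_option linter.style.haveILetI false
universe u

namespace Groth.Agent.H14.HensProp.EtNbhd

open AlgebraicGeometry CategoryTheory IsLocalRing TopologicalSpace TensorProduct Opposite

/-- affine open neighbourhoods of a point, ordered by reverse inclusion -/
structure AffNbhd (X : Scheme.{u}) (x : X) : Type u where
  U : X.Opens
  aff : IsAffineOpen U
  mem : x ∈ U

namespace AffNbhd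

variable {X : Scheme.{u}} {x : X}

instance : Preorder (AffNbhd X x) where
  le a b := b.U ≤ a.U
  le_refl _ := le_rfl
  le_trans _ _ _ h1 h2 := le_trans h2 h1

theorem exists_le (W : X.Opens) (hx : x ∈ W) : ∃ i : AffNbhd X x, i.U ≤ W := by
  obtain ⟨_, ⟨V, hV, rfl⟩, hxV, hVW⟩ :=
    X.isBasis_affineOpens.exists_subset_of_mem_open hx W.2
  exact ⟨⟨V, hV, hxV⟩, hVW⟩

instance : Nonempty (AffNbhd X x) := by
  obtain ⟨i, -⟩ := exists_le (x := x) (⊤ : X.Opens) trivial
  exact ⟨i⟩

instance : IsDirected (AffNbhd X x) (· ≤ ·) :=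
  ⟨fun a b => by
    obtain ⟨c, hc⟩ := exists_le (x := x) (a.U ⊓ b.U) ⟨a.mem, b.mem⟩
    exact ⟨c, hc.trans inf_le_left, hc.trans inf_le_right⟩⟩

end AffNbhd

/-- An étale algebra over a stalk descends to an étale algebra over the sections on an affine
open neighbourhood. -/
theorem exists_etale_descends_stalk (X : Scheme.{u}) (x : X) (A' : Type u) [CommRing A']
    [Algebra (X.presheaf.stalk x) A'] [Algebra.Etale (X.presheaf.stalk x) A'] :
    ∃ (V : X.Opens) (_ : IsAffineOpen V) (hxV : x ∈ V) (BV : Type u) (_ : CommRing BV)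
      (_ : Algebra Γ(X, V) BV), Algebra.Etale Γ(X, V) BV ∧
      letI : Algebra Γ(X, V) (X.presheaf.stalk x) := (X.presheaf.germ V x hxV).hom.toAlgebra
      Nonempty (A' ≃ₐ[X.presheaf.stalk x] (X.presheaf.stalk x) ⊗[Γ(X, V)] BV) := by
  obtain ⟨i, Bi, _, _, het, he⟩ := Groth.Agent.H47.WeakColim.exists_etale_descends
    (ι := AffNbhd X x) (fun i => Γ(X, i.U))
    (fun i j h => (X.presheaf.map (homOfLE h).op).hom)
    (X.presheaf.stalk x) (fun i => (X.presheaf.germ i.U x i.mem).hom)
    (by
      intro i j h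
      exact congrArg CommRingCat.Hom.hom (X.presheaf.germ_res (homOfLE h) x j.mem))
    (by
      intro a
      obtain ⟨W, hxW, s, hs⟩ := X.presheaf.exists_germ_eq a
      obtain ⟨i, hi⟩ := AffNbhd.exists_le W hxW
      refine ⟨i, (X.presheaf.map (homOfLE hi).op).hom s, ?_⟩
      rw [← hs]
      exact congr($(X.presheaf.germ_res (homOfLE hi) x i.mem) s))
    (by
      intro i s hs
      have h0 : X.presheaf.germ i.U x i.mem s = X.presheaf.germ i.U x i.mem 0 := by
        rw [map_zero]; exact hs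
      obtain ⟨W, hxW, iU, iV, hW⟩ := X.presheaf.germ_eq x i.mem i.mem s 0 h0
      obtain ⟨j, hj⟩ := AffNbhd.exists_le W hxW
      refine ⟨j, hj.trans iU.le, ?_⟩
      have h1 : X.presheaf.map (homOfLE (hj.trans iU.le)).op =
          X.presheaf.map iU.op ≫ X.presheaf.map (homOfLE hj).op := by
        rw [← X.presheaf.map_comp]; rfl
      refine (congrArg (fun m : Γ(X, i.U) ⟶ Γ(X, j.U) => m.hom s) h1).trans ?_
      change (X.presheaf.map (homOfLE hj).op).hom ((X.presheaf.map iU.op) s) = 0
      rw [hW, map_zero, map_zero])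
    A'
  exact ⟨i.U, i.aff, i.mem, Bi, inferInstance, inferInstance, het, he⟩

end Groth.Agent.H14.HensProp.EtNbhd
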