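import Mathlib
import Groth.Prelude.Def_CAlg2
import Groth.Agent.H3.FlatOfEtale

set_option autoImplicit false
set_option linter.style.haveILetI false
universe u

namespace Groth.Agent.H14.HensProp.EtNbhdRing

open IsLocalRing TensorProduct

/-- Contractions of minimal primes along a going-down ring map are minimal primes. -/
theorem comap_mem_minimalPrimes {S T : Type*} [CommRing S] [CommRing T] [Algebra S T]
    [Algebra.HasGoingDown S T] (𝔓 : Ideal T) (h : 𝔓 ∈ minimalPrimes T) :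
    𝔓.comap (algebraMap S T) ∈ minimalPrimes S := by
  haveI h𝔓 : 𝔓.IsPrime := h.1.1
  refine ⟨⟨Ideal.comap_isPrime _ _, bot_le⟩, ?_⟩
  rintro P' ⟨hP', -⟩ hle
  haveI := hP'
  haveI : 𝔓.LiesOver (𝔓.comap (algebraMap S T)) := ⟨rfl⟩
  obtain ⟨𝔓', h𝔓'le, h𝔓'prime, h𝔓'over⟩ :=
    Ideal.exists_ideal_le_liesOver_of_le (p := P') (q := 𝔓.comap (algebraMap S T)) 𝔓 hle
  have h1 : 𝔓 ≤ 𝔓' := h.2 ⟨h𝔓'prime, bot_le⟩ h𝔓'le
  have h2 : 𝔓' = 𝔓 := le_antisymm h𝔓'le h1
  rw [h𝔓'over.over, h2]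

/-- every element of `A ⊗[R] BV`, `A` a localization of `R`, is a fraction with numerator in
`BV` -/
theorem exists_smul_eq_one_tmul (R A BV : Type u) [CommRing R] [CommRing A] [CommRing BV]
    [Algebra R A] [Algebra R BV] (M : Submonoid R) [IsLocalization M A] (z : A ⊗[R] BV) :
    ∃ s ∈ M, ∃ b : BV, (algebraMap R A s) • z = 1 ⊗ₜ b := by
  induction z using TensorProduct.induction_on with
  | zero => exact ⟨1, one_mem _, 0, by simp⟩
  | tmul a b =>
    obtain ⟨r, s, rfl⟩ := IsLocalization.exists_mk'_eq M a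
    refine ⟨s, s.2, r • b, ?_⟩
    rw [TensorProduct.smul_tmul', smul_eq_mul, mul_comm, IsLocalization.mk'_spec,
      Algebra.algebraMap_eq_smul_one, TensorProduct.smul_tmul]
  | add z₁ z₂ h₁ h₂ =>
    obtain ⟨s₁, hs₁, b₁, hb₁⟩ := h₁
    obtain ⟨s₂, hs₂, b₂, hb₂⟩ := h₂
    refine ⟨s₁ * s₂, mul_mem hs₁ hs₂, s₂ • b₁ + s₁ • b₂, ?_⟩
    have e₁ : (algebraMap R A (s₁ * s₂)) • z₁ = (1 : A) ⊗ₜ[R] (s₂ • b₁) := by
      rw [map_mul, mul_comm, mul_smul, hb₁, TensorProduct.smul_tmul', smul_eq_mul, mul_one,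
        Algebra.algebraMap_eq_smul_one, TensorProduct.smul_tmul]
    have e₂ : (algebraMap R A (s₁ * s₂)) • z₂ = (1 : A) ⊗ₜ[R] (s₁ • b₂) := by
      rw [map_mul, mul_smul, hb₂, TensorProduct.smul_tmul', smul_eq_mul, mul_one,
        Algebra.algebraMap_eq_smul_one, TensorProduct.smul_tmul]
    rw [smul_add, e₁, e₂, TensorProduct.tmul_add]

/-- **Two minimal primes upstairs give two minimal primes in an étale algebra downstairs.** -/
theorem exists_two_minimalPrimes (R A B BV A' : Type u) [CommRing R] [CommRing A] [CommRing B]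
    [CommRing BV] [CommRing A'] [Algebra R A] [Algebra A B] [Algebra R B] [IsScalarTower R A B]
    [Algebra R BV] [Algebra.Etale R BV] [Algebra A A'] (p : Ideal R) [p.IsPrime]
    [IsLocalization.AtPrime A p] [IsLocalRing A] [IsLocalRing B] [IsLocalHom (algebraMap A B)]
    [Module.Flat A B] (φ : A' →ₐ[A] B) (e : A' ≃ₐ[A] A ⊗[R] BV) (𝔓₁ 𝔓₂ : Ideal B)
    (h₁ : 𝔓₁ ∈ minimalPrimes B) (h₂ : 𝔓₂ ∈ minimalPrimes B) (a' : A') (ha₁ : φ a' ∈ 𝔓₁)
    (ha₂ : φ a' ∉ 𝔓₂) :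
    ∃ χ : BV →ₐ[R] B, 𝔓₁.comap χ ∈ minimalPrimes BV ∧ 𝔓₂.comap χ ∈ minimalPrimes BV ∧
      𝔓₁.comap χ ≠ 𝔓₂.comap χ ∧
      ((maximalIdeal B).comap χ).comap (algebraMap R BV) = p := by
  haveI h𝔓₁ : 𝔓₁.IsPrime := h₁.1.1
  haveI h𝔓₂ : 𝔓₂.IsPrime := h₂.1.1
  let ψ : A ⊗[R] BV →ₐ[A] B := φ.comp e.symm.toAlgHom
  let χ : BV →ₐ[R] B :=
    (ψ.restrictScalars R).comp (Algebra.TensorProduct.includeRight : BV →ₐ[R] A ⊗[R] BV)
  have hχ : ∀ b : BV, χ b = ψ (1 ⊗ₜ b) := fun b => rfl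
  -- flatness
  haveI : Module.Flat R A := IsLocalization.flat A p.primeCompl
  haveI : Module.Flat R B := Module.Flat.trans R A B
  letI : Algebra BV B := χ.toRingHom.toAlgebra
  haveI : IsScalarTower R BV B := IsScalarTower.of_algebraMap_eq fun r => (χ.commutes r).symm
  haveI : Module.Flat BV B := Groth.Agent.H3.FlatOfEtale.flat_of_etale R BV B
  have hm₁ : 𝔓₁.comap (algebraMap BV B) ∈ minimalPrimes BV := comap_mem_minimalPrimes 𝔓₁ h₁
  have hm₂ : 𝔓₂.comap (algebraMap BV B) ∈ minimalPrimes BV := comap_mem_minimalPrimes 𝔓₂ h₂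
  refine ⟨χ, hm₁, hm₂, ?_, ?_⟩
  · -- distinct
    obtain ⟨s, hs, b, hb⟩ := exists_smul_eq_one_tmul R A BV p.primeCompl (e a')
    have hu : IsUnit (algebraMap A B (algebraMap R A s)) :=
      (IsLocalization.map_units A (⟨s, hs⟩ : p.primeCompl)).map _
    have h3 : χ b = algebraMap A B (algebraMap R A s) * φ a' := by
      rw [hχ, ← hb, map_smul, Algebra.smul_def]
      congr 1
      change φ (e.symm (e a')) = φ a'
      rw [AlgEquiv.symm_apply_apply]
    have hb₁ : b ∈ 𝔓₁.comap χ := by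
      rw [Ideal.mem_comap, h3]
      exact Ideal.mul_mem_left _ _ ha₁
    have hb₂ : b ∉ 𝔓₂.comap χ := by
      rw [Ideal.mem_comap, h3]
      intro h
      rcases h𝔓₂.mem_or_mem h with h | h
      · exact h𝔓₂.ne_top (Ideal.eq_top_of_isUnit_mem _ h hu)
      · exact ha₂ h
    intro heq
    exact hb₂ (heq ▸ hb₁)
  · ext r
    rw [Ideal.mem_comap, Ideal.mem_comap, AlgHom.commutes,
      IsScalarTower.algebraMap_apply R A B, ← Ideal.mem_comap,
      IsLocalRing.maximalIdeal_comap,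
      IsLocalization.AtPrime.to_map_mem_maximal_iff A p]

end Groth.Agent.H14.HensProp.EtNbhdRing
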