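import Mathlib

set_option autoImplicit false
set_option linter.style.haveILetI false
universe u

namespace Groth.Agent.H14.HensProp.PiLocal

open IsLocalRing TensorProduct

section

variable (R A' B : Type u) [CommRing R] [IsLocalRing R] [CommRing A'] [IsLocalRing A']
  [Algebra R A'] [IsLocalHom (algebraMap R A')] [CommRing B] [IsLocalRing B] [Algebra R B]
  [Algebra.IsIntegral R B]

/-- the ideal of `A' ⊗ B` generated by the two maximal ideals -/
def J : Ideal (A' ⊗[R] B) :=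
  (maximalIdeal A').map (algebraMap A' (A' ⊗[R] B)) ⊔
    (maximalIdeal B).map (Algebra.TensorProduct.includeRight : B →ₐ[R] A' ⊗[R] B)

/-- every maximal ideal of `A' ⊗ B` contains both maximal ideals -/
theorem J_le_of_isMaximal (M : Ideal (A' ⊗[R] B)) [hM : M.IsMaximal] :
    J R A' B ≤ M ∧ M.comap (algebraMap A' (A' ⊗[R] B)) = maximalIdeal A' := by
  have h1 : (M.comap (algebraMap A' (A' ⊗[R] B))).IsMaximal :=
    Ideal.isMaximal_comap_of_isIntegral_of_isMaximal M
  have h1' : M.comap (algebraMap A' (A' ⊗[R] B)) = maximalIdeal A' := IsLocalRing.eq_maximalIdeal h1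
  refine ⟨?_, h1'⟩
  have hP : (M.comap (Algebra.TensorProduct.includeRight : B →ₐ[R] A' ⊗[R] B)).IsPrime :=
    Ideal.comap_isPrime _ M
  set P := M.comap (Algebra.TensorProduct.includeRight : B →ₐ[R] A' ⊗[R] B) with hPdef
  have h2 : maximalIdeal R ≤ P.comap (algebraMap R B) := by
    intro r hr
    rw [Ideal.mem_comap, hPdef, Ideal.mem_comap]
    have h3 : algebraMap R A' r ∈ maximalIdeal A' := by
      rw [IsLocalRing.mem_maximalIdeal, mem_nonunits_iff]
      intro hu
      exact (IsLocalRing.mem_maximalIdeal r).mp hr (IsUnit.of_map (algebraMap R A') r hu)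
    rw [← h1', Ideal.mem_comap] at h3
    have h4 : (Algebra.TensorProduct.includeRight : B →ₐ[R] A' ⊗[R] B) (algebraMap R B r) =
        algebraMap A' (A' ⊗[R] B) (algebraMap R A' r) := by
      rw [AlgHom.commutes, ← IsScalarTower.algebraMap_apply]
    rw [h4]
    exact h3
  have h5 : P.comap (algebraMap R B) = maximalIdeal R := by
    have hne : P.comap (algebraMap R B) ≠ ⊤ := (Ideal.comap_isPrime _ P).ne_top
    exact ((maximalIdeal.isMaximal R).eq_of_le hne h2).symm
  have h6 : P.IsMaximal := by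
    apply Ideal.isMaximal_of_isIntegral_of_isMaximal_comap (R := R) P
    rw [h5]
    exact maximalIdeal.isMaximal R
  have h7 : P = maximalIdeal B := IsLocalRing.eq_maximalIdeal h6
  unfold J
  refine sup_le ?_ ?_
  · rw [Ideal.map_le_iff_le_comap, h1']
  · rw [Ideal.map_le_iff_le_comap, ← h7]

theorem comap_includeRight_eq (M : Ideal (A' ⊗[R] B)) [hM : M.IsMaximal] :
    M.comap (Algebra.TensorProduct.includeRight : B →ₐ[R] A' ⊗[R] B) = maximalIdeal B := by
  obtain ⟨hJ, -⟩ := J_le_of_isMaximal R A' B M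
  have h1 : maximalIdeal B ≤ M.comap (Algebra.TensorProduct.includeRight : B →ₐ[R] A' ⊗[R] B) := by
    rw [← Ideal.map_le_iff_le_comap]
    exact le_trans le_sup_right hJ
  have hne : M.comap (Algebra.TensorProduct.includeRight : B →ₐ[R] A' ⊗[R] B) ≠ ⊤ :=
    (Ideal.comap_isPrime _ M).ne_top
  exact ((maximalIdeal.isMaximal B).eq_of_le hne h1).symm

variable (p : ℕ) (hp : p = 1 ∨ (p.Prime ∧ (p : B) ∈ maximalIdeal B))
  (hpi : ∀ x : B, ∃ (n : ℕ) (r : R), x ^ p ^ n - algebraMap R B r ∈ maximalIdeal B)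

omit [IsLocalRing R] [IsLocalHom (algebraMap R A')] [Algebra.IsIntegral R B] in
include hp in
theorem add_pow_quot (u v : (A' ⊗[R] B) ⧸ J R A' B) (n : ℕ) :
    (u + v) ^ p ^ n = u ^ p ^ n + v ^ p ^ n := by
  rcases hp with rfl | ⟨hprime, hmem⟩
  · simp
  · obtain ⟨r, hr⟩ := exists_add_pow_prime_pow_eq hprime u v n
    have h0 : ((p : ℕ) : (A' ⊗[R] B) ⧸ J R A' B) = 0 := by
      have : ((p : ℕ) : (A' ⊗[R] B) ⧸ J R A' B) =
          Ideal.Quotient.mk (J R A' B)
            ((Algebra.TensorProduct.includeRight : B →ₐ[R] A' ⊗[R] B) (p : B)) := by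
        simp
      rw [this, Ideal.Quotient.eq_zero_iff_mem]
      exact Ideal.mem_sup_right (Ideal.mem_map_of_mem _ hmem)
    rw [hr, h0]
    ring

omit [IsLocalRing R] [IsLocalHom (algebraMap R A')] [Algebra.IsIntegral R B] in
include hp hpi in
theorem exists_pow_eq (z : A' ⊗[R] B) : ∃ (n : ℕ) (a : A'),
    (Ideal.Quotient.mk (J R A' B) z) ^ p ^ n =
      Ideal.Quotient.mk (J R A' B) (algebraMap A' (A' ⊗[R] B) a) := by
  induction z using TensorProduct.induction_on with
  | zero => exact ⟨0, 0, by simp⟩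
  | tmul a b =>
    obtain ⟨n, r, hr⟩ := hpi b
    refine ⟨n, a ^ p ^ n * algebraMap R A' r, ?_⟩
    rw [← map_pow, Ideal.Quotient.eq, Algebra.TensorProduct.algebraMap_apply,
      Algebra.TensorProduct.tmul_pow, Algebra.algebraMap_self_apply]
    have : (a ^ p ^ n) ⊗ₜ[R] (b ^ p ^ n) - (a ^ p ^ n * algebraMap R A' r) ⊗ₜ[R] (1 : B) =
        ((a ^ p ^ n) ⊗ₜ[R] (1 : B)) *
          (Algebra.TensorProduct.includeRight : B →ₐ[R] A' ⊗[R] B) (b ^ p ^ n - algebraMap R B r) := by
      rw [Algebra.TensorProduct.includeRight_apply, Algebra.TensorProduct.tmul_mul_tmul, mul_one,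
        one_mul, TensorProduct.tmul_sub]
      congr 1
      rw [Algebra.algebraMap_eq_smul_one (A := B) r, TensorProduct.tmul_smul,
        TensorProduct.smul_tmul', Algebra.smul_def, mul_comm]
    rw [this]
    exact Ideal.mul_mem_left _ _ (Ideal.mem_sup_right (Ideal.mem_map_of_mem _ hr))
  | add z₁ z₂ h₁ h₂ =>
    obtain ⟨n₁, a₁, h₁⟩ := h₁
    obtain ⟨n₂, a₂, h₂⟩ := h₂
    refine ⟨n₁ + n₂, a₁ ^ p ^ n₂ + a₂ ^ p ^ n₁, ?_⟩
    rw [map_add, add_pow_quot R A' B p hp, pow_add, pow_mul, h₁, mul_comm, pow_mul, h₂,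
      map_add, map_add, map_pow, map_pow, map_pow, map_pow]

include hp hpi in
theorem isLocalRing_tensor [Nontrivial (A' ⊗[R] B)] : IsLocalRing (A' ⊗[R] B) := by
  have key : ∀ M₁ M₂ : Ideal (A' ⊗[R] B), M₁.IsMaximal → M₂.IsMaximal → M₁ ≤ M₂ := by
    intro M₁ M₂ hM₁ hM₂ z hz
    obtain ⟨hJ₁, hc₁⟩ := J_le_of_isMaximal R A' B M₁
    obtain ⟨hJ₂, hc₂⟩ := J_le_of_isMaximal R A' B M₂
    obtain ⟨n, a, hna⟩ := exists_pow_eq R A' B p hp hpi z
    rw [← map_pow, Ideal.Quotient.eq] at hna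
    have h1 : algebraMap A' (A' ⊗[R] B) a ∈ M₁ := by
      have h2 := hJ₁ hna
      have h3 : z ^ p ^ n ∈ M₁ := Ideal.pow_mem_of_mem _ hz _ (Nat.pos_of_ne_zero (by
        rcases hp with rfl | ⟨hprime, -⟩
        · simp
        · exact pow_ne_zero _ hprime.ne_zero))
      have := M₁.sub_mem h3 h2
      simpa using this
    have h4 : a ∈ maximalIdeal A' := by
      rw [← hc₁]
      exact h1
    have h5 : algebraMap A' (A' ⊗[R] B) a ∈ M₂ := by
      rw [← hc₂] at h4
      exact h4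
    have h6 : z ^ p ^ n ∈ M₂ := by
      have := M₂.add_mem (hJ₂ hna) h5
      simpa using this
    exact hM₂.isPrime.mem_of_pow_mem _ h6
  obtain ⟨M, hM⟩ := Ideal.exists_maximal (A' ⊗[R] B)
  exact IsLocalRing.of_unique_max_ideal
    ⟨M, hM, fun M' hM' => le_antisymm (key M' M hM' hM) (key M M' hM hM')⟩

end

end Groth.Agent.H14.HensProp.PiLocal
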