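import Mathlib
import Groth.Prelude.Def_Hensel
import Groth.Prelude.Def_CAlg2
import Groth.Agent.H3.HensIntegralLocalBC
import Groth.Agent.H3.HensUnion
import Groth.Agent.H3.HensLocal
import Groth.Agent.H3.HensFlatMain
import Groth.Agent.H3.HensIso

set_option autoImplicit false
set_option linter.style.haveILetI false
universe u

namespace Groth.Agent.H14.HensProp

open IsLocalRing TensorProduct

/-- If a local ring `R` injects into a normal local domain `B` integral over it, the henselization of
`R` is a domain. -/
theorem isDomain_of_normal_integral (R S B : Type u) [CommRing R] [IsLocalRing R] [CommRing S]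
    [IsLocalRing S] [Algebra R S] [IsLocalHom (algebraMap R S)] [Hensel.IsHenselization R S]
    [CommRing B] [IsLocalRing B] [Algebra R B] [IsLocalHom (algebraMap R B)]
    [Algebra.IsIntegral R B] [IsDomain B] [IsIntegrallyClosed B]
    (hinj : Function.Injective (algebraMap R B)) : IsDomain S := by
  have hS : Hensel.IsHenselization R S := inferInstance
  have hPS := Groth.Agent.H3.HensIso.isPairHenselization_of_isHenselization hS
  haveI hflat : Module.Flat R S := Groth.Agent.H3.HensFlatMain.flat hPS
  have hP := Groth.Agent.H3.HensIntegralBC.isPairHenselization_tensor_local R B S hS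
  haveI := Groth.Agent.H3.HensLocal.isLocalRing hP
  haveI := Groth.Agent.H3.HensLocal.isLocalHom hP
  have hH : Hensel.IsHenselization B (B ⊗[R] S) := Groth.Agent.H3.HensLocal.isHenselization hP
  obtain ⟨hd, -⟩ := (Groth.Agent.H3.HensUnion.normal_iff (Or.inl hH)).mpr
    ⟨inferInstance, inferInstance⟩
  have hinj' : Function.Injective (Algebra.TensorProduct.includeRight : S →ₐ[R] B ⊗[R] S) :=
    Algebra.TensorProduct.includeRight_injective hinj
  exact hinj'.isDomain (Algebra.TensorProduct.includeRight : S →ₐ[R] B ⊗[R] S).toRingHom

end Groth.Agent.H14.HensProp
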