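import Mathlib
import Groth.Prelude.Def_Hensel
import Groth.Agent.S0499

set_option autoImplicit false
set_option linter.style.haveILetI false
universe u

namespace Groth.Agent.H14.HensProp

open IsLocalRing TensorProduct

/-- Base change of a "birational" domain `C ⊇ R` (with a common denominator `d`) along a flat domain
`S` is a domain. -/
theorem isDomain_tensor_of_birational (R S C : Type u) [CommRing R] [CommRing S] [CommRing C]
    [Algebra R S] [Algebra R C] [Module.Flat R S] [IsDomain S] [IsDomain C]
    (hinj : Function.Injective (algebraMap R C)) (d : R) (hd : d ≠ 0)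
    (hC : ∀ c : C, ∃ r : R, algebraMap R C r = d • c) : IsDomain (S ⊗[R] C) := by
  have hincl : Function.Injective (Algebra.TensorProduct.includeLeft : S →ₐ[R] S ⊗[R] C) :=
    Algebra.TensorProduct.includeLeft_injective hinj
  have hreg : IsSMulRegular C d := by
    intro c c' h
    simp only at h
    rw [Algebra.smul_def, Algebra.smul_def] at h
    exact mul_left_cancel₀ (fun h0 => hd (hinj (by rw [h0, map_zero]))) h
  have hregT : IsSMulRegular (S ⊗[R] C) (algebraMap R S d) :=
    IsSMulRegular.of_flat_of_isBaseChange (TensorProduct.isBaseChange R C S) hreg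
  have hdT : ∀ t t' : S ⊗[R] C, d • t = d • t' → t = t' := by
    intro t t' h
    apply hregT
    simp only
    rw [algebraMap_smul, algebraMap_smul]
    exact h
  have hex : ∀ t : S ⊗[R] C, ∃ s : S, (Algebra.TensorProduct.includeLeft : S →ₐ[R] S ⊗[R] C) s =
      d • t := by
    intro t
    induction t using TensorProduct.induction_on with
    | zero => exact ⟨0, by simp⟩
    | tmul s c =>
      obtain ⟨r, hr⟩ := hC c
      refine ⟨r • s, ?_⟩
      rw [Algebra.TensorProduct.includeLeft_apply, TensorProduct.smul_tmul, ← Algebra.algebraMap_eq_smul_one,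
        hr, TensorProduct.tmul_smul]
    | add x y hx hy =>
      obtain ⟨sx, hsx⟩ := hx
      obtain ⟨sy, hsy⟩ := hy
      exact ⟨sx + sy, by rw [map_add, hsx, hsy, smul_add]⟩
  haveI : Nontrivial (S ⊗[R] C) := hincl.nontrivial
  haveI : NoZeroDivisors (S ⊗[R] C) := by
    refine ⟨fun {u v} huv => ?_⟩
    obtain ⟨su, hsu⟩ := hex u
    obtain ⟨sv, hsv⟩ := hex v
    have h1 : (Algebra.TensorProduct.includeLeft : S →ₐ[R] S ⊗[R] C) (su * sv) = 0 := by
      rw [map_mul, hsu, hsv, smul_mul_smul_comm, huv, smul_zero]
    have h2 : su * sv = 0 := hincl (by rw [h1, map_zero])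
    rcases mul_eq_zero.mp h2 with h | h
    · left
      apply hdT
      rw [← hsu, h, map_zero, smul_zero]
    · right
      apply hdT
      rw [← hsv, h, map_zero, smul_zero]
  exact NoZeroDivisors.to_isDomain _

/-- A finite module of fractions has a common denominator. -/
theorem exists_common_denominator (R C : Type u) [CommRing R] [CommRing C] [Algebra R C]
    [IsDomain R] [Module.Finite R C]
    (hC : ∀ c : C, ∃ d : R, d ≠ 0 ∧ ∃ r : R, algebraMap R C r = d • c) :
    ∃ d : R, d ≠ 0 ∧ ∀ c : C, ∃ r : R, algebraMap R C r = d • c := by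
  classical
  obtain ⟨s, hs⟩ := (Module.Finite.fg_top : (⊤ : Submodule R C).FG)
  choose dd hdd rr hrr using hC
  refine ⟨∏ y ∈ s, dd y, Finset.prod_ne_zero_iff.mpr fun y _ => hdd y, ?_⟩
  let N : Submodule R C :=
    { carrier := {c | ∃ r : R, algebraMap R C r = (∏ y ∈ s, dd y) • c}
      add_mem' := by
        rintro a b ⟨ra, hra⟩ ⟨rb, hrb⟩
        exact ⟨ra + rb, by rw [map_add, hra, hrb, smul_add]⟩
      zero_mem' := ⟨0, by simp⟩
      smul_mem' := by
        rintro a c ⟨r, hr⟩
        exact ⟨a * r, by rw [map_mul, hr, smul_comm, ← Algebra.smul_def]⟩ }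
  have hle : Submodule.span R (s : Set C) ≤ N := by
    rw [Submodule.span_le]
    intro y hy
    refine ⟨(∏ z ∈ s.erase y, dd z) * rr y, ?_⟩
    rw [map_mul, hrr y, ← Finset.mul_prod_erase s dd (Finset.mem_coe.mp hy), mul_comm (dd y),
      mul_smul, Algebra.smul_def (∏ z ∈ s.erase y, dd z)]
  intro c
  have : c ∈ N := hle (by rw [hs]; trivial)
  exact this

end Groth.Agent.H14.HensProp
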