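import Mathlib
import Groth.Prelude.Def_Hensel
import Groth.Agent.S0499
import Groth.Agent.H14.HensProp.Unibranch2

set_option autoImplicit false
set_option linter.style.haveILetI false
universe u

namespace Groth.Agent.H14.HensProp

open IsLocalRing TensorProduct

/-- A domain which is a finite product of local rings is local. -/
theorem isLocalRing_of_ringEquiv_pi_of_isDomain (T : Type u) [CommRing T] [IsDomain T]
    (ι : Type u) [Fintype ι] (A : ι → Type u) [∀ i, CommRing (A i)] (hloc : ∀ i, IsLocalRing (A i))
    (φ : T ≃+* (∀ i, A i)) : IsLocalRing T := by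
  classical
  haveI : IsDomain (∀ i, A i) := φ.symm.toMulEquiv.isDomain
  have hne : Nonempty ι := by
    by_contra h
    rw [not_nonempty_iff] at h
    have : (1 : ∀ i, A i) = 0 := Subsingleton.elim _ _
    exact one_ne_zero this
  obtain ⟨i₀⟩ := hne
  have hsub : ∀ j : ι, j = i₀ := by
    intro j
    by_contra hj
    have h1 : (Pi.single i₀ 1 : ∀ i, A i) * Pi.single j 1 = 0 := by
      funext i
      simp only [Pi.mul_apply, Pi.zero_apply]
      by_cases hi : i = i₀
      · subst hi
        rw [Pi.single_eq_of_ne (Ne.symm hj), mul_zero]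
      · rw [Pi.single_eq_of_ne hi, zero_mul]
    rcases mul_eq_zero.mp h1 with h | h
    · have := congrFun h i₀
      rw [Pi.single_eq_same, Pi.zero_apply] at this
      exact one_ne_zero this
    · have := congrFun h j
      rw [Pi.single_eq_same, Pi.zero_apply] at this
      exact one_ne_zero this
  haveI : Unique ι := ⟨⟨i₀⟩, hsub⟩
  let e : T ≃+* A default := φ.trans (RingEquiv.piUnique A)
  exact e.symm.isLocalRing

/-- Units descend along faithfully flat base change. -/
theorem isUnit_of_isUnit_one_tmul (R S C : Type u) [CommRing R] [CommRing S] [CommRing C]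
    [Algebra R S] [Algebra R C] [Module.FaithfullyFlat R S] (c : C)
    (h : IsUnit ((1 : S) ⊗ₜ[R] c)) : IsUnit c := by
  have key : ∀ u : S ⊗[R] C, (LinearMap.mulLeft R c).lTensor S u = ((1 : S) ⊗ₜ[R] c) * u := by
    intro u
    induction u using TensorProduct.induction_on with
    | zero => simp
    | tmul s y => simp
    | add x y hx hy => rw [map_add, hx, hy, mul_add]
  have hsurj : Function.Surjective ((LinearMap.mulLeft R c).lTensor S) := by
    intro t
    obtain ⟨v, hv⟩ := h.exists_right_inv
    refine ⟨v * t, ?_⟩
    rw [key, ← mul_assoc, hv, one_mul]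
  have hs := (Module.FaithfullyFlat.lTensor_surjective_iff_surjective R S _).mp hsurj
  obtain ⟨y, hy⟩ := hs 1
  exact IsUnit.of_mul_eq_one y hy

/-- Let `S` be a faithfully flat henselian local `R`-algebra which is a domain, and `B` a domain
integral over the domain `R` all of whose elements are fractions of elements of `R`. Then `B` is
local. -/
theorem isLocalRing_of_isDomain_of_birational (R S B : Type u) [CommRing R] [IsDomain R]
    [CommRing S] [Algebra R S] [HenselianLocalRing S] [IsDomain S] [Module.FaithfullyFlat R S]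
    [CommRing B] [IsDomain B] [Algebra R B] [Algebra.IsIntegral R B]
    (hinj : Function.Injective (algebraMap R B))
    (hbir : ∀ b : B, ∃ d : R, d ≠ 0 ∧ ∃ r : R, algebraMap R B r = d • b) : IsLocalRing B := by
  apply IsLocalRing.of_isUnit_or_isUnit_one_sub_self
  intro x
  let C : Subalgebra R B := Algebra.adjoin R {x}
  haveI : Module.Finite R C :=
    Module.Finite.iff_fg.mpr (Algebra.IsIntegral.isIntegral (R := R) x).fg_adjoin_singleton
  have hinjC : Function.Injective (algebraMap R C) := by
    intro a b hab
    apply hinj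
    have := congrArg (C.val) hab
    simpa using this
  have hbirC : ∀ c : C, ∃ d : R, d ≠ 0 ∧ ∃ r : R, algebraMap R C r = d • c := by
    intro c
    obtain ⟨d, hd, r, hr⟩ := hbir (c : B)
    exact ⟨d, hd, r, Subtype.ext (by simpa using hr)⟩
  obtain ⟨d, hd, hdC⟩ := exists_common_denominator R C hbirC
  haveI : IsDomain (S ⊗[R] C) := isDomain_tensor_of_birational R S C hinjC d hd hdC
  obtain ⟨ι, _, A, _, hloc, ⟨φ⟩⟩ := Groth.Agent.S0499.result S (S ⊗[R] C)
  haveI hT : IsLocalRing (S ⊗[R] C) := isLocalRing_of_ringEquiv_pi_of_isDomain _ ι A hloc φ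
  let xC : C := ⟨x, Algebra.subset_adjoin (Set.mem_singleton x)⟩
  rcases IsLocalRing.isUnit_or_isUnit_one_sub_self ((1 : S) ⊗ₜ[R] xC) with h | h
  · left
    have := isUnit_of_isUnit_one_tmul R S C xC h
    exact this.map C.val
  · right
    have h' : IsUnit ((1 : S) ⊗ₜ[R] (1 - xC)) := by
      rw [TensorProduct.tmul_sub]
      exact h
    have := isUnit_of_isUnit_one_tmul R S C (1 - xC) h'
    exact this.map C.val

end Groth.Agent.H14.HensProp
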