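import Mathlib
import Groth.Prelude.Def_Hensel
import Groth.Prelude.Def_CAlg2
import Groth.Agent.H14.HensProp.Unibranch1
import Groth.Agent.H14.HensProp.Unibranch3

set_option autoImplicit false
set_option linter.style.haveILetI false
universe u

namespace Groth.Agent.H14.HensProp

open IsLocalRing TensorProduct

section

variable (R : Type u) [CommRing R]

theorem red_injective [IsReduced R] :
    Function.Injective (Ideal.Quotient.mk (nilradical R)) := by
  rw [injective_iff_map_eq_zero]
  intro a ha
  rw [Ideal.Quotient.eq_zero_iff_mem, nilradical_eq_zero] at ha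
  exact ha

theorem algebraMap_normRed_injective [IsReduced R] [IsDomain (CAlg2.red R)] :
    Function.Injective (algebraMap R (CAlg2.normRed R)) := by
  have h1 : Function.Injective (algebraMap (CAlg2.red R) (CAlg2.normRed R)) := by
    have h2 : Function.Injective (algebraMap (CAlg2.red R) (FractionRing (CAlg2.red R))) :=
      IsFractionRing.injective _ _
    intro a b hab
    apply h2
    have := congrArg (Subalgebra.val _) hab
    simpa using this
  rw [IsScalarTower.algebraMap_eq R (CAlg2.red R) (CAlg2.normRed R)]
  exact h1.comp (red_injective R)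

instance isIntegral_normRed : Algebra.IsIntegral R (CAlg2.normRed R) := by
  haveI : Algebra.IsIntegral R (CAlg2.red R) :=
    Algebra.IsIntegral.of_surjective (Ideal.Quotient.mkₐ R (nilradical R))
      Ideal.Quotient.mk_surjective
  exact Algebra.IsIntegral.trans (CAlg2.red R)

theorem isIntegrallyClosed_normRed [IsDomain (CAlg2.red R)] :
    IsIntegrallyClosed (CAlg2.normRed R) :=
  integralClosure.isIntegrallyClosedOfFiniteExtension (FractionRing (CAlg2.red R))

theorem isLocalHom_normRed [IsLocalRing R] [IsLocalRing (CAlg2.normRed R)] :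
    IsLocalHom (algebraMap R (CAlg2.normRed R)) := by
  have hmax : ((maximalIdeal (CAlg2.normRed R)).comap (algebraMap R (CAlg2.normRed R))).IsMaximal :=
    Ideal.isMaximal_comap_of_isIntegral_of_isMaximal _
  exact ((IsLocalRing.local_hom_TFAE (algebraMap R (CAlg2.normRed R))).out 0 4).mpr
    (IsLocalRing.eq_maximalIdeal hmax)

theorem exists_fraction_normRed [IsReduced R] [IsDomain (CAlg2.red R)] (b : CAlg2.normRed R) :
    ∃ d : R, d ≠ 0 ∧ ∃ r : R, algebraMap R (CAlg2.normRed R) r = d • b := by
  obtain ⟨⟨r₀, d₀⟩, h⟩ := IsLocalization.surj (nonZeroDivisors (CAlg2.red R))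
    ((b : FractionRing (CAlg2.red R)))
  simp only at h
  obtain ⟨d, hd⟩ := Ideal.Quotient.mk_surjective (d₀ : CAlg2.red R)
  obtain ⟨r, hr⟩ := Ideal.Quotient.mk_surjective r₀
  refine ⟨d, ?_, r, ?_⟩
  · rintro rfl
    rw [map_zero] at hd
    exact nonZeroDivisors.ne_zero d₀.2 hd.symm
  · apply Subtype.ext
    rw [IsScalarTower.algebraMap_apply R (CAlg2.red R) (CAlg2.normRed R)]
    change algebraMap (CAlg2.red R) (FractionRing (CAlg2.red R)) (algebraMap R (CAlg2.red R) r) = _
    change _ = d • (b : FractionRing (CAlg2.red R))
    rw [← algebraMap_smul (CAlg2.red R) d (b : FractionRing (CAlg2.red R)), Algebra.smul_def]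
    change algebraMap (CAlg2.red R) (FractionRing (CAlg2.red R)) (Ideal.Quotient.mk _ r) =
      algebraMap (CAlg2.red R) (FractionRing (CAlg2.red R)) (Ideal.Quotient.mk _ d) * _
    rw [hr, hd, ← h, mul_comm]

end

/-- **EGA IV 18.6.12.** A local ring is reduced and unibranch iff its henselization is a domain. -/
theorem reduced_isUnibranch_iff_isDomain_henselization (R S : Type u) [CommRing R] [IsLocalRing R]
    [CommRing S] [IsLocalRing S] [Algebra R S] [IsLocalHom (algebraMap R S)]
    [Hensel.IsHenselization R S] :
    (IsReduced R ∧ CAlg2.IsUnibranch R) ↔ IsDomain S := by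
  have hS : Hensel.IsHenselization R S := inferInstance
  have hPS := Groth.Agent.H3.HensIso.isPairHenselization_of_isHenselization hS
  haveI hflat : Module.Flat R S := Groth.Agent.H3.HensFlatMain.flat hPS
  haveI hff : Module.FaithfullyFlat R S := Module.FaithfullyFlat.of_flat_of_isLocalHom
  constructor
  · rintro ⟨hred, hdom, hloc⟩
    haveI := hred
    haveI := hdom
    haveI := hloc
    haveI := isLocalHom_normRed R
    haveI := isIntegrallyClosed_normRed R
    exact isDomain_of_normal_integral R S (CAlg2.normRed R) (algebraMap_normRed_injective R)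
  · intro hdomS
    haveI := hdomS
    have hinjS : Function.Injective (algebraMap R S) := FaithfulSMul.algebraMap_injective R S
    haveI hdomR : IsDomain R := hinjS.isDomain (algebraMap R S)
    haveI hredR : IsReduced R := inferInstance
    haveI hdom0 : IsDomain (CAlg2.red R) := by
      have e : R ≃+* CAlg2.red R :=
        RingEquiv.ofBijective (Ideal.Quotient.mk (nilradical R))
          ⟨red_injective R, Ideal.Quotient.mk_surjective⟩
      exact e.symm.toMulEquiv.isDomain
    refine ⟨hredR, hdom0, ?_⟩
    haveI : HenselianLocalRing S := hS.henselian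
    exact isLocalRing_of_isDomain_of_birational R S (CAlg2.normRed R)
      (algebraMap_normRed_injective R) (exists_fraction_normRed R)

end Groth.Agent.H14.HensProp
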