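import Mathlib
import Groth.Prelude.Def_Hensel
import Groth.Prelude.Def_CAlg2
import Groth.Prelude.Def_CAlgX
import Groth.Agent.H14.HensProp.Unibranch

set_option autoImplicit false
set_option linter.style.haveILetI false
universe u

namespace Groth.Agent.H14.HensProp.UniqueMin

open IsLocalRing TensorProduct

theorem hasUniqueMinimalPrime_iff_isPrime_nilradical (A : Type u) [CommRing A] :
    CAlgX.HasUniqueMinimalPrime A ↔ (nilradical A).IsPrime := by
  constructor
  · rintro ⟨p, hp, huniq⟩
    have h1 : minimalPrimes A = {p} := by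
      ext q
      constructor
      · intro hq
        exact huniq q hq
      · rintro rfl
        exact hp
    have h2 : nilradical A = p := by
      have := Ideal.sInf_minimalPrimes (I := (⊥ : Ideal A))
      rw [show (⊥ : Ideal A).minimalPrimes = minimalPrimes A from rfl, h1, sInf_singleton] at this
      rw [this]
      rfl
    rw [h2]
    exact hp.1.1
  · intro hprime
    refine ⟨nilradical A, ⟨⟨hprime, bot_le⟩, fun q hq _ => ?_⟩, ?_⟩
    · haveI := hq.1
      exact nilradical_le_prime q
    intro q hq
    haveI := hq.1.1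
    have h1 : nilradical A ≤ q := nilradical_le_prime q
    exact le_antisymm (hq.2 ⟨hprime, bot_le⟩ h1) h1

section

variable (A : Type u) [CommRing A] [IsLocalRing A]

theorem nilradical_le_maximalIdeal : nilradical A ≤ maximalIdeal A :=
  nilradical_le_prime _

instance nontrivial_red : Nontrivial (CAlg2.red A) := by
  apply Ideal.Quotient.nontrivial_iff.mpr
  intro h
  have h1 := nilradical_le_maximalIdeal A
  rw [h] at h1
  exact (maximalIdeal.isMaximal A).ne_top (top_le_iff.mp h1)

instance isLocalRing_red : IsLocalRing (CAlg2.red A) :=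
  IsLocalRing.of_surjective' (Ideal.Quotient.mk (nilradical A)) Ideal.Quotient.mk_surjective

instance isLocalHom_red : IsLocalHom (algebraMap A (CAlg2.red A)) :=
  IsLocalHom.of_surjective _ Ideal.Quotient.mk_surjective

instance isIntegral_red : Algebra.IsIntegral A (CAlg2.red A) :=
  Algebra.IsIntegral.of_surjective (Ideal.Quotient.mkₐ A (nilradical A))
    Ideal.Quotient.mk_surjective

omit [IsLocalRing A] in
theorem algebraMap_red_normRed_injective :
    Function.Injective (algebraMap (CAlg2.red A) (CAlg2.normRed A)) := by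
  have h2 : Function.Injective (algebraMap (CAlg2.red A) (FractionRing (CAlg2.red A))) :=
    IsFractionRing.injective _ _
  intro a b hab
  apply h2
  have := congrArg (Subalgebra.val _) hab
  simpa using this

theorem isLocalHom_red_normRed [IsLocalRing (CAlg2.normRed A)] :
    IsLocalHom (algebraMap (CAlg2.red A) (CAlg2.normRed A)) := by
  have hmax : ((maximalIdeal (CAlg2.normRed A)).comap
      (algebraMap (CAlg2.red A) (CAlg2.normRed A))).IsMaximal :=
    Ideal.isMaximal_comap_of_isIntegral_of_isMaximal _
  exact ((IsLocalRing.local_hom_TFAE (algebraMap (CAlg2.red A) (CAlg2.normRed A))).out 0 4).mpr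
    (IsLocalRing.eq_maximalIdeal hmax)

theorem exists_fraction_red_normRed (b : CAlg2.normRed A) :
    ∃ d : CAlg2.red A, d ≠ 0 ∧ ∃ r : CAlg2.red A,
      algebraMap (CAlg2.red A) (CAlg2.normRed A) r = d • b := by
  obtain ⟨⟨r₀, d₀⟩, h⟩ := IsLocalization.surj (nonZeroDivisors (CAlg2.red A))
    ((b : FractionRing (CAlg2.red A)))
  simp only at h
  refine ⟨d₀, nonZeroDivisors.ne_zero d₀.2, r₀, ?_⟩
  apply Subtype.ext
  change algebraMap (CAlg2.red A) (FractionRing (CAlg2.red A)) r₀ = _
  change _ = (d₀ : CAlg2.red A) • (b : FractionRing (CAlg2.red A))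
  rw [Algebra.smul_def, ← h, mul_comm]

end

/-- A local ring is unibranch iff its henselization has a unique minimal prime. -/
theorem isUnibranch_iff_hasUniqueMinimalPrime {A Ah : Type u} [CommRing A] [IsLocalRing A]
    [CommRing Ah] [IsLocalRing Ah] [Algebra A Ah] [IsLocalHom (algebraMap A Ah)]
    [Hensel.IsHenselization A Ah] :
    CAlg2.IsUnibranch A ↔ CAlgX.HasUniqueMinimalPrime Ah := by
  have hS : Hensel.IsHenselization A Ah := inferInstance
  rw [hasUniqueMinimalPrime_iff_isPrime_nilradical,
    ← Groth.Agent.H3.HensUnion.map_nilradical (Or.inl hS)]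
  have hP := Groth.Agent.H3.HensIntegralBC.isPairHenselization_tensor_local A (CAlg2.red A) Ah hS
  haveI := Groth.Agent.H3.HensLocal.isLocalRing hP
  haveI := Groth.Agent.H3.HensLocal.isLocalHom hP
  have hH : Hensel.IsHenselization (CAlg2.red A) (CAlg2.red A ⊗[A] Ah) :=
    Groth.Agent.H3.HensLocal.isHenselization hP
  haveI := hH
  have hPS := Groth.Agent.H3.HensIso.isPairHenselization_of_isHenselization hH
  haveI hflat : Module.Flat (CAlg2.red A) (CAlg2.red A ⊗[A] Ah) :=
    Groth.Agent.H3.HensFlatMain.flat hPS
  haveI hff : Module.FaithfullyFlat (CAlg2.red A) (CAlg2.red A ⊗[A] Ah) :=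
    Module.FaithfullyFlat.of_flat_of_isLocalHom
  let e := Algebra.TensorProduct.quotIdealMapEquivQuotTensor Ah (nilradical A)
  have key : IsDomain (CAlg2.red A ⊗[A] Ah) ↔
      ((nilradical A).map (algebraMap A Ah)).IsPrime := by
    rw [← Ideal.Quotient.isDomain_iff_prime]
    exact ⟨fun h => e.toRingEquiv.toMulEquiv.isDomain _, fun h => e.symm.toRingEquiv.toMulEquiv.isDomain _⟩
  rw [← key]
  constructor
  · rintro ⟨hdom, hloc⟩
    haveI := hdom
    haveI := hloc
    haveI := isLocalHom_red_normRed A
    haveI := isIntegrallyClosed_normRed A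
    exact isDomain_of_normal_integral (CAlg2.red A) (CAlg2.red A ⊗[A] Ah) (CAlg2.normRed A)
      (algebraMap_red_normRed_injective A)
  · intro hdomS
    haveI := hdomS
    have hinjS : Function.Injective (algebraMap (CAlg2.red A) (CAlg2.red A ⊗[A] Ah)) :=
      FaithfulSMul.algebraMap_injective _ _
    haveI hdomR : IsDomain (CAlg2.red A) := hinjS.isDomain (algebraMap _ _)
    refine ⟨hdomR, ?_⟩
    haveI : HenselianLocalRing (CAlg2.red A ⊗[A] Ah) := hH.henselian
    exact isLocalRing_of_isDomain_of_birational (CAlg2.red A) (CAlg2.red A ⊗[A] Ah)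
      (CAlg2.normRed A) (algebraMap_red_normRed_injective A) (exists_fraction_red_normRed A)

end Groth.Agent.H14.HensProp.UniqueMin
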