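import Mathlib
import Groth.Prelude.Def_Hensel
import Groth.Prelude.Def_CAlg2
import Groth.Prelude.Def_CAlgX
import Groth.Agent.H14.HensProp.UniqueMin
import Groth.Agent.H14.HensProp.PiLocal

set_option autoImplicit false
set_option linter.style.haveILetI false
universe u

namespace Groth.Agent.H14.HensProp.StrictUni

open IsLocalRing TensorProduct Groth.Agent.H3.UnionEtale

/-- base change of a union of étale images -/
theorem isUnion_baseChange (R S B : Type u) [CommRing R] [CommRing S] [CommRing B] [Algebra R S]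
    [Algebra R B] (h : IsUnion R S) : IsUnion B (B ⊗[R] S) := by
  have key : ∀ z : B ⊗[R] S, ∃ t : Finset S, ∀ (A' : Type u) (_ : CommRing A') (_ : Algebra R A')
      (φ : A' →ₐ[R] S), (t : Set S) ⊆ Set.range φ →
        z ∈ Set.range (Algebra.TensorProduct.map (AlgHom.id B B) φ) := by
    classical
    intro z
    induction z using TensorProduct.induction_on with
    | zero => exact ⟨∅, fun A' _ _ φ _ => ⟨0, map_zero _⟩⟩
    | tmul b s =>
      refine ⟨{s}, fun A' _ _ φ hφ => ?_⟩
      obtain ⟨a, ha⟩ := hφ (show s ∈ ((({s} : Finset S)) : Set S) by simp)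
      exact ⟨b ⊗ₜ a, by simp [ha]⟩
    | add z₁ z₂ h₁ h₂ =>
      obtain ⟨t₁, h₁⟩ := h₁
      obtain ⟨t₂, h₂⟩ := h₂
      refine ⟨t₁ ∪ t₂, fun A' _ _ φ hφ => ?_⟩
      obtain ⟨y₁, hy₁⟩ := h₁ A' _ _ φ (fun x hx => hφ (by simp [Finset.mem_coe.mp hx]))
      obtain ⟨y₂, hy₂⟩ := h₂ A' _ _ φ (fun x hx => hφ (by simp [Finset.mem_coe.mp hx]))
      exact ⟨y₁ + y₂, by rw [map_add, hy₁, hy₂]⟩
  intro z
  obtain ⟨t, ht⟩ := key z
  obtain ⟨A', _, _, hN, φ, hφ⟩ := h.finset t
  refine ⟨B ⊗[R] A', _, _, inferInstance, Algebra.TensorProduct.map (AlgHom.id B B) φ, ?_⟩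
  intro x hx
  rw [Set.mem_singleton_iff.mp hx]
  exact ht A' _ _ φ hφ

/-- If `R → B` is an injective integral map to a normal local domain with purely inseparable
residue extension, then a flat local union of étale images `S` over `R` is a domain. -/
theorem isDomain_of_pi_normal (R S B : Type u) [CommRing R] [IsLocalRing R] [CommRing S]
    [IsLocalRing S] [Algebra R S] [IsLocalHom (algebraMap R S)] [Module.Flat R S]
    (hU : IsUnion R S) [CommRing B] [IsLocalRing B] [Algebra R B] [Algebra.IsIntegral R B]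
    [IsDomain B] [IsIntegrallyClosed B] (hinj : Function.Injective (algebraMap R B))
    (p : ℕ) (hp : p = 1 ∨ (p.Prime ∧ (p : B) ∈ maximalIdeal B))
    (hpi : ∀ x : B, ∃ (n : ℕ) (r : R), x ^ p ^ n - algebraMap R B r ∈ maximalIdeal B) :
    IsDomain S := by
  have hinjL : Function.Injective (Algebra.TensorProduct.includeLeft : S →ₐ[R] S ⊗[R] B) :=
    Algebra.TensorProduct.includeLeft_injective (S := R) hinj
  haveI : Nontrivial (S ⊗[R] B) := hinjL.nontrivial
  haveI hT : IsLocalRing (S ⊗[R] B) := PiLocal.isLocalRing_tensor R S B p hp hpi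
  let e : S ⊗[R] B ≃+* B ⊗[R] S := (Algebra.TensorProduct.comm R S B).toRingEquiv
  haveI : IsLocalRing (B ⊗[R] S) := e.isLocalRing
  haveI : IsLocalHom (algebraMap B (B ⊗[R] S)) := by
    refine ⟨fun b hb => ?_⟩
    by_contra hnu
    have hbm : b ∈ maximalIdeal B := (IsLocalRing.mem_maximalIdeal b).mpr hnu
    rw [← PiLocal.comap_includeRight_eq R S B (maximalIdeal (S ⊗[R] B)), Ideal.mem_comap] at hbm
    have hu : IsUnit ((Algebra.TensorProduct.includeRight : B →ₐ[R] S ⊗[R] B) b) := by
      have := hb.map e.symm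
      simpa [e] using this
    exact (IsLocalRing.mem_maximalIdeal _).mp hbm hu
  obtain ⟨hd, -⟩ := isDomain_and_isIntegrallyClosed (A := B) (B := B ⊗[R] S)
    (isUnion_baseChange R S B hU)
  have hinjR : Function.Injective (Algebra.TensorProduct.includeRight : S →ₐ[R] B ⊗[R] S) :=
    Algebra.TensorProduct.includeRight_injective hinj
  exact hinjR.isDomain (Algebra.TensorProduct.includeRight : S →ₐ[R] B ⊗[R] S).toRingHom

end Groth.Agent.H14.HensProp.StrictUni
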