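import Mathlib
import Groth.Prelude.Def_Hensel
import Groth.Agent.H14.HensProp.Unibranch3

set_option autoImplicit false
set_option linter.style.haveILetI false
universe u

namespace Groth.Agent.H14.HensProp.StrictUni

open IsLocalRing TensorProduct Polynomial

/-- `S ⊗ R[x]` is a local ring, for `S` a faithfully flat henselian local domain over the domain
`R` and `x` an integral element of a birational domain extension. -/
theorem isLocalRing_tensor_adjoin (R S B : Type u) [CommRing R] [IsDomain R]
    [CommRing S] [Algebra R S] [HenselianLocalRing S] [IsDomain S] [Module.FaithfullyFlat R S]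
    [CommRing B] [IsDomain B] [Algebra R B] [Algebra.IsIntegral R B]
    (hinj : Function.Injective (algebraMap R B))
    (hbir : ∀ b : B, ∃ d : R, d ≠ 0 ∧ ∃ r : R, algebraMap R B r = d • b) (x : B) :
    IsLocalRing (S ⊗[R] (Algebra.adjoin R {x} : Subalgebra R B)) := by
  let C : Subalgebra R B := Algebra.adjoin R {x}
  haveI : Module.Finite R C :=
    Module.Finite.iff_fg.mpr (Algebra.IsIntegral.isIntegral (R := R) x).fg_adjoin_singleton
  have hinjC : Function.Injective (algebraMap R C) := by
    intro a b hab
    apply hinj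
    have := congrArg (C.val) hab
    simpa using this
  have hbirC : ∀ c : C, ∃ d : R, d ≠ 0 ∧ ∃ r : R, algebraMap R C r = d • c := by
    intro c
    obtain ⟨d, hd, r, hr⟩ := hbir (c : B)
    exact ⟨d, hd, r, Subtype.ext (by simpa using hr)⟩
  obtain ⟨d, hd, hdC⟩ := exists_common_denominator R C hbirC
  haveI : IsDomain (S ⊗[R] C) := isDomain_tensor_of_birational R S C hinjC d hd hdC
  obtain ⟨ι, _, A, _, hloc, ⟨φ⟩⟩ := Groth.Agent.S0499.result S (S ⊗[R] C)
  exact isLocalRing_of_ringEquiv_pi_of_isDomain _ ι A hloc φ

/-- **Residue field of the normalization is purely inseparable** when a strictly henselian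
faithfully flat local `R`-algebra is a domain. -/
theorem isPurelyInseparable_residueField (R S B : Type u) [CommRing R] [IsDomain R] [IsLocalRing R]
    [CommRing S] [Algebra R S] [HenselianLocalRing S] [IsDomain S] [Module.FaithfullyFlat R S]
    [IsLocalHom (algebraMap R S)] [IsSepClosed (ResidueField S)]
    [CommRing B] [IsDomain B] [IsLocalRing B] [Algebra R B] [Algebra.IsIntegral R B]
    [IsLocalHom (algebraMap R B)]
    (hinj : Function.Injective (algebraMap R B))
    (hbir : ∀ b : B, ∃ d : R, d ≠ 0 ∧ ∃ r : R, algebraMap R B r = d • b) :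
    IsPurelyInseparable (ResidueField R) (ResidueField B) := by
  have hint : Algebra.IsIntegral (ResidueField R) (ResidueField B) := ⟨fun y => by
    obtain ⟨b, rfl⟩ := residue_surjective y
    exact (Algebra.IsIntegral.isIntegral (R := R) b).map_of_comp_eq (residue R) (residue B)
      (by ext r; rfl)⟩
  refine ⟨hint, fun y hy => ?_⟩
  classical
  by_contra hyr
  have hdeg : 2 ≤ (minpoly (ResidueField R) y).natDegree := by
    by_contra h
    rw [not_le] at h
    have h1 : (minpoly (ResidueField R) y).natDegree = 1 := by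
      have := minpoly.natDegree_pos (hint.isIntegral y)
      omega
    exact hyr (minpoly.natDegree_eq_one_iff.mp h1)
  -- two distinct roots in the residue field of `S`
  have hsepK : ((minpoly (ResidueField R) y).map
      (algebraMap (ResidueField R) (ResidueField S))).Separable :=
    Polynomial.Separable.map hy
  have hsplit := IsSepClosed.splits_of_separable _ hsepK
  have hcard := (Polynomial.splits_iff_card_roots).mp hsplit
  have hnodup := Polynomial.nodup_roots hsepK
  obtain ⟨α₁, α₂, hα₁, hα₂, hne⟩ : ∃ α₁ α₂ : ResidueField S,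
      α₁ ∈ ((minpoly (ResidueField R) y).map
        (algebraMap (ResidueField R) (ResidueField S))).roots ∧
      α₂ ∈ ((minpoly (ResidueField R) y).map
        (algebraMap (ResidueField R) (ResidueField S))).roots ∧ α₁ ≠ α₂ := by
    have h2 : 1 < ((minpoly (ResidueField R) y).map
        (algebraMap (ResidueField R) (ResidueField S))).roots.toFinset.card := by
      rw [Multiset.toFinset_card_of_nodup hnodup, hcard, natDegree_map]
      omega
    obtain ⟨a, ha, b, hb, hab⟩ := Finset.one_lt_card.mp h2
    exact ⟨a, b, Multiset.mem_toFinset.mp ha, Multiset.mem_toFinset.mp hb, hab⟩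
  -- embeddings into an algebraic closure
  have hroot : ∀ α ∈ ((minpoly (ResidueField R) y).map
        (algebraMap (ResidueField R) (ResidueField S))).roots,
      aeval (algebraMap (ResidueField S) (AlgebraicClosure (ResidueField S)) α)
        (minpoly (ResidueField R) y) = 0 := by
    intro α hα
    have h3 := (Polynomial.mem_roots'.mp hα).2
    rw [IsRoot.def, eval_map, ← aeval_def] at h3
    rw [aeval_algebraMap_apply, h3, map_zero]
  have hK' : ∀ s : ResidueField B, IsIntegral (ResidueField R) s ∧
      ((minpoly (ResidueField R) s).map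
        (algebraMap (ResidueField R) (AlgebraicClosure (ResidueField S)))).Splits :=
    fun s => ⟨hint.isIntegral s, IsAlgClosed.splits _⟩
  obtain ⟨σ₁, hσ₁⟩ := IntermediateField.exists_algHom_of_splits_of_aeval hK' (hroot α₁ hα₁)
  obtain ⟨σ₂, hσ₂⟩ := IntermediateField.exists_algHom_of_splits_of_aeval hK' (hroot α₂ hα₂)
  obtain ⟨b, rfl⟩ := residue_surjective y
  obtain ⟨s₁, rfl⟩ := residue_surjective α₁
  haveI hT := isLocalRing_tensor_adjoin R S B hinj hbir b
  let C : Subalgebra R B := Algebra.adjoin R {b}
  haveI : Module.Finite R C :=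
    Module.Finite.iff_fg.mpr (Algebra.IsIntegral.isIntegral (R := R) b).fg_adjoin_singleton
  haveI : Algebra.IsIntegral R C := Algebra.IsIntegral.of_finite R C
  let bC : C := ⟨b, Algebra.subset_adjoin (Set.mem_singleton b)⟩
  let g₁ : S →ₐ[R] AlgebraicClosure (ResidueField S) :=
    IsScalarTower.toAlgHom R S (AlgebraicClosure (ResidueField S))
  let g₂ : (σ : ResidueField B →ₐ[ResidueField R] AlgebraicClosure (ResidueField S)) →
      C →ₐ[R] AlgebraicClosure (ResidueField S) := fun σ =>
    (σ.restrictScalars R).comp ((IsScalarTower.toAlgHom R B (ResidueField B)).comp C.val)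
  let Ψ : (σ : ResidueField B →ₐ[ResidueField R] AlgebraicClosure (ResidueField S)) →
      S ⊗[R] C →ₐ[R] AlgebraicClosure (ResidueField S) := fun σ =>
    Algebra.TensorProduct.lift g₁ (g₂ σ) (fun _ _ => Commute.all _ _)
  have hker : ∀ σ, RingHom.ker (Ψ σ) = maximalIdeal (S ⊗[R] C) := by
    intro σ
    haveI hP : (RingHom.ker (Ψ σ)).IsPrime := RingHom.ker_isPrime _
    have h4 : maximalIdeal S ≤ (RingHom.ker (Ψ σ)).comap (algebraMap S (S ⊗[R] C)) := by
      intro s hs
      rw [Ideal.mem_comap, RingHom.mem_ker, Algebra.TensorProduct.algebraMap_apply,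
        Algebra.algebraMap_self_apply]
      change Ψ σ (s ⊗ₜ 1) = 0
      rw [Algebra.TensorProduct.lift_tmul, map_one, mul_one]
      change algebraMap S (AlgebraicClosure (ResidueField S)) s = 0
      rw [IsScalarTower.algebraMap_apply S (ResidueField S) (AlgebraicClosure (ResidueField S)),
        ResidueField.algebraMap_eq, (residue_eq_zero_iff s).mpr hs, map_zero]
    have h5 : (RingHom.ker (Ψ σ)).comap (algebraMap S (S ⊗[R] C)) = maximalIdeal S := by
      have hne' : (RingHom.ker (Ψ σ)).comap (algebraMap S (S ⊗[R] C)) ≠ ⊤ :=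
        (Ideal.comap_isPrime _ _).ne_top
      exact ((maximalIdeal.isMaximal S).eq_of_le hne' h4).symm
    have h6 : (RingHom.ker (Ψ σ)).IsMaximal := by
      apply Ideal.isMaximal_of_isIntegral_of_isMaximal_comap (R := S)
      rw [h5]
      exact maximalIdeal.isMaximal S
    exact IsLocalRing.eq_maximalIdeal h6
  let t : S ⊗[R] C := (1 : S) ⊗ₜ[R] bC - s₁ ⊗ₜ[R] (1 : C)
  have hΨt : ∀ σ, Ψ σ t = σ (residue B b) -
      algebraMap (ResidueField S) (AlgebraicClosure (ResidueField S)) (residue S s₁) := by
    intro σ
    change Ψ σ ((1 : S) ⊗ₜ[R] bC - s₁ ⊗ₜ[R] (1 : C)) = _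
    rw [map_sub, Algebra.TensorProduct.lift_tmul, Algebra.TensorProduct.lift_tmul, map_one,
      map_one, one_mul, mul_one]
    rfl
  have h7 : t ∈ RingHom.ker (Ψ σ₁) := by
    rw [RingHom.mem_ker, hΨt, hσ₁, sub_self]
  rw [hker σ₁, ← hker σ₂, RingHom.mem_ker, hΨt, hσ₂, sub_eq_zero] at h7
  exact hne ((algebraMap (ResidueField S) (AlgebraicClosure (ResidueField S))).injective h7).symm

end Groth.Agent.H14.HensProp.StrictUni
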