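import Mathlib
import Groth.Prelude.Def_Hensel
import Groth.Prelude.Def_CAlg2
import Groth.Prelude.Def_CAlgX
import Groth.Agent.H14.HensProp.StrictUni1
import Groth.Agent.H14.HensProp.StrictUni2
import Groth.Agent.H3.Henselization

set_option autoImplicit false
set_option linter.style.haveILetI false
universe u

namespace Groth.Agent.H14.HensProp.StrictUni

open IsLocalRing TensorProduct Polynomial Groth.Agent.H3.UnionEtale
open Groth.Agent.H14.HensProp.UniqueMin

theorem isSepClosed_of_ringEquiv {K K' : Type u} [Field K] [Field K'] (E : K ≃+* K')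
    [IsSepClosed K] : IsSepClosed K' := by
  refine ⟨fun p hp => ?_⟩
  have h1 : (p.map E.symm.toRingHom).Separable := hp.map
  have h2 := IsSepClosed.splits_of_separable _ h1
  have h3 := h2.map E.toRingHom
  rw [Polynomial.map_map] at h3
  have h4 : E.toRingHom.comp E.symm.toRingHom = RingHom.id K' := by
    ext x
    simp
  rwa [h4, Polynomial.map_id] at h3

section G

variable (A : Type u) [CommRing A] [IsLocalRing A]
  (S' : Type u) [CommRing S'] [Algebra (CAlg2.red A) S'] [HenselianLocalRing S']
  [IsLocalHom (algebraMap (CAlg2.red A) S')] [Module.FaithfullyFlat (CAlg2.red A) S']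
  [IsSepClosed (ResidueField S')]

/-- geometric unibranchness is detected by any strictly henselian faithfully flat local union of
étale images over the reduction. -/
theorem isGeomUnibranch_iff_isDomain (hU : IsUnion (CAlg2.red A) S') :
    CAlg2.IsGeomUnibranch A ↔ IsDomain S' := by
  constructor
  · rintro ⟨⟨hdom, hloc⟩, hpi'⟩
    haveI := hdom
    haveI := hloc
    haveI := isIntegrallyClosed_normRed A
    obtain ⟨p, hpdef⟩ : ∃ p : ℕ, p = ringExpChar (CAlg2.normRed A ⧸ maximalIdeal (CAlg2.normRed A)) :=
      ⟨_, rfl⟩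
    haveI hE : ExpChar (CAlg2.normRed A ⧸ maximalIdeal (CAlg2.normRed A)) p :=
      hpdef ▸ ringExpChar.expChar _
    have hp : p = 1 ∨ (p.Prime ∧ (p : CAlg2.normRed A) ∈ maximalIdeal (CAlg2.normRed A)) := by
      cases hE with
      | zero => exact Or.inl rfl
      | prime hprime =>
        refine Or.inr ⟨hprime, ?_⟩
        rw [← Ideal.Quotient.eq_zero_iff_mem, map_natCast]
        exact CharP.cast_eq_zero _ p
    have hpi : ∀ x : CAlg2.normRed A, ∃ (n : ℕ) (r : CAlg2.red A),
        x ^ p ^ n - algebraMap (CAlg2.red A) (CAlg2.normRed A) r ∈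
          maximalIdeal (CAlg2.normRed A) := by
      intro x
      obtain ⟨n, a, ha⟩ := hpi' (maximalIdeal (CAlg2.normRed A))
        (Ideal.Quotient.mk (maximalIdeal (CAlg2.normRed A)) x)
      refine ⟨n, Ideal.Quotient.mk (nilradical A) a, ?_⟩
      rw [← hpdef, ← map_pow] at ha
      rw [← Ideal.Quotient.eq]
      exact ha.symm
    exact isDomain_of_pi_normal (CAlg2.red A) S' (CAlg2.normRed A) hU
      (algebraMap_red_normRed_injective A) p hp hpi
  · intro hdomS
    haveI := hdomS
    have hinjS : Function.Injective (algebraMap (CAlg2.red A) S') :=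
      FaithfulSMul.algebraMap_injective _ _
    haveI hdomR : IsDomain (CAlg2.red A) := hinjS.isDomain (algebraMap _ _)
    haveI hloc : IsLocalRing (CAlg2.normRed A) :=
      isLocalRing_of_isDomain_of_birational (CAlg2.red A) S' (CAlg2.normRed A)
        (algebraMap_red_normRed_injective A) (exists_fraction_red_normRed A)
    haveI := isLocalHom_red_normRed A
    have hpi := isPurelyInseparable_residueField (CAlg2.red A) S' (CAlg2.normRed A)
      (algebraMap_red_normRed_injective A) (exists_fraction_red_normRed A)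
    refine ⟨⟨hdomR, hloc⟩, ?_⟩
    intro m' hm'
    obtain rfl : m' = maximalIdeal (CAlg2.normRed A) := IsLocalRing.eq_maximalIdeal hm'
    intro x
    haveI hE1 : ExpChar (ResidueField (CAlg2.red A)) (ringExpChar (ResidueField (CAlg2.red A))) :=
      ringExpChar.expChar _
    haveI hE2 : ExpChar (ResidueField (CAlg2.normRed A))
        (ringExpChar (ResidueField (CAlg2.red A))) :=
      expChar_of_injective_algebraMap
        (algebraMap (ResidueField (CAlg2.red A)) (ResidueField (CAlg2.normRed A))).injective _
    have hq : ringExpChar (CAlg2.normRed A ⧸ maximalIdeal (CAlg2.normRed A)) =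
        ringExpChar (ResidueField (CAlg2.red A)) :=
      ringExpChar.eq (ResidueField (CAlg2.normRed A)) _
    let x' : ResidueField (CAlg2.normRed A) := x
    obtain ⟨n, k, hk⟩ := IsPurelyInseparable.pow_mem (ResidueField (CAlg2.red A))
      (ringExpChar (ResidueField (CAlg2.red A))) x'
    obtain ⟨r, rfl⟩ := residue_surjective k
    obtain ⟨a, rfl⟩ := Ideal.Quotient.mk_surjective r
    refine ⟨n, a, ?_⟩
    rw [hq]
    exact hk

end G

section Package

variable (A Ash : Type u) [CommRing A] [IsLocalRing A] [CommRing Ash] [IsLocalRing Ash]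
  [Algebra A Ash] [IsLocalHom (algebraMap A Ash)]

omit [IsLocalRing A] [IsLocalHom (algebraMap A Ash)] in
theorem map_nilradical_le : (nilradical A).map (algebraMap A Ash) ≤ maximalIdeal Ash := by
  rw [Ideal.map_le_iff_le_comap]
  intro a ha
  rw [Ideal.mem_comap]
  have h1 : IsNilpotent (algebraMap A Ash a) := (mem_nilradical.mp ha).map _
  exact nilradical_le_maximalIdeal Ash (mem_nilradical.mpr h1)

omit [IsLocalRing A] [IsLocalHom (algebraMap A Ash)] in
theorem map_nilradical_ne_top : (nilradical A).map (algebraMap A Ash) ≠ ⊤ := by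
  intro h
  have h1 := map_nilradical_le A Ash
  rw [h] at h1
  exact (maximalIdeal.isMaximal Ash).ne_top (top_le_iff.mp h1)

instance nontrivial_Q : Nontrivial (Ash ⧸ (nilradical A).map (algebraMap A Ash)) :=
  Ideal.Quotient.nontrivial_iff.mpr (map_nilradical_ne_top A Ash)

instance isLocalRing_Q : IsLocalRing (Ash ⧸ (nilradical A).map (algebraMap A Ash)) :=
  IsLocalRing.of_surjective' (Ideal.Quotient.mk _) Ideal.Quotient.mk_surjective

instance isLocalHom_Q :
    IsLocalHom (algebraMap (CAlg2.red A) (Ash ⧸ (nilradical A).map (algebraMap A Ash))) := by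
  refine ⟨fun r hr => ?_⟩
  obtain ⟨a, rfl⟩ := Ideal.Quotient.mk_surjective r
  rw [Ideal.Quotient.algebraMap_quotient_map_quotient] at hr
  haveI : IsLocalHom (Ideal.Quotient.mk ((nilradical A).map (algebraMap A Ash))) :=
    IsLocalHom.of_surjective _ Ideal.Quotient.mk_surjective
  have h1 : IsUnit (algebraMap A Ash a) := IsUnit.of_map (Ideal.Quotient.mk _) _ hr
  exact (IsUnit.of_map (algebraMap A Ash) a h1).map _

omit [IsLocalRing A] [IsLocalRing Ash] [IsLocalHom (algebraMap A Ash)] in
theorem flat_Q [Module.Flat A Ash] :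
    Module.Flat (CAlg2.red A) (Ash ⧸ (nilradical A).map (algebraMap A Ash)) :=
  Module.Flat.of_linearEquiv
    (Algebra.TensorProduct.quotIdealMapEquivQuotTensor Ash (nilradical A)).toLinearEquiv

omit [IsLocalRing A] [IsLocalRing Ash] [IsLocalHom (algebraMap A Ash)] in
theorem isUnion_Q (hU : IsUnion A Ash) :
    IsUnion (CAlg2.red A) (Ash ⧸ (nilradical A).map (algebraMap A Ash)) := by
  intro x
  obtain ⟨A', _, _, hN, φ, hφ⟩ := isUnion_baseChange A Ash (CAlg2.red A) hU
    (Algebra.TensorProduct.quotIdealMapEquivQuotTensor Ash (nilradical A) x)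
  refine ⟨A', _, _, hN,
    (Algebra.TensorProduct.quotIdealMapEquivQuotTensor Ash (nilradical A)).symm.toAlgHom.comp φ, ?_⟩
  intro z hz
  rw [Set.mem_singleton_iff.mp hz]
  obtain ⟨y, hy⟩ := hφ rfl
  exact ⟨y, by simp [hy]⟩

omit [IsLocalRing A] [IsLocalHom (algebraMap A Ash)] in
theorem isSepClosed_Q [IsSepClosed (ResidueField Ash)] :
    IsSepClosed (ResidueField (Ash ⧸ (nilradical A).map (algebraMap A Ash))) := by
  haveI : IsLocalHom (Ideal.Quotient.mk ((nilradical A).map (algebraMap A Ash))) :=
    IsLocalHom.of_surjective _ Ideal.Quotient.mk_surjective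
  let g := ResidueField.map (Ideal.Quotient.mk ((nilradical A).map (algebraMap A Ash)))
  have hg : Function.Bijective g := by
    refine ⟨g.injective, fun y => ?_⟩
    obtain ⟨q, rfl⟩ := residue_surjective y
    obtain ⟨s, rfl⟩ := Ideal.Quotient.mk_surjective q
    exact ⟨residue Ash s, rfl⟩
  exact isSepClosed_of_ringEquiv (RingEquiv.ofBijective g hg)

end Package

/-- A local ring is geometrically unibranch iff its strict henselization has a unique minimal
prime. -/
theorem isGeomUnibranch_iff_hasUniqueMinimalPrime {A Ash : Type u} [CommRing A] [IsLocalRing A]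
    [CommRing Ash] [IsLocalRing Ash] [Algebra A Ash] [IsLocalHom (algebraMap A Ash)]
    [Hensel.IsStrictHenselization A Ash] :
    CAlg2.IsGeomUnibranch A ↔ CAlgX.HasUniqueMinimalPrime Ash := by
  have hS : Hensel.IsStrictHenselization A Ash := inferInstance
  obtain ⟨hU, hff⟩ := Groth.Agent.H3.HensUnion.package (Or.inr hS)
  rw [hasUniqueMinimalPrime_iff_isPrime_nilradical,
    ← Groth.Agent.H3.HensUnion.map_nilradical (Or.inr hS), ← Ideal.Quotient.isDomain_iff_prime]
  haveI : HenselianLocalRing Ash := hS.henselian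
  haveI : HenselianLocalRing (Ash ⧸ (nilradical A).map (algebraMap A Ash)) :=
    Groth.Agent.H3.henselianLocalRing_quotient Ash _ (map_nilradical_ne_top A Ash)
  haveI := flat_Q A Ash
  haveI : Module.FaithfullyFlat (CAlg2.red A) (Ash ⧸ (nilradical A).map (algebraMap A Ash)) :=
    Module.FaithfullyFlat.of_flat_of_isLocalHom
  haveI : IsSepClosed (ResidueField Ash) := hS.isSepClosure.sep_closed
  haveI := isSepClosed_Q A Ash
  exact isGeomUnibranch_iff_isDomain A _ (isUnion_Q A Ash hU)

/-- **EGA IV 18.8.15.** A local ring is reduced and geometrically unibranch iff its strict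
henselization is a domain. -/
theorem reduced_isGeomUnibranch_iff_isDomain (R S : Type u) [CommRing R] [IsLocalRing R]
    [CommRing S] [IsLocalRing S] [Algebra R S] [IsLocalHom (algebraMap R S)]
    [Hensel.IsStrictHenselization R S] :
    (IsReduced R ∧ CAlg2.IsGeomUnibranch R) ↔ IsDomain S := by
  have hS : Hensel.IsStrictHenselization R S := inferInstance
  obtain ⟨hU, hff⟩ := Groth.Agent.H3.HensUnion.package (Or.inr hS)
  rw [isGeomUnibranch_iff_hasUniqueMinimalPrime (Ash := S),
    hasUniqueMinimalPrime_iff_isPrime_nilradical]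
  constructor
  · rintro ⟨hred, hprime⟩
    haveI := hred
    haveI : IsReduced S := (Groth.Agent.H3.HensUnion.isReduced_iff (Or.inr hS)).mpr hred
    rw [nilradical_eq_zero] at hprime
    haveI : NoZeroDivisors S := ⟨fun {a b} hab => by
      have h1 : a * b ∈ (⊥ : Ideal S) := by rw [hab]; exact Ideal.zero_mem _
      rcases hprime.mem_or_mem h1 with h | h
      · exact Or.inl ((Ideal.mem_bot).mp h)
      · exact Or.inr ((Ideal.mem_bot).mp h)⟩
    exact NoZeroDivisors.to_isDomain S
  · intro hdom
    haveI := hdom
    have hinj : Function.Injective (algebraMap R S) := FaithfulSMul.algebraMap_injective R S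
    refine ⟨isReduced_of_injective (algebraMap R S) hinj, ?_⟩
    rw [nilradical_eq_zero]
    exact Ideal.isPrime_bot

end Groth.Agent.H14.HensProp.StrictUni
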