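import Mathlib
import Groth.Prelude.Def_Hensel
import Groth.Prelude.Def_CAlg2
import Groth.Agent.H14.HensProp.StrictUni3
import Groth.Agent.H3.StrictHensMain

set_option autoImplicit false
set_option linter.style.haveILetI false
universe u

namespace Groth.Agent.H14.HensProp.EtUni

open IsLocalRing TensorProduct Groth.Agent.H3.UnionEtale
open Groth.Agent.H14.HensProp.UniqueMin Groth.Agent.H14.HensProp.StrictUni

/-- the purely inseparable data of a geometrically unibranch local ring -/
theorem exists_pi_data (A : Type u) [CommRing A] [IsLocalRing A] (h : CAlg2.IsGeomUnibranch A)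
    [IsLocalRing (CAlg2.normRed A)] :
    ∃ p : ℕ, (p = 1 ∨ (p.Prime ∧ (p : CAlg2.normRed A) ∈ maximalIdeal (CAlg2.normRed A))) ∧
      ∀ x : CAlg2.normRed A, ∃ (n : ℕ) (a : A),
        x ^ p ^ n - algebraMap A (CAlg2.normRed A) a ∈ maximalIdeal (CAlg2.normRed A) := by
  obtain ⟨⟨hdom, hloc⟩, hpi'⟩ := h
  obtain ⟨p, hpdef⟩ : ∃ p : ℕ, p = ringExpChar (CAlg2.normRed A ⧸ maximalIdeal (CAlg2.normRed A)) :=
    ⟨_, rfl⟩
  haveI hE : ExpChar (CAlg2.normRed A ⧸ maximalIdeal (CAlg2.normRed A)) p :=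
    hpdef ▸ ringExpChar.expChar _
  refine ⟨p, ?_, ?_⟩
  · cases hE with
    | zero => exact Or.inl rfl
    | prime hprime =>
      refine Or.inr ⟨hprime, ?_⟩
      rw [← Ideal.Quotient.eq_zero_iff_mem, map_natCast]
      exact CharP.cast_eq_zero _ p
  · intro x
    obtain ⟨n, a, ha⟩ := hpi' (maximalIdeal (CAlg2.normRed A))
      (Ideal.Quotient.mk (maximalIdeal (CAlg2.normRed A)) x)
    refine ⟨n, a, ?_⟩
    rw [← hpdef, ← map_pow] at ha
    rw [← Ideal.Quotient.eq]
    exact ha.symm

/-- the tensor product of a flat local union of étale images with a normal local domain which is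
integral with purely inseparable residue field extension is a normal local domain -/
theorem normal_tensor (R S B : Type u) [CommRing R] [IsLocalRing R] [CommRing S]
    [IsLocalRing S] [Algebra R S] [IsLocalHom (algebraMap R S)] [Module.Flat R S]
    (hU : IsUnion R S) [CommRing B] [IsLocalRing B] [Algebra R B] [Algebra.IsIntegral R B]
    [IsDomain B] [IsIntegrallyClosed B] (hinj : Function.Injective (algebraMap R B))
    (p : ℕ) (hp : p = 1 ∨ (p.Prime ∧ (p : B) ∈ maximalIdeal B))
    (hpi : ∀ x : B, ∃ (n : ℕ) (r : R), x ^ p ^ n - algebraMap R B r ∈ maximalIdeal B) :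
    IsLocalRing (S ⊗[R] B) ∧ IsDomain (S ⊗[R] B) ∧ IsIntegrallyClosed (S ⊗[R] B) := by
  have hinjL : Function.Injective (Algebra.TensorProduct.includeLeft : S →ₐ[R] S ⊗[R] B) :=
    Algebra.TensorProduct.includeLeft_injective (S := R) hinj
  haveI : Nontrivial (S ⊗[R] B) := hinjL.nontrivial
  haveI hT : IsLocalRing (S ⊗[R] B) := PiLocal.isLocalRing_tensor R S B p hp hpi
  let e : S ⊗[R] B ≃+* B ⊗[R] S := (Algebra.TensorProduct.comm R S B).toRingEquiv
  haveI : IsLocalRing (B ⊗[R] S) := e.isLocalRing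
  haveI : IsLocalHom (algebraMap B (B ⊗[R] S)) := by
    refine ⟨fun b hb => ?_⟩
    by_contra hnu
    have hbm : b ∈ maximalIdeal B := (IsLocalRing.mem_maximalIdeal b).mpr hnu
    rw [← PiLocal.comap_includeRight_eq R S B (maximalIdeal (S ⊗[R] B)), Ideal.mem_comap] at hbm
    have hu : IsUnit ((Algebra.TensorProduct.includeRight : B →ₐ[R] S ⊗[R] B) b) := by
      have := hb.map e.symm
      simpa [e] using this
    exact (IsLocalRing.mem_maximalIdeal _).mp hbm hu
  obtain ⟨hd, hic⟩ := isDomain_and_isIntegrallyClosed (A := B) (B := B ⊗[R] S)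
    (isUnion_baseChange R S B hU)
  haveI := hd
  haveI := hic
  exact ⟨hT, e.toMulEquiv.isDomain _, IsIntegrallyClosed.of_equiv e.symm⟩

/-- **Étale-local rings over a geometrically unibranch reduced local ring** are geometrically
unibranch domains (EGA IV 18.8.15 / 18.6.? consequences): more generally any flat local union of
étale images. -/
theorem isDomain_and_isGeomUnibranch (A S' : Type u) [CommRing A] [IsLocalRing A] [IsReduced A]
    (hA : CAlg2.IsGeomUnibranch A) [CommRing S'] [IsLocalRing S'] [Algebra A S']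
    [IsLocalHom (algebraMap A S')] [Module.Flat A S'] (hU : IsUnion A S') :
    IsDomain S' ∧ CAlg2.IsGeomUnibranch S' := by
  haveI hdom : IsDomain (CAlg2.red A) := hA.1.1
  haveI hloc : IsLocalRing (CAlg2.normRed A) := hA.1.2
  haveI := isIntegrallyClosed_normRed A
  obtain ⟨p, hp, hpi⟩ := exists_pi_data A hA
  have hinj := algebraMap_normRed_injective A
  obtain ⟨hT, hdT, hicT⟩ := normal_tensor A S' (CAlg2.normRed A) hU hinj p hp hpi
  haveI := hT
  haveI := hdT
  haveI := hicT
  have hinjL : Function.Injective (algebraMap S' (S' ⊗[A] CAlg2.normRed A)) :=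
    Algebra.TensorProduct.includeLeft_injective (S := A) hinj
  haveI hdS : IsDomain S' := hinjL.isDomain (algebraMap S' (S' ⊗[A] CAlg2.normRed A))
  refine ⟨hdS, ?_⟩
  -- strict henselization of `S'`
  have hSH := Groth.Agent.H3.SH.isStrictHenselization S'
  obtain ⟨hU', hff'⟩ := Groth.Agent.H3.HensUnion.package (Or.inr hSH)
  obtain ⟨hJ, -⟩ := PiLocal.J_le_of_isMaximal A S' (CAlg2.normRed A)
    (maximalIdeal (S' ⊗[A] CAlg2.normRed A))
  have hp' : p = 1 ∨ (p.Prime ∧ (p : S' ⊗[A] CAlg2.normRed A) ∈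
      maximalIdeal (S' ⊗[A] CAlg2.normRed A)) := by
    rcases hp with h | ⟨hprime, hmem⟩
    · exact Or.inl h
    · refine Or.inr ⟨hprime, hJ ?_⟩
      have : ((p : ℕ) : S' ⊗[A] CAlg2.normRed A) =
          (Algebra.TensorProduct.includeRight : CAlg2.normRed A →ₐ[A] S' ⊗[A] CAlg2.normRed A)
            (p : CAlg2.normRed A) := by simp
      rw [this]
      exact Ideal.mem_sup_right (Ideal.mem_map_of_mem _ hmem)
  have hpi' : ∀ z : S' ⊗[A] CAlg2.normRed A, ∃ (n : ℕ) (r : S'),
      z ^ p ^ n - algebraMap S' (S' ⊗[A] CAlg2.normRed A) r ∈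
        maximalIdeal (S' ⊗[A] CAlg2.normRed A) := by
    intro z
    obtain ⟨n, a, hna⟩ := PiLocal.exists_pow_eq A S' (CAlg2.normRed A) p hp hpi z
    rw [← map_pow, Ideal.Quotient.eq] at hna
    exact ⟨n, a, hJ hna⟩
  haveI : IsDomain (Groth.Agent.H3.SH.S S') :=
    isDomain_of_pi_normal S' (Groth.Agent.H3.SH.S S') (S' ⊗[A] CAlg2.normRed A) hU' hinjL p hp' hpi'
  haveI := hSH
  exact ((reduced_isGeomUnibranch_iff_isDomain S' (Groth.Agent.H3.SH.S S')).mpr inferInstance).2

end Groth.Agent.H14.HensProp.EtUni
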