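import Mathlib
import Groth.Prelude.Def_CAlg2
import Groth.Agent.H14.HensProp.EtUni

set_option autoImplicit false
set_option linter.style.haveILetI false
universe u

namespace Groth.Agent.H14.HensProp.EtLoc

open IsLocalRing TensorProduct Groth.Agent.H3.UnionEtale

/-- a localization of an étale `A`-algebra, seen over any `A`-algebra `R` through which it factors,
is a union of étale images over `R` -/
theorem isUnion_of_isLocalization (A R C S' : Type u) [CommRing A] [CommRing R] [CommRing C]
    [CommRing S'] [Algebra A R] [Algebra A C] [Algebra A S'] [Algebra R S'] [Algebra C S']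
    [IsScalarTower A R S'] [IsScalarTower A C S'] [Algebra.Etale A C] (M : Submonoid C)
    [IsLocalization M S'] : IsUnion R S' := by
  intro x
  obtain ⟨⟨c, s⟩, hcs⟩ := IsLocalization.surj M x
  simp only at hcs
  have hsu : IsUnit ((IsScalarTower.toAlgHom A C S') (s : C)) := IsLocalization.map_units S' s
  let ψ₀ : Localization.Away (s : C) →ₐ[A] S' := IsLocalization.Away.liftAlgHom (s : C) hsu
  haveI : Algebra.Etale C (Localization.Away (s : C)) := Algebra.Etale.of_isLocalizationAway (s : C)
  haveI : Algebra.Etale A (Localization.Away (s : C)) := Algebra.Etale.comp A C _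
  let Φ : R ⊗[A] Localization.Away (s : C) →ₐ[R] S' :=
    Algebra.TensorProduct.lift (Algebra.ofId R S') ψ₀ (fun _ _ => Commute.all _ _)
  refine ⟨R ⊗[A] Localization.Away (s : C), _, _, inferInstance, Φ, ?_⟩
  intro x' hx'
  rw [Set.mem_singleton_iff.mp hx']
  refine ⟨1 ⊗ₜ (algebraMap C _ c * IsLocalization.Away.invSelf (s : C)), ?_⟩
  have h1 : ∀ y : C, ψ₀ (algebraMap C _ y) = algebraMap C S' y := fun y =>
    IsLocalization.Away.lift_eq (s : C) hsu y
  have h2 : ψ₀ (IsLocalization.Away.invSelf (s : C)) * algebraMap C S' s = 1 := by
    rw [← h1, ← map_mul, mul_comm, IsLocalization.Away.mul_invSelf, map_one]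
  have h3 : Φ (1 ⊗ₜ (algebraMap C _ c * IsLocalization.Away.invSelf (s : C))) =
      algebraMap C S' c * ψ₀ (IsLocalization.Away.invSelf (s : C)) := by
    change Algebra.TensorProduct.lift _ _ _ _ = _
    rw [Algebra.TensorProduct.lift_tmul, map_one, one_mul, map_mul, h1]
  rw [h3]
  calc algebraMap C S' c * ψ₀ (IsLocalization.Away.invSelf (s : C))
      = x * algebraMap C S' s * ψ₀ (IsLocalization.Away.invSelf (s : C)) := by rw [hcs]
    _ = x * (ψ₀ (IsLocalization.Away.invSelf (s : C)) * algebraMap C S' s) := by ring
    _ = x := by rw [h2, mul_one]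

section AtPrime

variable (A C : Type u) [CommRing A] [CommRing C] [Algebra A C] [Algebra.Etale A C]
  (p : Ideal A) [p.IsPrime] (P : Ideal C) [P.IsPrime] [P.LiesOver p]

attribute [local instance] Localization.AtPrime.algebraOfLiesOver

/-- **Localizations of étale algebras over a geometrically unibranch reduced local ring** are
geometrically unibranch domains. -/
theorem isDomain_and_isGeomUnibranch_atPrime [IsReduced (Localization.AtPrime p)]
    (hA : CAlg2.IsGeomUnibranch (Localization.AtPrime p)) :
    IsDomain (Localization.AtPrime P) ∧ CAlg2.IsGeomUnibranch (Localization.AtPrime P) := by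
  haveI : IsLocalHom (algebraMap (Localization.AtPrime p) (Localization.AtPrime P)) := by
    rw [RingHom.algebraMap_toAlgebra]
    infer_instance
  haveI : Module.Flat A (Localization.AtPrime P) := Module.Flat.trans A C _
  haveI : Module.Flat (Localization.AtPrime p) (Localization.AtPrime P) :=
    (Module.flat_iff_of_isLocalization (Localization.AtPrime p) p.primeCompl
      (Localization.AtPrime P)).mpr inferInstance
  have hU : IsUnion (Localization.AtPrime p) (Localization.AtPrime P) :=
    isUnion_of_isLocalization A (Localization.AtPrime p) C (Localization.AtPrime P) P.primeCompl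
  exact EtUni.isDomain_and_isGeomUnibranch (Localization.AtPrime p) (Localization.AtPrime P) hA hU

end AtPrime

end Groth.Agent.H14.HensProp.EtLoc
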