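import Mathlib
import Groth.Prelude.Def_CAlg2
import Groth.Agent.H14.HensProp.EtLoc

set_option autoImplicit false
set_option linter.style.haveILetI false
universe u

namespace Groth.Agent.H14.HensProp.EtStalk

open AlgebraicGeometry CategoryTheory IsLocalRing Groth.Agent.H3.UnionEtale

variable {X Y : Scheme.{u}} (f : X ⟶ Y)

/-- For a morphism étale near a point, the local ring upstairs is a flat union of étale images
over the local ring downstairs. -/
theorem stalk_package (U : X.Opens) (hEt : Etale (U.ι ≫ f)) (x' : U) :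
    letI := (f.stalkMap (U.ι x')).hom.toAlgebra
    IsLocalHom (algebraMap (Y.presheaf.stalk (f (U.ι x'))) (X.presheaf.stalk (U.ι x'))) ∧
    Module.Flat (Y.presheaf.stalk (f (U.ι x'))) (X.presheaf.stalk (U.ι x')) ∧
    IsUnion (Y.presheaf.stalk (f (U.ι x'))) (X.presheaf.stalk (U.ι x')) := by
  letI := (f.stalkMap (U.ι x')).hom.toAlgebra
  have hloc : IsLocalHom (algebraMap (Y.presheaf.stalk (f (U.ι x')))
      (X.presheaf.stalk (U.ι x'))) :=
    inferInstanceAs <| IsLocalHom (f.stalkMap (U.ι x')).hom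
  have hfl : (f.stalkMap (U.ι x')).hom.Flat := by
    refine (RingHom.Flat.respectsIso.cancel_right_isIso _ (U.ι.stalkMap x')).symm.mpr ?_
    rw [← CommRingCat.hom_comp, ← Scheme.Hom.stalkMap_comp]
    exact Flat.stalkMap (U.ι ≫ f) x'
  refine ⟨hloc, hfl, ?_⟩
  -- affine charts
  obtain ⟨_, ⟨V, hV, rfl⟩, hyV, -⟩ :=
    Y.isBasis_affineOpens.exists_subset_of_mem_open (Set.mem_univ ((U.ι ≫ f) x')) isOpen_univ
  obtain ⟨_, ⟨W, hW, rfl⟩, hxW, hWV⟩ :=
    (U : Scheme).isBasis_affineOpens.exists_subset_of_mem_open hyV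
      (V.2.preimage (U.ι ≫ f).continuous)
  have hQ : ((U.ι ≫ f).appLE V W hWV).hom.Etale :=
    HasRingHomProperty.appLE @Etale (U.ι ≫ f) hEt ⟨V, hV⟩ ⟨W, hW⟩ hWV
  have hyV' : f (U.ι x') ∈ V := hyV
  letI algRC : Algebra Γ(Y, V) Γ(U, W) := ((U.ι ≫ f).appLE V W hWV).hom.toAlgebra
  haveI : Algebra.Etale Γ(Y, V) Γ(U, W) := hQ
  letI algRA : Algebra Γ(Y, V) (Y.presheaf.stalk (f (U.ι x'))) :=
    (Y.presheaf.germ V (f (U.ι x')) hyV').hom.toAlgebra
  letI algCS : Algebra Γ(U, W) (X.presheaf.stalk (U.ι x')) :=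
    ((inv (U.ι.stalkMap x')).hom.comp ((U : Scheme).presheaf.germ W x' hxW).hom).toAlgebra
  letI algRS : Algebra Γ(Y, V) (X.presheaf.stalk (U.ι x')) :=
    ((f.stalkMap (U.ι x')).hom.comp (Y.presheaf.germ V (f (U.ι x')) hyV').hom).toAlgebra
  haveI : IsScalarTower Γ(Y, V) (Y.presheaf.stalk (f (U.ι x'))) (X.presheaf.stalk (U.ι x')) :=
    IsScalarTower.of_algebraMap_eq' rfl
  have heq : Y.presheaf.germ V (f (U.ι x')) hyV' ≫ f.stalkMap (U.ι x') =
      (U.ι ≫ f).appLE V W hWV ≫ (U : Scheme).presheaf.germ W x' hxW ≫ inv (U.ι.stalkMap x') := by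
    rw [← Category.assoc, IsIso.eq_comp_inv, Category.assoc, ← Scheme.Hom.stalkMap_comp]
    refine (Scheme.Hom.germ_stalkMap (U.ι ≫ f) V x' hyV).trans ?_
    rw [Scheme.Hom.appLE, Category.assoc, TopCat.Presheaf.germ_res]
  haveI : IsScalarTower Γ(Y, V) Γ(U, W) (X.presheaf.stalk (U.ι x')) :=
    IsScalarTower.of_algebraMap_eq' (by
      have := congrArg CommRingCat.Hom.hom heq
      exact this)
  haveI : IsLocalization (hW.primeIdealOf ⟨x', hxW⟩).asIdeal.primeCompl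
      (X.presheaf.stalk (U.ι x')) := by
    have h1 := IsAffineOpen.isLocalization_stalk hW ⟨x', hxW⟩
    exact (@IsLocalization.isLocalization_iff_of_ringEquiv (R := Γ(U, W))
      (S := (U : Scheme).presheaf.stalk x') _ _ _
      (TopCat.Presheaf.algebra_section_stalk (U : Scheme).presheaf (⟨x', hxW⟩ : W)) _ _
      (asIso (inv (U.ι.stalkMap x'))).commRingCatIsoToRingEquiv).mp h1
  exact EtLoc.isUnion_of_isLocalization Γ(Y, V) (Y.presheaf.stalk (f (U.ι x'))) Γ(U, W)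
    (X.presheaf.stalk (U.ι x')) (hW.primeIdealOf ⟨x', hxW⟩).asIdeal.primeCompl

/-- **EGA IV 18.8.? / S2754.** -/
theorem isDomain_and_isGeomUnibranch_stalk (x : X)
    (hY : IsDomain (Y.presheaf.stalk (f.base x)))
    (hY' : CAlg2.IsGeomUnibranch (Y.presheaf.stalk (f.base x)))
    (hf : ∃ U : X.Opens, x ∈ U ∧ Etale (U.ι ≫ f)) :
    IsDomain (X.presheaf.stalk x) ∧ CAlg2.IsGeomUnibranch (X.presheaf.stalk x) := by
  obtain ⟨U, hxU, hEt⟩ := hf
  obtain ⟨x', rfl⟩ : ∃ x' : U, U.ι x' = x := ⟨⟨x, hxU⟩, rfl⟩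
  letI := (f.stalkMap (U.ι x')).hom.toAlgebra
  obtain ⟨hloc, hfl, hU⟩ := stalk_package f U hEt x'
  haveI := hloc
  haveI : Module.Flat (Y.presheaf.stalk (f (U.ι x'))) (X.presheaf.stalk (U.ι x')) := hfl
  haveI := hY
  haveI : IsReduced (Y.presheaf.stalk (f (U.ι x'))) := inferInstance
  exact EtUni.isDomain_and_isGeomUnibranch (Y.presheaf.stalk (f (U.ι x')))
    (X.presheaf.stalk (U.ι x')) hY' hU

end Groth.Agent.H14.HensProp.EtStalk
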