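import Mathlib
import Groth.Prelude.Def_Hensel
import Groth.Prelude.Def_CAlg2
import Groth.Agent.H14.HensProp.EtUni

set_option autoImplicit false
set_option linter.style.haveILetI false
universe u

namespace Groth.Agent.H14.HensProp.EtUniNR

open IsLocalRing TensorProduct Groth.Agent.H3.UnionEtale
open Groth.Agent.H14.HensProp.UniqueMin Groth.Agent.H14.HensProp.StrictUni

/-- **Étale-local rings over a geometrically unibranch local ring** (not necessarily reduced) have
a unique minimal prime: more generally any flat local union of étale images. -/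
theorem isPrime_nilradical (A S' : Type u) [CommRing A] [IsLocalRing A]
    (hA : CAlg2.IsGeomUnibranch A) [CommRing S'] [IsLocalRing S'] [Algebra A S']
    [IsLocalHom (algebraMap A S')] [Module.Flat A S'] (hU : IsUnion A S') :
    (nilradical S').IsPrime := by
  haveI hdom : IsDomain (CAlg2.red A) := hA.1.1
  haveI hloc : IsLocalRing (CAlg2.normRed A) := hA.1.2
  haveI := isIntegrallyClosed_normRed A
  obtain ⟨p, hp, hpi⟩ := EtUni.exists_pi_data A hA
  have hinj := algebraMap_red_normRed_injective A
  have hpi' : ∀ x : CAlg2.normRed A, ∃ (n : ℕ) (r : CAlg2.red A),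
      x ^ p ^ n - algebraMap (CAlg2.red A) (CAlg2.normRed A) r ∈
        maximalIdeal (CAlg2.normRed A) := by
    intro x
    obtain ⟨n, a, ha⟩ := hpi x
    exact ⟨n, Ideal.Quotient.mk _ a, by
      rwa [IsScalarTower.algebraMap_apply A (CAlg2.red A) (CAlg2.normRed A)] at ha⟩
  haveI := flat_Q A S'
  have hUQ := isUnion_Q A S' hU
  obtain ⟨hT, hdT, hicT⟩ := EtUni.normal_tensor (CAlg2.red A)
    (S' ⧸ (nilradical A).map (algebraMap A S')) (CAlg2.normRed A) hUQ hinj p hp hpi'
  haveI := hdT
  have hinjL : Function.Injective (algebraMap (S' ⧸ (nilradical A).map (algebraMap A S'))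
      ((S' ⧸ (nilradical A).map (algebraMap A S')) ⊗[CAlg2.red A] CAlg2.normRed A)) :=
    Algebra.TensorProduct.includeLeft_injective (S := CAlg2.red A) hinj
  haveI hdS : IsDomain (S' ⧸ (nilradical A).map (algebraMap A S')) :=
    hinjL.isDomain (algebraMap _ _)
  have hprime : ((nilradical A).map (algebraMap A S')).IsPrime :=
    (Ideal.Quotient.isDomain_iff_prime _).mp hdS
  have hle : (nilradical A).map (algebraMap A S') ≤ nilradical S' := by
    rw [Ideal.map_le_iff_le_comap]
    intro a ha
    rw [Ideal.mem_comap]
    exact mem_nilradical.mpr ((mem_nilradical.mp ha).map _)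
  have heq : nilradical S' = (nilradical A).map (algebraMap A S') :=
    le_antisymm (nilradical_le_prime _) hle
  rw [heq]
  exact hprime

end Groth.Agent.H14.HensProp.EtUniNR
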