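import Mathlib
import Groth.Prelude.Def_CAlg2
import Groth.Agent.H14.HensProp.EtNbhd
import Groth.Agent.H14.HensProp.EtNbhdRing
import Groth.Agent.H14.HensProp.EtStalk
import Groth.Agent.H14.HensProp.EtUniNR

set_option autoImplicit false
set_option linter.style.haveILetI false
universe u

namespace Groth.Agent.H14.HensProp.EtNbhdMain

open AlgebraicGeometry CategoryTheory IsLocalRing TopologicalSpace TensorProduct Opposite
open Groth.Agent.H3.UnionEtale

/-- If the local ring at `u` has a unique minimal prime, `u` has a smallest generization. -/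
theorem exists_smallest_generization {U : Scheme.{u}} (u : U)
    (hu : (nilradical (U.presheaf.stalk u)).IsPrime) :
    ∃ g : U, g ⤳ u ∧ ∀ z, z ⤳ u → g ⤳ z := by
  let P0 : PrimeSpectrum (U.presheaf.stalk u) := ⟨nilradical _, hu⟩
  have hmin : ∀ z, z ⤳ u → U.fromSpecStalk u P0 ⤳ z := by
    intro z hz
    have : z ∈ Set.range (U.fromSpecStalk u) := by rw [Scheme.range_fromSpecStalk]; exact hz
    obtain ⟨P, rfl⟩ := this
    have hle : P0 ≤ P := nilradical_le_prime P.asIdeal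
    have : P0 ⤳ P := (PrimeSpectrum.le_iff_specializes _ _).mp hle
    exact this.map (U.fromSpecStalk u).continuous
  have hgx : U.fromSpecStalk u P0 ⤳ u := by
    have : U.fromSpecStalk u P0 ∈ Set.range (U.fromSpecStalk u) := ⟨P0, rfl⟩
    rw [Scheme.range_fromSpecStalk] at this
    exact this
  exact ⟨_, hgx, hmin⟩

/-- A point whose local ring has a unique minimal prime lies on exactly one irreducible
component. -/
theorem encard_eq_one_of_isPrime_nilradical {U : Scheme.{u}} (u : U)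
    (hu : (nilradical (U.presheaf.stalk u)).IsPrime) :
    {Z : Set U | Z ∈ irreducibleComponents U ∧ u ∈ Z}.encard = 1 := by
  obtain ⟨g, hgu, hmin⟩ := exists_smallest_generization u hu
  rw [Set.encard_eq_one]
  refine ⟨closure {g}, ?_⟩
  ext Z
  simp only [Set.mem_ofPred_eq, Set.mem_singleton_iff]
  constructor
  · rintro ⟨hZ, huZ⟩
    have hZcl : IsClosed Z := isClosed_of_mem_irreducibleComponents Z hZ
    have hgen := hZ.1.isGenericPoint_genericPoint_closure
    rw [hZcl.closure_eq] at hgen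
    set ζ := hZ.1.genericPoint with hζ
    have h1 : ζ ⤳ u := by
      rw [specializes_iff_mem_closure, hgen.def]; exact huZ
    have h2 : g ⤳ ζ := hmin ζ h1
    have h3 : Z ⊆ closure {g} := by
      rw [← hgen.def]
      exact closure_minimal (Set.singleton_subset_iff.mpr (specializes_iff_mem_closure.mp h2))
        isClosed_closure
    exact subset_antisymm h3 (hZ.2 isIrreducible_singleton.closure h3)
  · rintro rfl
    refine ⟨⟨isIrreducible_singleton.closure, ?_⟩, specializes_iff_mem_closure.mp hgu⟩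
    intro Z hZ hgZ
    have hZc : IsIrreducible (closure Z) := hZ.closure
    have hgen := hZc.isGenericPoint_genericPoint_closure
    rw [closure_closure] at hgen
    set ζ := hZc.genericPoint with hζ
    have h1 : u ∈ closure Z := subset_closure (hgZ (specializes_iff_mem_closure.mp hgu))
    have h2 : ζ ⤳ u := by
      rw [specializes_iff_mem_closure, hgen.def]; exact h1
    have h3 : g ⤳ ζ := hmin ζ h2
    calc Z ⊆ closure Z := subset_closure
      _ = closure {ζ} := hgen.def.symm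
      _ ⊆ closure {g} := closure_minimal
          (Set.singleton_subset_iff.mpr (specializes_iff_mem_closure.mp h3)) isClosed_closure

/-- (→) of S9782. -/
theorem encard_eq_one_of_isGeomUnibranch (X : Scheme.{u}) (U : Scheme.{u}) (g : U ⟶ X) (u : U)
    [Etale g] (hA : CAlg2.IsGeomUnibranch (X.presheaf.stalk (g u))) :
    {Z : Set U | Z ∈ irreducibleComponents U ∧ u ∈ Z}.encard = 1 := by
  apply encard_eq_one_of_isPrime_nilradical
  obtain ⟨u', rfl⟩ : ∃ u' : (⊤ : U.Opens), (⊤ : U.Opens).ι u' = u := ⟨⟨u, trivial⟩, rfl⟩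
  letI := (g.stalkMap ((⊤ : U.Opens).ι u')).hom.toAlgebra
  obtain ⟨hloc, hfl, hU⟩ := EtStalk.stalk_package g ⊤ inferInstance u'
  haveI := hloc
  haveI : Module.Flat (X.presheaf.stalk (g ((⊤ : U.Opens).ι u')))
    (U.presheaf.stalk ((⊤ : U.Opens).ι u')) := hfl
  exact EtUniNR.isPrime_nilradical _ _ hA hU

/-- (←) of S9782. -/
theorem isGeomUnibranch_of_forall_etale (X : Scheme.{u}) (x : X)
    (H : ∀ (U : Scheme.{u}) (g : U ⟶ X) (u : U), Etale g → g u = x →
      {Z : Set U | Z ∈ irreducibleComponents U ∧ u ∈ Z}.encard = 1) :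
    CAlg2.IsGeomUnibranch (X.presheaf.stalk x) := by
  have hSH := Groth.Agent.H3.SH.isStrictHenselization (X.presheaf.stalk x)
  haveI := hSH
  rw [StrictUni.isGeomUnibranch_iff_hasUniqueMinimalPrime
    (Ash := Groth.Agent.H3.SH.S (X.presheaf.stalk x))]
  obtain ⟨𝔓₀, h𝔓₀, -⟩ := Ideal.exists_minimalPrimes_le
    (bot_le : ⊥ ≤ maximalIdeal (Groth.Agent.H3.SH.S (X.presheaf.stalk x)))
  refine ⟨𝔓₀, h𝔓₀, fun 𝔓 h𝔓 => ?_⟩
  by_contra hne
  -- an element separating the two minimal primes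
  have hnle : ¬ 𝔓 ≤ 𝔓₀ := fun hle => hne (le_antisymm hle (h𝔓₀.2 h𝔓.1 hle))
  obtain ⟨a, ha₁, ha₂⟩ := Set.not_subset.mp hnle
  obtain ⟨hU, hff⟩ := Groth.Agent.H3.HensUnion.package (Or.inr hSH)
  obtain ⟨A', _, _, hEt, φ, hφ⟩ := hU a
  obtain ⟨a', rfl⟩ := hφ rfl
  obtain ⟨V, hV, hxV, BV, _, _, hBV, he⟩ := EtNbhd.exists_etale_descends_stalk X x A'
  letI algRA : Algebra Γ(X, V) (X.presheaf.stalk x) := (X.presheaf.germ V x hxV).hom.toAlgebra
  obtain ⟨e⟩ := he
  letI algRB : Algebra Γ(X, V) (Groth.Agent.H3.SH.S (X.presheaf.stalk x)) :=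
    ((algebraMap (X.presheaf.stalk x) (Groth.Agent.H3.SH.S (X.presheaf.stalk x))).comp
      (algebraMap Γ(X, V) (X.presheaf.stalk x))).toAlgebra
  haveI : IsScalarTower Γ(X, V) (X.presheaf.stalk x)
      (Groth.Agent.H3.SH.S (X.presheaf.stalk x)) := IsScalarTower.of_algebraMap_eq' rfl
  haveI hlocst : IsLocalization.AtPrime (X.presheaf.stalk x)
      (hV.primeIdealOf ⟨x, hxV⟩).asIdeal := hV.isLocalization_stalk ⟨x, hxV⟩
  obtain ⟨χ, hm₁, hm₂, hne', hQ⟩ := EtNbhdRing.exists_two_minimalPrimes Γ(X, V)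
    (X.presheaf.stalk x) (Groth.Agent.H3.SH.S (X.presheaf.stalk x)) BV A'
    (hV.primeIdealOf ⟨x, hxV⟩).asIdeal φ e 𝔓 𝔓₀ h𝔓 h𝔓₀ a' ha₁ ha₂
  -- the étale neighbourhood
  let g : Spec (CommRingCat.of BV) ⟶ X :=
    Spec.map (CommRingCat.ofHom (algebraMap Γ(X, V) BV)) ≫ hV.fromSpec
  haveI : Etale (Spec.map (CommRingCat.ofHom (algebraMap Γ(X, V) BV))) := by
    rw [HasRingHomProperty.Spec_iff (P := @Etale)]
    exact RingHom.etale_algebraMap.mpr hBV
  haveI hg : Etale g := inferInstance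
  let Q₀ : Ideal BV := (maximalIdeal (Groth.Agent.H3.SH.S (X.presheaf.stalk x))).comap χ
  haveI : Q₀.IsPrime := Ideal.comap_isPrime _ _
  let u : Spec (CommRingCat.of BV) := (⟨Q₀, inferInstance⟩ : PrimeSpectrum BV)
  have hgu : g u = x := by
    have h1 : (Spec.map (CommRingCat.ofHom (algebraMap Γ(X, V) BV))) u =
        hV.primeIdealOf ⟨x, hxV⟩ := by
      apply PrimeSpectrum.ext
      exact hQ
    change hV.fromSpec ((Spec.map (CommRingCat.ofHom (algebraMap Γ(X, V) BV))) u) = x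
    rw [h1]
    exact hV.fromSpec_primeIdealOf ⟨x, hxV⟩
  have hH := H _ g u hg hgu
  rw [Set.encard_eq_one] at hH
  obtain ⟨Z₀, hZ₀⟩ := hH
  have hmem : ∀ P : Ideal BV, P ∈ minimalPrimes BV → P ≤ Q₀ →
      (PrimeSpectrum.zeroLocus (P : Set BV) : Set (PrimeSpectrum BV)) = Z₀ := by
    intro P hP hPQ
    have h1 : (PrimeSpectrum.zeroLocus (P : Set BV) : Set (PrimeSpectrum BV)) ∈
        irreducibleComponents (PrimeSpectrum BV) := by
      rw [← PrimeSpectrum.zeroLocus_minimalPrimes]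
      exact ⟨P, hP, rfl⟩
    have h2 : (PrimeSpectrum.zeroLocus (P : Set BV) : Set (PrimeSpectrum BV)) ∈
        {Z : Set (Spec (CommRingCat.of BV)) | Z ∈ irreducibleComponents
          (Spec (CommRingCat.of BV)) ∧ u ∈ Z} := ⟨h1, hPQ⟩
    rw [hZ₀] at h2
    exact h2
  have hle₁ : Ideal.comap χ 𝔓 ≤ Q₀ :=
    Ideal.comap_mono (IsLocalRing.le_maximalIdeal h𝔓.1.1.ne_top)
  have hle₂ : Ideal.comap χ 𝔓₀ ≤ Q₀ :=
    Ideal.comap_mono (IsLocalRing.le_maximalIdeal h𝔓₀.1.1.ne_top)
  have heq := (hmem _ hm₁ hle₁).trans (hmem _ hm₂ hle₂).symm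
  haveI : (Ideal.comap χ 𝔓).IsPrime := hm₁.1.1
  haveI : (Ideal.comap χ 𝔓₀).IsPrime := hm₂.1.1
  apply hne'
  have h3 := congrArg PrimeSpectrum.vanishingIdeal heq
  rw [PrimeSpectrum.vanishingIdeal_zeroLocus_eq_radical,
    PrimeSpectrum.vanishingIdeal_zeroLocus_eq_radical, Ideal.IsPrime.radical ‹_›,
    Ideal.IsPrime.radical ‹_›] at h3
  exact h3

/-- **S9782.** -/
theorem isGeomUnibranch_iff (X : Scheme.{u}) (x : X) :
    CAlg2.IsGeomUnibranch (X.presheaf.stalk x) ↔
      ∀ (U : Scheme.{u}) (g : U ⟶ X) (u : U), Etale g → g u = x →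
        {Z : Set U | Z ∈ irreducibleComponents U ∧ u ∈ Z}.encard = 1 := by
  constructor
  · rintro hA U g u hg rfl
    exact encard_eq_one_of_isGeomUnibranch X U g u hA
  · exact isGeomUnibranch_of_forall_etale X x

end Groth.Agent.H14.HensProp.EtNbhdMain
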