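import Mathlib
import Groth.Agent.H3.FlatOfEtale
import Groth.Agent.H20.ComplNoeth2

set_option autoImplicit false
set_option linter.style.haveILetI false
universe u

namespace Groth.Agent.H14.HensProp

open IsLocalRing TensorProduct

section InEtImage

variable (R : Type u) [CommRing R] (S : Type u) [CommRing S] [Algebra R S]

/-- a set of elements of `S` lies in the image of one étale `R`-algebra -/
def InEtImage (s : Set S) : Prop :=
  ∃ (E : Type u) (_ : CommRing E) (_ : Algebra R E) (_ : Algebra.Etale R E) (φ : E →ₐ[R] S),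
    s ⊆ Set.range φ

variable {R S}

theorem InEtImage.mono {s t : Set S} (h : InEtImage R S t) (hst : s ⊆ t) : InEtImage R S s := by
  obtain ⟨E, _, _, hE, φ, hφ⟩ := h
  exact ⟨E, _, _, hE, φ, hst.trans hφ⟩

theorem InEtImage.union {s t : Set S} (hs : InEtImage R S s) (ht : InEtImage R S t) :
    InEtImage R S (s ∪ t) := by
  obtain ⟨E₁, _, _, hE₁, φ₁, hφ₁⟩ := hs
  obtain ⟨E₂, _, _, hE₂, φ₂, hφ₂⟩ := ht
  have : Algebra.Etale R (E₁ ⊗[R] E₂) := Algebra.Etale.comp R E₁ (E₁ ⊗[R] E₂)
  refine ⟨E₁ ⊗[R] E₂, _, _, this, Algebra.TensorProduct.lift φ₁ φ₂ (fun _ _ => Commute.all _ _), ?_⟩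
  rintro x (hx | hx)
  · obtain ⟨a, rfl⟩ := hφ₁ hx
    exact ⟨a ⊗ₜ 1, by simp⟩
  · obtain ⟨a, rfl⟩ := hφ₂ hx
    exact ⟨1 ⊗ₜ a, by simp⟩

theorem InEtImage.empty : InEtImage R S (∅ : Set S) :=
  ⟨R, _, _, inferInstance, Algebra.ofId R S, Set.empty_subset _⟩

theorem InEtImage.finset (s : Finset S) (h : ∀ x ∈ s, InEtImage R S {x}) :
    InEtImage R S (s : Set S) := by
  classical
  induction s using Finset.induction_on with
  | empty => simpa using InEtImage.empty
  | insert a s _ ih =>
    rw [Finset.coe_insert, Set.insert_eq]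
    exact InEtImage.union (h a (Finset.mem_insert_self a s))
      (ih fun x hx => h x (Finset.mem_insert_of_mem hx))

end InEtImage

/-- Krull's intersection theorem in the form: a closed ideal. -/
theorem mem_of_forall_mem_sup_pow {E : Type*} [CommRing E] [IsNoetherianRing E] [IsLocalRing E]
    (J : Ideal E) (x : E) (h : ∀ n : ℕ, x ∈ J ⊔ maximalIdeal E ^ n) : x ∈ J := by
  by_cases hJ : J = ⊤
  · rw [hJ]; trivial
  haveI : Nontrivial (E ⧸ J) := Ideal.Quotient.nontrivial_iff.mpr hJ
  haveI : IsLocalRing (E ⧸ J) :=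
    IsLocalRing.of_surjective' (Ideal.Quotient.mk J) Ideal.Quotient.mk_surjective
  have hI : (maximalIdeal E).map (Ideal.Quotient.mk J) ≠ ⊤ := by
    intro htop
    have h1 : (1 : E ⧸ J) ∈ (maximalIdeal E).map (Ideal.Quotient.mk J) := by rw [htop]; trivial
    rw [← map_one (Ideal.Quotient.mk J),
      Ideal.mem_map_iff_of_surjective _ Ideal.Quotient.mk_surjective] at h1
    obtain ⟨y, hy, hy1⟩ := h1
    have h2 : y - 1 ∈ J := Ideal.Quotient.eq.mp hy1
    have h3 : J ≤ maximalIdeal E := IsLocalRing.le_maximalIdeal hJ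
    have h4 : (1 : E) ∈ maximalIdeal E := by
      have := (maximalIdeal E).sub_mem hy (h3 h2)
      simp at this
    exact (maximalIdeal.isMaximal E).ne_top ((Ideal.eq_top_iff_one _).mpr h4)
  have key := Ideal.iInf_pow_eq_bot_of_isLocalRing _ hI
  have hx : Ideal.Quotient.mk J x ∈ ⨅ n : ℕ, ((maximalIdeal E).map (Ideal.Quotient.mk J)) ^ n := by
    rw [Ideal.mem_iInf]
    intro n
    obtain ⟨j, hj, y, hy, rfl⟩ := Submodule.mem_sup.mp (h n)
    rw [map_add, Ideal.Quotient.eq_zero_iff_mem.mpr hj, zero_add, ← Ideal.map_pow]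
    exact Ideal.mem_map_of_mem _ hy
  rw [key] at hx
  exact Ideal.Quotient.eq_zero_iff_mem.mp hx

/-- Closedness of ideals descends along a faithfully flat local map with `m_E S = m_S`. -/
theorem mem_of_faithfullyFlat_of_forall_mem_sup_pow (E S : Type u) [CommRing E] [CommRing S]
    [Algebra E S] [IsNoetherianRing E] [IsLocalRing E] [IsLocalRing S]
    [Module.FaithfullyFlat E S]
    (hm : (maximalIdeal E).map (algebraMap E S) = maximalIdeal S) (J : Ideal E) (x : E)
    (h : ∀ n : ℕ, algebraMap E S x ∈ J.map (algebraMap E S) ⊔ maximalIdeal S ^ n) : x ∈ J := by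
  apply mem_of_forall_mem_sup_pow
  intro n
  have h1 := h n
  rw [← hm, ← Ideal.map_pow, ← Ideal.map_sup] at h1
  have h2 : x ∈ ((J ⊔ maximalIdeal E ^ n).map (algebraMap E S)).comap (algebraMap E S) := h1
  rwa [Ideal.comap_map_eq_self_of_faithfullyFlat] at h2


section Main

variable (R S : Type u) [CommRing R] [CommRing S] [Algebra R S] [IsLocalRing R] [IsLocalRing S]
  [IsLocalHom (algebraMap R S)]

/-- the localization of an étale algebra mapping to the local ring `S`, at the preimage of the
maximal ideal, maps to `S` by a flat local homomorphism. -/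
theorem exists_local_etale_package [IsNoetherianRing R] [Module.Flat R S]
    (hm : (maximalIdeal R).map (algebraMap R S) = maximalIdeal S)
    (E : Type u) [CommRing E] [Algebra R E] [Algebra.Etale R E] (φ : E →ₐ[R] S) :
    ∃ (E' : Type u) (_ : CommRing E') (_ : IsLocalRing E') (_ : IsNoetherianRing E')
      (_ : Algebra E' S) (_ : Module.FaithfullyFlat E' S),
      (maximalIdeal E').map (algebraMap E' S) = maximalIdeal S ∧
        Set.range φ ⊆ Set.range (algebraMap E' S) := by
  letI : Algebra E S := φ.toRingHom.toAlgebra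
  haveI : IsScalarTower R E S := IsScalarTower.of_algebraMap_eq fun r => (φ.commutes r).symm
  haveI hflatE : Module.Flat E S := Groth.Agent.H3.FlatOfEtale.flat_of_etale R E S
  haveI : IsNoetherianRing E := Algebra.FiniteType.isNoetherianRing R E
  let n : Ideal E := (maximalIdeal S).comap (algebraMap E S)
  haveI hn : n.IsPrime := Ideal.comap_isPrime _ _
  let E' := Localization.AtPrime n
  have hunit : ∀ y : n.primeCompl, IsUnit (algebraMap E S y) := fun y =>
    IsLocalRing.notMem_maximalIdeal.mp y.2
  let ψ : E' →+* S := IsLocalization.lift (M := n.primeCompl) (g := algebraMap E S) hunit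
  letI : Algebra E' S := ψ.toAlgebra
  haveI : IsScalarTower E E' S := IsScalarTower.of_algebraMap_eq fun e =>
    (IsLocalization.lift_eq (M := n.primeCompl) hunit e).symm
  haveI hflat' : Module.Flat E' S := (Module.flat_iff_of_isLocalization E' n.primeCompl S).mpr hflatE
  haveI hloc : IsLocalHom (algebraMap E' S) := by
    refine ⟨fun y hy => ?_⟩
    obtain ⟨a, s, rfl⟩ := IsLocalization.exists_mk'_eq n.primeCompl y
    have h1 : algebraMap E' S (IsLocalization.mk' E' a s) * algebraMap E S s = algebraMap E S a := by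
      rw [IsScalarTower.algebraMap_apply E E' S, IsScalarTower.algebraMap_apply E E' S, ← map_mul,
        IsLocalization.mk'_spec]
    have h2 : IsUnit (algebraMap E S a) := by
      rw [← h1]
      exact hy.mul (hunit s)
    have h3 : a ∈ n.primeCompl := fun ha => (IsLocalRing.notMem_maximalIdeal.mpr h2) ha
    exact (IsLocalization.AtPrime.isUnit_mk'_iff E' n a s).mpr h3
  haveI hff : Module.FaithfullyFlat E' S := Module.FaithfullyFlat.of_flat_of_isLocalHom
  refine ⟨E', inferInstance, inferInstance, inferInstance, inferInstance, hff, ?_, ?_⟩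
  · apply le_antisymm
    · exact ((IsLocalRing.local_hom_TFAE (algebraMap E' S)).out 0 2).mp hloc
    · rw [← hm, IsScalarTower.algebraMap_eq R E S, IsScalarTower.algebraMap_eq E E' S,
        ← Ideal.map_map, ← Ideal.map_map]
      apply Ideal.map_mono
      rw [Ideal.map_map, Ideal.map_le_iff_le_comap]
      intro r hr
      rw [Ideal.mem_comap, IsLocalRing.mem_maximalIdeal, mem_nonunits_iff]
      intro hu
      have h4 : IsUnit (algebraMap R S r) := by
        rw [IsScalarTower.algebraMap_apply R E S, IsScalarTower.algebraMap_apply E E' S]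
        exact hu.map (algebraMap E' S)
      exact hr (isUnit_of_map_unit (algebraMap R S) r h4)
  · rintro _ ⟨e, rfl⟩
    exact ⟨algebraMap E E' e, (IsScalarTower.algebraMap_apply E E' S e).symm⟩

variable {R S}

/-- finitely generated ideals of `S` are closed for the adic topology -/
theorem mem_span_of_forall_mem_sup_pow [IsNoetherianRing R] [Module.Flat R S]
    (hm : (maximalIdeal R).map (algebraMap R S) = maximalIdeal S)
    (hU : ∀ x : S, InEtImage R S {x}) (t : Finset S) (x : S)
    (hx : ∀ n : ℕ, x ∈ Ideal.span (t : Set S) ⊔ maximalIdeal S ^ n) :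
    x ∈ Ideal.span (t : Set S) := by
  classical
  obtain ⟨E, _, _, hE, φ, hφ⟩ := InEtImage.finset (insert x t) fun y _ => hU y
  obtain ⟨E', _, _, _, _, hff, hm', hrange⟩ := exists_local_etale_package R S hm E φ
  have hsub : ((insert x t : Finset S) : Set S) ⊆ Set.range (algebraMap E' S) := hφ.trans hrange
  obtain ⟨x', rfl⟩ := hsub (Finset.mem_coe.mpr (Finset.mem_insert_self x t))
  have ht : ∀ y ∈ t, ∃ y' : E', algebraMap E' S y' = y := fun y hy =>
    hsub (Finset.mem_coe.mpr (Finset.mem_insert_of_mem hy))
  choose! g hg using ht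
  have hJ : (Ideal.span ((t.image g : Finset E') : Set E')).map (algebraMap E' S) =
      Ideal.span (t : Set S) := by
    rw [Ideal.map_span, Finset.coe_image, ← Set.image_comp]
    congr 1
    ext y
    constructor
    · rintro ⟨z, hz, rfl⟩
      rw [Function.comp_apply, hg z hz]
      exact hz
    · intro hy
      exact ⟨y, hy, hg y hy⟩
  rw [← hJ]
  apply Ideal.mem_map_of_mem
  apply mem_of_faithfullyFlat_of_forall_mem_sup_pow E' S hm'
  intro n
  rw [hJ]
  exact hx n

/-- **EGA 0_III 10.3.1.3 (for unions of étale images).** A local `R`-algebra `S` over a Noetherian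
local ring `R`, flat with `m_R S = m_S`, in which every element lies in the image of an étale
`R`-algebra, is Noetherian. -/
theorem isNoetherianRing_of_inEtImage [IsNoetherianRing R] [Module.Flat R S]
    (hm : (maximalIdeal R).map (algebraMap R S) = maximalIdeal S)
    (hU : ∀ x : S, InEtImage R S {x}) : IsNoetherianRing S := by
  classical
  have hfg : (maximalIdeal S).FG := by
    rw [← hm]
    exact Ideal.FG.map (IsNoetherian.noetherian (maximalIdeal R)) (algebraMap R S)
  haveI : IsNoetherianRing (S ⧸ maximalIdeal S) := by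
    letI : Field (S ⧸ maximalIdeal S) := Ideal.Quotient.field _
    infer_instance
  haveI hC : IsNoetherianRing (AdicCompletion (maximalIdeal S) S) :=
    Groth.Agent.H20.isNoetherianRing_adicCompletion_of_fg (maximalIdeal S) hfg
  rw [isNoetherianRing_iff_ideal_fg]
  intro J
  have h1 : (Submodule.span (AdicCompletion (maximalIdeal S) S)
      ((algebraMap S (AdicCompletion (maximalIdeal S) S)) '' (J : Set S))).FG :=
    IsNoetherian.noetherian _
  rw [Submodule.fg_span_iff_fg_span_finset_subset] at h1
  obtain ⟨t', ht', ht'eq⟩ := h1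
  -- choose preimages in `J`
  have hpre : ∀ c ∈ t', ∃ y : S, y ∈ J ∧
      algebraMap S (AdicCompletion (maximalIdeal S) S) y = c := fun c hc => by
    obtain ⟨y, hy, rfl⟩ := ht' hc
    exact ⟨y, hy, rfl⟩
  choose! g hgJ hg using hpre
  let t : Finset S := t'.image g
  have htJ : Ideal.span (t : Set S) ≤ J := by
    rw [Ideal.span_le]
    intro y hy
    obtain ⟨c, hc, rfl⟩ := Finset.mem_image.mp (Finset.mem_coe.mp hy)
    exact hgJ c hc
  have hmap : J.map (algebraMap S (AdicCompletion (maximalIdeal S) S)) ≤
      (Ideal.span (t : Set S)).map (algebraMap S (AdicCompletion (maximalIdeal S) S)) := by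
    change Submodule.span _ _ ≤ _
    rw [ht'eq]
    change Ideal.span _ ≤ _
    rw [Ideal.span_le]
    intro c hc
    rw [← hg c hc]
    exact Ideal.mem_map_of_mem _ (Ideal.subset_span
      (Finset.mem_coe.mpr (Finset.mem_image_of_mem g hc)))
  have hle : J ≤ Ideal.span (t : Set S) := by
    intro x hxJ
    apply mem_span_of_forall_mem_sup_pow hm hU
    intro n
    have h2 : algebraMap S (AdicCompletion (maximalIdeal S) S) x ∈
        (Ideal.span (t : Set S)).map (algebraMap S (AdicCompletion (maximalIdeal S) S)) :=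
      hmap (Ideal.mem_map_of_mem _ hxJ)
    have h3 := Ideal.mem_map_of_mem (AdicCompletion.evalₐ (maximalIdeal S) n).toRingHom h2
    rw [Ideal.map_map] at h3
    have h4 : (AdicCompletion.evalₐ (maximalIdeal S) n).toRingHom.comp
        (algebraMap S (AdicCompletion (maximalIdeal S) S)) =
        Ideal.Quotient.mk (maximalIdeal S ^ n) := by
      ext y
      exact AdicCompletion.evalₐ_of (maximalIdeal S) n y
    rw [h4] at h3
    have h5 : (AdicCompletion.evalₐ (maximalIdeal S) n).toRingHom
        (algebraMap S (AdicCompletion (maximalIdeal S) S) x) =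
        Ideal.Quotient.mk (maximalIdeal S ^ n) x := AdicCompletion.evalₐ_of (maximalIdeal S) n x
    rw [h5, Ideal.mem_map_iff_of_surjective _ Ideal.Quotient.mk_surjective] at h3
    obtain ⟨y, hy, hyx⟩ := h3
    have h6 : y - x ∈ maximalIdeal S ^ n := Ideal.Quotient.eq.mp hyx
    have h7 : x = y + (x - y) := by ring
    rw [h7]
    refine Submodule.add_mem_sup hy ?_
    have := (maximalIdeal S ^ n).neg_mem h6
    simpa using this
  rw [le_antisymm hle htJ]
  exact ⟨t, rfl⟩

end Main

end Groth.Agent.H14.HensProp
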