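import Mathlib
import Groth.Agent.H14.HensProp.UnionNoeth

set_option autoImplicit false
set_option linter.style.haveILetI false
universe u

namespace Groth.Agent.H14.HensProp

open TensorProduct

section Field

variable (K : Type u) [Field K] (F : Type u) [CommRing F] [Algebra K F]

/-- An étale algebra over a field is von Neumann regular. -/
theorem exists_mul_mul_eq_of_etale (E : Type u) [CommRing E] [Algebra K E] [Algebra.Etale K E]
    (x : E) : ∃ y : E, x * x * y = x := by
  classical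
  obtain ⟨I, _, Ai, _, _, e, -⟩ := (Algebra.Etale.iff_exists_algEquiv_prod K E).mp inferInstance
  refine ⟨e.symm (fun i => (e x i)⁻¹), ?_⟩
  apply e.injective
  rw [map_mul, map_mul, AlgEquiv.apply_symm_apply]
  funext i
  simp only [Pi.mul_apply]
  by_cases h : e x i = 0
  · rw [h]; simp
  · field_simp

variable {K F}

theorem exists_mul_mul_eq_of_inEtImage (hU : ∀ t : F, InEtImage K F {t}) (t : F) :
    ∃ y : F, t * t * y = t := by
  obtain ⟨E, _, _, hE, ψ, hψ⟩ := hU t
  obtain ⟨e, rfl⟩ : ∃ e, ψ e = t := hψ rfl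
  obtain ⟨y, hy⟩ := exists_mul_mul_eq_of_etale K E e
  exact ⟨ψ y, by rw [← map_mul, ← map_mul, hy]⟩

theorem isReduced_of_inEtImage (hU : ∀ t : F, InEtImage K F {t}) : IsReduced F := by
  refine ⟨fun t ht => ?_⟩
  obtain ⟨y, hy⟩ := exists_mul_mul_eq_of_inEtImage hU t
  obtain ⟨n, hn⟩ := ht
  have key : ∀ k : ℕ, t = t ^ (k + 1) * y ^ k := by
    intro k
    induction k with
    | zero => simp
    | succ k ih =>
      calc t = t * t * y := hy.symm
        _ = t * (t ^ (k + 1) * y ^ k) * y := by rw [← ih]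
        _ = t ^ (k + 1 + 1) * y ^ (k + 1) := by ring
  rw [key n, pow_succ, hn, zero_mul, zero_mul]

theorem isIntegral_of_inEtImage (hU : ∀ t : F, InEtImage K F {t}) : Algebra.IsIntegral K F := by
  refine ⟨fun t => ?_⟩
  obtain ⟨E, _, _, hE, ψ, hψ⟩ := hU t
  obtain ⟨e, rfl⟩ : ∃ e, ψ e = t := hψ rfl
  haveI : Module.Finite K E := Algebra.FormallyUnramified.finite_of_free K E
  exact (Algebra.IsIntegral.isIntegral (R := K) e).map ψ

theorem isMaximal_of_inEtImage (hU : ∀ t : F, InEtImage K F {t}) (Q : Ideal F) [Q.IsPrime] :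
    Q.IsMaximal := by
  haveI := isIntegral_of_inEtImage hU
  haveI : Algebra.IsIntegral K (F ⧸ Q) := Algebra.IsIntegral.of_surjective
    (Ideal.Quotient.mkₐ K Q) Ideal.Quotient.mk_surjective
  exact Ideal.Quotient.maximal_of_isField Q
    (isField_of_isIntegral_of_isField' (R := K) (S := F ⧸ Q) (Field.toIsField K))

theorem isSeparable_quotient_of_inEtImage (hU : ∀ t : F, InEtImage K F {t}) (Q : Ideal F)
    [Q.IsPrime] : Algebra.IsSeparable K (F ⧸ Q) := by
  refine ⟨fun x => ?_⟩
  obtain ⟨t, rfl⟩ := Ideal.Quotient.mk_surjective x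
  obtain ⟨E, _, _, hE, ψ, hψ⟩ := hU t
  obtain ⟨e, rfl⟩ : ∃ e, ψ e = t := hψ rfl
  let Q' : Ideal E := Q.comap ψ
  haveI : Q'.IsPrime := Ideal.comap_isPrime _ _
  haveI : Algebra.IsSeparable K (E ⧸ Q') := inferInstance
  let θ : (E ⧸ Q') →ₐ[K] (F ⧸ Q) := Ideal.quotientMapₐ Q ψ le_rfl
  have hθ : Function.Injective θ := Ideal.quotientMap_injective
  have h1 : IsSeparable K (Ideal.Quotient.mk Q' e) := Algebra.IsSeparable.isSeparable K _
  have h2 : θ (Ideal.Quotient.mk Q' e) = Ideal.Quotient.mk Q (ψ e) := rfl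
  rw [← h2]
  unfold IsSeparable at h1 ⊢
  rwa [minpoly.algHom_eq θ hθ]

/-- A Noetherian algebra over a field which is a union of images of étale algebras is a finite
product of separable algebraic field extensions. -/
theorem exists_algEquiv_pi_of_inEtImage [IsNoetherianRing F] (hU : ∀ t : F, InEtImage K F {t}) :
    ∃ (n : ℕ) (L : Fin n → Type u) (_ : ∀ i, Field (L i)) (_ : ∀ i, Algebra K (L i)),
      (∀ i, Algebra.IsSeparable K (L i)) ∧ Nonempty (F ≃ₐ[K] (Π i, L i)) := by
  classical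
  haveI hred : IsReduced F := isReduced_of_inEtImage hU
  haveI hdim : Ring.KrullDimLE 0 F :=
    Ring.krullDimLE_zero_iff.mpr fun Q hQ => isMaximal_of_inEtImage hU Q
  haveI hart : IsArtinianRing F := IsNoetherianRing.isArtinianRing_of_krullDimLE_zero
  haveI : Finite (MaximalSpectrum F) := inferInstance
  let n := Nat.card (MaximalSpectrum F)
  let σ : MaximalSpectrum F ≃ Fin n := Finite.equivFin _
  let e1 : F ≃ₐ[K] (Π m : MaximalSpectrum F, F ⧸ m.asIdeal) :=
    (IsArtinianRing.equivPi F).restrictScalars K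
  let L : Fin n → Type u := fun i => F ⧸ (σ.symm i).asIdeal
  letI : ∀ i, Field (L i) := fun i => Ideal.Quotient.field (σ.symm i).asIdeal
  let e2 : (Π m : MaximalSpectrum F, F ⧸ m.asIdeal) ≃ₐ[K] (Π i, L i) :=
    AlgEquiv.piCongrLeft' K (fun m : MaximalSpectrum F => F ⧸ m.asIdeal) σ
  refine ⟨n, L, inferInstance, inferInstance, fun i => ?_, ⟨e1.trans e2⟩⟩
  exact isSeparable_quotient_of_inEtImage hU (σ.symm i).asIdeal

end Field

end Groth.Agent.H14.HensProp
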