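import Mathlib
import Groth.Prelude.Def_Hens2
import Groth.Agent.H3.EtNbhdImage

set_option autoImplicit false
universe u

namespace Groth.Agent.H14.HensProp

open Groth.Agent.H3 IsLocalRing

variable {A : Type u} [CommRing A] {I : Ideal A}
variable {B : Type u} [CommRing B] [Algebra A B]

/-- For an étale algebra `A'` over `A` and a prime `Q` of `A'`, `Q A'_Q` is generated by the
contraction of `Q` to `A`. -/
theorem map_under_eq_maximalIdeal_of_etale (A' : Type u) [CommRing A'] [Algebra A A']
    [Algebra.Etale A A'] (Q : Ideal A') [Q.IsPrime] :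
    (Q.under A).map (algebraMap A (Localization.AtPrime Q)) =
      maximalIdeal (Localization.AtPrime Q) := by
  haveI : Q.LiesOver (Q.under A) := ⟨rfl⟩
  letI := Localization.AtPrime.algebraOfLiesOver (Q.under A) Q
  have hun : Algebra.IsUnramifiedAt A Q := inferInstance
  exact ((Algebra.isUnramifiedAt_iff_map_eq A (Q.under A) Q).mp hun).2

/-- In a henselization `B` of a pair `(A, I)`, every prime `q` of `B` is, locally at `q`, generated by
its contraction to `A`: `(q ∩ A) B_q = q B_q`. -/
theorem map_comap_eq_maximalIdeal (hB : Hens2.IsPairHenselization A I B) (q : Ideal B) [q.IsPrime] :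
    (q.comap (algebraMap A B)).map (algebraMap A (Localization.AtPrime q)) =
      maximalIdeal (Localization.AtPrime q) := by
  apply le_antisymm
  · rw [Ideal.map_le_iff_le_comap]
    intro a ha
    rw [Ideal.mem_comap, IsScalarTower.algebraMap_apply A B (Localization.AtPrime q),
      ← Localization.AtPrime.map_eq_maximalIdeal]
    exact Ideal.mem_map_of_mem _ ha
  · rw [← Localization.AtPrime.map_eq_maximalIdeal, Ideal.map_le_iff_le_comap]
    intro x hx
    obtain ⟨A', _, _, hN, φ, hφ⟩ := EtNbhd.inImage_finset hB {x}
    obtain ⟨x', rfl⟩ : ∃ x', φ x' = x := hφ (by simp)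
    have := hN.etale
    let Q : Ideal A' := q.comap φ.toRingHom
    have hQ : Q.IsPrime := Ideal.comap_isPrime _ _
    have hu : Q.under A = q.comap (algebraMap A B) := by
      ext a
      simp only [Ideal.under_def, Ideal.mem_comap, Q]
      change φ (algebraMap A A' a) ∈ q ↔ _
      rw [φ.commutes]
    have h1 := map_under_eq_maximalIdeal_of_etale (A := A) A' Q
    have h2 : algebraMap A' (Localization.AtPrime Q) x' ∈ maximalIdeal (Localization.AtPrime Q) := by
      rw [← Localization.AtPrime.map_eq_maximalIdeal]
      exact Ideal.mem_map_of_mem _ hx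
    rw [← h1, IsScalarTower.algebraMap_eq A A' (Localization.AtPrime Q), ← Ideal.map_map,
      IsLocalization.mem_map_algebraMap_iff Q.primeCompl] at h2
    obtain ⟨⟨⟨y, hy⟩, ⟨s, hs⟩⟩, h3⟩ := h2
    simp only at h3
    rw [← map_mul, IsLocalization.eq_iff_exists Q.primeCompl] at h3
    obtain ⟨⟨c, hc⟩, h4⟩ := h3
    simp only at h4
    -- c * (x' * s) = c * y in A'
    have h5 : φ y ∈ (q.comap (algebraMap A B)).map (algebraMap A B) := by
      rw [← hu]
      have h6 : (Q.under A).map (algebraMap A A') ≤
          ((Q.under A).map (algebraMap A B)).comap φ.toRingHom := by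
        rw [Ideal.map_le_iff_le_comap]
        intro a ha
        rw [Ideal.mem_comap, Ideal.mem_comap]
        change φ (algebraMap A A' a) ∈ _
        rw [φ.commutes]
        exact Ideal.mem_map_of_mem _ ha
      exact h6 hy
    have hcs : φ (c * s) ∉ q := by
      intro h
      exact (hQ.mul_mem_iff_mem_or_mem.not.mpr (not_or.mpr ⟨hc, hs⟩)) h
    rw [Ideal.mem_comap]
    have h7 : φ (c * s) * φ x' = φ c * φ y := by
      rw [← map_mul, ← map_mul]
      congr 1
      linear_combination h4
    have hunit : IsUnit (algebraMap B (Localization.AtPrime q) (φ (c * s))) :=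
      IsLocalization.map_units (Localization.AtPrime q) (⟨_, hcs⟩ : q.primeCompl)
    have h8 : algebraMap B (Localization.AtPrime q) (φ c * φ y) ∈
        (q.comap (algebraMap A B)).map (algebraMap A (Localization.AtPrime q)) := by
      rw [IsScalarTower.algebraMap_eq A B (Localization.AtPrime q), ← Ideal.map_map]
      exact Ideal.mem_map_of_mem _ (Ideal.mul_mem_left _ _ h5)
    rw [← h7, map_mul] at h8
    exact (Ideal.unit_mul_mem_iff_mem _ hunit).mp h8

end Groth.Agent.H14.HensProp
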