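import Mathlib
import Groth.Prelude.Def_CAlg
import Groth.Agent.H72.FlatCM
import Groth.Agent.H20.EtaleRegular
import Groth.Agent.H26.SkFlat

set_option autoImplicit false
set_option linter.style.haveILetI false
universe u

namespace Groth.Agent.H14.HensProp

open IsLocalRing

/-- Package for a flat local homomorphism `X → Y` of Noetherian local rings with `m_X Y = m_Y`:
same dimension, same depth, regularity and Cohen–Macaulayness are equivalent. -/
theorem flat_local_package (X Y : Type u) [CommRing X] [CommRing Y] [Algebra X Y] [IsLocalRing X]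
    [IsLocalRing Y] [IsNoetherianRing X] [IsNoetherianRing Y] [IsLocalHom (algebraMap X Y)]
    [Module.Flat X Y] (h : (maximalIdeal X).map (algebraMap X Y) = maximalIdeal Y) :
    ringKrullDim Y = ringKrullDim X ∧ LocCoh.depth Y Y = LocCoh.depth X X ∧
      (IsRegularLocalRing Y ↔ IsRegularLocalRing X) ∧
      (LocCoh.IsCohenMacaulayLocalRing Y ↔ LocCoh.IsCohenMacaulayLocalRing X) := by
  have hdim : ringKrullDim Y = ringKrullDim X :=
    Groth.Agent.H20.ringKrullDim_eq_of_flat_of_map_maximalIdeal h
  have hfield : IsField (Y ⧸ (maximalIdeal X).map (algebraMap X Y)) :=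
    (Ideal.Quotient.maximal_ideal_iff_isField_quotient _).mp (h ▸ maximalIdeal.isMaximal Y)
  have hd0 : ringKrullDim (Y ⧸ (maximalIdeal X).map (algebraMap X Y)) = 0 :=
    ringKrullDim_eq_zero_of_isField hfield
  have hdepth0 : LocCoh.depth (Y ⧸ (maximalIdeal X).map (algebraMap X Y))
      (Y ⧸ (maximalIdeal X).map (algebraMap X Y)) = 0 := by
    have h2 := Groth.Agent.H72.FlatCM.depth_le_ringKrullDim
      (Y ⧸ (maximalIdeal X).map (algebraMap X Y))
    rw [hd0] at h2
    have h3 : LocCoh.depth (Y ⧸ (maximalIdeal X).map (algebraMap X Y))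
      (Y ⧸ (maximalIdeal X).map (algebraMap X Y)) ≤ 0 := by exact_mod_cast h2
    exact nonpos_iff_eq_zero.mp h3
  have hdepth : LocCoh.depth Y Y = LocCoh.depth X X := by
    rw [Groth.Agent.H72.FlatCM.depth_eq_add_of_flat (A := X) (B := Y), hdepth0, add_zero]
  refine ⟨hdim, hdepth, Groth.Agent.H20.isRegularLocalRing_iff_of_flat_of_map_maximalIdeal h, ?_⟩
  rw [Groth.Agent.H72.FlatCM.isCohenMacaulayLocalRing_iff,
    Groth.Agent.H72.FlatCM.isCohenMacaulayLocalRing_iff, hdim, hdepth]

/-- Localized version: `A → B` flat map of Noetherian rings, `q` a prime of `B` with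
`(q ∩ A) B_q = q B_q`. -/
theorem localization_package (A B : Type u) [CommRing A] [CommRing B] [Algebra A B]
    [IsNoetherianRing A] [IsNoetherianRing B] [Module.Flat A B] (q : Ideal B) [q.IsPrime]
    (h : (q.comap (algebraMap A B)).map (algebraMap A (Localization.AtPrime q)) =
      maximalIdeal (Localization.AtPrime q)) :
    q.height = (q.comap (algebraMap A B)).height ∧
      LocCoh.idealDepth (maximalIdeal (Localization.AtPrime q)) (Localization.AtPrime q) =
        LocCoh.idealDepth (maximalIdeal (Localization.AtPrime (q.comap (algebraMap A B))))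
          (Localization.AtPrime (q.comap (algebraMap A B))) ∧
      (IsRegularLocalRing (Localization.AtPrime q) ↔
        IsRegularLocalRing (Localization.AtPrime (q.comap (algebraMap A B)))) ∧
      (LocCoh.IsCohenMacaulayLocalRing (Localization.AtPrime q) ↔
        LocCoh.IsCohenMacaulayLocalRing (Localization.AtPrime (q.comap (algebraMap A B)))) := by
  haveI : q.LiesOver (q.comap (algebraMap A B)) := ⟨rfl⟩
  letI := Localization.AtPrime.algebraOfLiesOver (q.comap (algebraMap A B)) q
  haveI hloc : IsLocalHom (algebraMap (Localization.AtPrime (q.comap (algebraMap A B)))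
      (Localization.AtPrime q)) :=
    Localization.isLocalHom_localRingHom _ q (algebraMap A B) Ideal.LiesOver.over
  haveI hflatS : Module.Flat B (Localization.AtPrime q) := IsLocalization.flat _ q.primeCompl
  haveI hflatR : Module.Flat A (Localization.AtPrime q) := Module.Flat.trans A B _
  haveI hflat' : Module.Flat (Localization.AtPrime (q.comap (algebraMap A B)))
      (Localization.AtPrime q) :=
    (Module.flat_iff_of_isLocalization (Localization.AtPrime (q.comap (algebraMap A B)))
      (q.comap (algebraMap A B)).primeCompl _).mpr hflatR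
  have hm : (maximalIdeal (Localization.AtPrime (q.comap (algebraMap A B)))).map
      (algebraMap (Localization.AtPrime (q.comap (algebraMap A B))) (Localization.AtPrime q)) =
      maximalIdeal (Localization.AtPrime q) := by
    rw [← Localization.AtPrime.map_eq_maximalIdeal, Ideal.map_map, ← IsScalarTower.algebraMap_eq,
      h]
  obtain ⟨h1, h2, h3, h4⟩ := flat_local_package _ _ hm
  refine ⟨?_, h2, h3, h4⟩
  rw [← IsLocalRing.maximalIdeal_height_eq_ringKrullDim,
    ← IsLocalRing.maximalIdeal_height_eq_ringKrullDim,
    Groth.Agent.H26.SkFlat.height_maximalIdeal_localization,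
    Groth.Agent.H26.SkFlat.height_maximalIdeal_localization] at h1
  exact_mod_cast h1

end Groth.Agent.H14.HensProp
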