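import Mathlib
import Groth.Prelude.Def_CAlg
import Groth.Prelude.Def_Hensel
import Groth.Agent.H14.HensProp.Fibre
import Groth.Agent.H14.HensProp.Local
import Groth.Agent.H14.SerreLoc
import Groth.Agent.H3.HensNoeth
import Groth.Agent.H3.HensIso
import Groth.Agent.H3.HensLocal
import Groth.Agent.H3.HensFlatMain

set_option autoImplicit false
set_option linter.style.haveILetI false
universe u

namespace Groth.Agent.H14.HensProp

open IsLocalRing

section Generic

variable (k : ℕ) (A B : Type u) [CommRing A] [CommRing B] [Algebra A B]
  [IsNoetherianRing A] [IsNoetherianRing B] [Module.FaithfullyFlat A B]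
  (h : ∀ (q : Ideal B) [q.IsPrime],
    (q.comap (algebraMap A B)).map (algebraMap A (Localization.AtPrime q)) =
      maximalIdeal (Localization.AtPrime q))

include h

theorem hasRk_iff_of_map_comap : LocCoh.HasRk k B ↔ LocCoh.HasRk k A := by
  constructor
  · intro hB p hp hk
    obtain ⟨⟨q, hq⟩, hqp⟩ := PrimeSpectrum.comap_surjective_of_faithfullyFlat (A := A) (B := B)
      ⟨p, hp⟩
    have hqp' : q.comap (algebraMap A B) = p := congrArg PrimeSpectrum.asIdeal hqp
    subst hqp'
    obtain ⟨h1, -, h3, -⟩ := localization_package A B q (h q)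
    exact h3.mp (hB q (h1 ▸ hk))
  · intro hA q hq hk
    obtain ⟨h1, -, h3, -⟩ := localization_package A B q (h q)
    exact h3.mpr (hA _ (h1 ▸ hk))

theorem hasSk_iff_of_map_comap : LocCoh.HasSk k B B ↔ LocCoh.HasSk k A A := by
  rw [Groth.Agent.H14.hasSk_self_iff, Groth.Agent.H14.hasSk_self_iff]
  constructor
  · intro hB p hp
    obtain ⟨⟨q, hq⟩, hqp⟩ := PrimeSpectrum.comap_surjective_of_faithfullyFlat (A := A) (B := B)
      ⟨p, hp⟩
    have hqp' : q.comap (algebraMap A B) = p := congrArg PrimeSpectrum.asIdeal hqp
    subst hqp'
    obtain ⟨h1, h2, -, -⟩ := localization_package A B q (h q)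
    rw [← h1, ← h2]
    exact hB q
  · intro hA q hq
    obtain ⟨h1, h2, -, -⟩ := localization_package A B q (h q)
    rw [h1, h2]
    exact hA _

end Generic

section Hens

variable (R S : Type u) [CommRing R] [IsLocalRing R] [IsNoetherianRing R]
    [CommRing S] [IsLocalRing S] [Algebra R S] [IsLocalHom (algebraMap R S)]
    [Hensel.IsHenselization R S]

include R in
theorem isNoetherianRing_of_isHenselization : IsNoetherianRing S :=
  Groth.Agent.H3.HensNoeth.isNoetherianRing
    (Groth.Agent.H3.HensIso.isPairHenselization_of_isHenselization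
      (inferInstance : Hensel.IsHenselization R S))

omit [IsNoetherianRing R] in
theorem faithfullyFlat_of_isHenselization : Module.FaithfullyFlat R S := by
  have hP := Groth.Agent.H3.HensIso.isPairHenselization_of_isHenselization
      (inferInstance : Hensel.IsHenselization R S)
  haveI hflat : Module.Flat R S := Groth.Agent.H3.HensFlatMain.flat hP
  exact Module.FaithfullyFlat.of_flat_of_isLocalHom

theorem isCohenMacaulayLocalRing_iff_of_isHenselization :
    LocCoh.IsCohenMacaulayLocalRing S ↔ LocCoh.IsCohenMacaulayLocalRing R := by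
  have hP := Groth.Agent.H3.HensIso.isPairHenselization_of_isHenselization
      (inferInstance : Hensel.IsHenselization R S)
  haveI := isNoetherianRing_of_isHenselization R S
  haveI hflat : Module.Flat R S := Groth.Agent.H3.HensFlatMain.flat hP
  have hm : (maximalIdeal R).map (algebraMap R S) = maximalIdeal S :=
    (Groth.Agent.H3.HensLocal.maximalIdeal_eq hP).symm
  exact (flat_local_package R S hm).2.2.2

theorem hasSk_iff_of_isHenselization (k : ℕ) : LocCoh.HasSk k S S ↔ LocCoh.HasSk k R R := by
  have hP := Groth.Agent.H3.HensIso.isPairHenselization_of_isHenselization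
      (inferInstance : Hensel.IsHenselization R S)
  haveI := isNoetherianRing_of_isHenselization R S
  haveI := faithfullyFlat_of_isHenselization R S
  exact hasSk_iff_of_map_comap k R S fun q _ => map_comap_eq_maximalIdeal hP q

theorem hasRk_iff_of_isHenselization (k : ℕ) : LocCoh.HasRk k S ↔ LocCoh.HasRk k R := by
  have hP := Groth.Agent.H3.HensIso.isPairHenselization_of_isHenselization
      (inferInstance : Hensel.IsHenselization R S)
  haveI := isNoetherianRing_of_isHenselization R S
  haveI := faithfullyFlat_of_isHenselization R S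
  exact hasRk_iff_of_map_comap k R S fun q _ => map_comap_eq_maximalIdeal hP q

end Hens

end Groth.Agent.H14.HensProp
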