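import Mathlib
import Groth.Prelude.Def_CAlg
import Groth.Agent.H14.HensProp.UnionNoeth
import Groth.Agent.H14.HensProp.Fibre
import Groth.Agent.H14.HensProp.Serre

set_option autoImplicit false
set_option linter.style.haveILetI false
universe u

namespace Groth.Agent.H14.HensProp

open IsLocalRing

variable {R S : Type u} [CommRing R] [CommRing S] [Algebra R S]

/-- If every element of `S` lies in the image of an étale `R`-algebra, every prime `q` of `S` is,
locally at `q`, generated by its contraction to `R`. -/
theorem map_comap_eq_maximalIdeal_of_inEtImage (hU : ∀ x : S, InEtImage R S {x}) (q : Ideal S)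
    [q.IsPrime] :
    (q.comap (algebraMap R S)).map (algebraMap R (Localization.AtPrime q)) =
      maximalIdeal (Localization.AtPrime q) := by
  apply le_antisymm
  · rw [Ideal.map_le_iff_le_comap]
    intro a ha
    rw [Ideal.mem_comap, IsScalarTower.algebraMap_apply R S (Localization.AtPrime q),
      ← Localization.AtPrime.map_eq_maximalIdeal]
    exact Ideal.mem_map_of_mem _ ha
  · rw [← Localization.AtPrime.map_eq_maximalIdeal, Ideal.map_le_iff_le_comap]
    intro x hx
    obtain ⟨A', _, _, hE, φ, hφ⟩ := hU x
    obtain ⟨x', rfl⟩ : ∃ x', φ x' = x := hφ (by simp)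
    let Q : Ideal A' := q.comap φ.toRingHom
    have hQ : Q.IsPrime := Ideal.comap_isPrime _ _
    have hu : Q.under R = q.comap (algebraMap R S) := by
      ext a
      simp only [Ideal.under_def, Ideal.mem_comap, Q]
      change φ (algebraMap R A' a) ∈ q ↔ _
      rw [φ.commutes]
    have h1 := map_under_eq_maximalIdeal_of_etale (A := R) A' Q
    have h2 : algebraMap A' (Localization.AtPrime Q) x' ∈ maximalIdeal (Localization.AtPrime Q) := by
      rw [← Localization.AtPrime.map_eq_maximalIdeal]
      exact Ideal.mem_map_of_mem _ hx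
    rw [← h1, IsScalarTower.algebraMap_eq R A' (Localization.AtPrime Q), ← Ideal.map_map,
      IsLocalization.mem_map_algebraMap_iff Q.primeCompl] at h2
    obtain ⟨⟨⟨y, hy⟩, ⟨s, hs⟩⟩, h3⟩ := h2
    simp only at h3
    rw [← map_mul, IsLocalization.eq_iff_exists Q.primeCompl] at h3
    obtain ⟨⟨c, hc⟩, h4⟩ := h3
    simp only at h4
    have h5 : φ y ∈ (q.comap (algebraMap R S)).map (algebraMap R S) := by
      rw [← hu]
      have h6 : (Q.under R).map (algebraMap R A') ≤
          ((Q.under R).map (algebraMap R S)).comap φ.toRingHom := by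
        rw [Ideal.map_le_iff_le_comap]
        intro a ha
        rw [Ideal.mem_comap, Ideal.mem_comap]
        change φ (algebraMap R A' a) ∈ _
        rw [φ.commutes]
        exact Ideal.mem_map_of_mem _ ha
      exact h6 hy
    have hcs : φ (c * s) ∉ q := by
      intro h
      exact (hQ.mul_mem_iff_mem_or_mem.not.mpr (not_or.mpr ⟨hc, hs⟩)) h
    rw [Ideal.mem_comap]
    have h7 : φ (c * s) * φ x' = φ c * φ y := by
      rw [← map_mul, ← map_mul]
      congr 1
      linear_combination h4
    have hunit : IsUnit (algebraMap S (Localization.AtPrime q) (φ (c * s))) :=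
      IsLocalization.map_units (Localization.AtPrime q) (⟨_, hcs⟩ : q.primeCompl)
    have h8 : algebraMap S (Localization.AtPrime q) (φ c * φ y) ∈
        (q.comap (algebraMap R S)).map (algebraMap R (Localization.AtPrime q)) := by
      rw [IsScalarTower.algebraMap_eq R S (Localization.AtPrime q), ← Ideal.map_map]
      exact Ideal.mem_map_of_mem _ (Ideal.mul_mem_left _ _ h5)
    rw [← h7, map_mul] at h8
    exact (Ideal.unit_mul_mem_iff_mem _ hunit).mp h8

section Local

variable [IsLocalRing R] [IsLocalRing S] [IsLocalHom (algebraMap R S)] [IsNoetherianRing R]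
  [Module.Flat R S]

/-- Properties of a flat local `R`-algebra `S` with `m_R S = m_S` which is a union of étale images,
over a Noetherian local ring `R`. -/
theorem union_package (hm : (maximalIdeal R).map (algebraMap R S) = maximalIdeal S)
    (hU : ∀ x : S, InEtImage R S {x}) :
    IsNoetherianRing S ∧ (IsRegularLocalRing S ↔ IsRegularLocalRing R) ∧
      (LocCoh.IsCohenMacaulayLocalRing S ↔ LocCoh.IsCohenMacaulayLocalRing R) ∧
      (∀ k : ℕ, LocCoh.HasSk k S S ↔ LocCoh.HasSk k R R) ∧
      (∀ k : ℕ, LocCoh.HasRk k S ↔ LocCoh.HasRk k R) := by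
  haveI hN : IsNoetherianRing S := isNoetherianRing_of_inEtImage hm hU
  haveI hff : Module.FaithfullyFlat R S := Module.FaithfullyFlat.of_flat_of_isLocalHom
  obtain ⟨-, -, h3, h4⟩ := flat_local_package R S hm
  exact ⟨hN, h3, h4,
    fun k => hasSk_iff_of_map_comap k R S fun q _ => map_comap_eq_maximalIdeal_of_inEtImage hU q,
    fun k => hasRk_iff_of_map_comap k R S fun q _ => map_comap_eq_maximalIdeal_of_inEtImage hU q⟩

end Local

end Groth.Agent.H14.HensProp
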