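import Mathlib
import Groth.Prelude.Def_CAlg
import Groth.Prelude.Def_Hensel
import Groth.Agent.H14.HensProp.UnionProps
import Groth.Agent.H3.StrictHensUnion
import Groth.Agent.H3.StrictHensMaxIdeal2
import Groth.Agent.H3.StrictHensUnique
import Groth.Agent.H3.HensNoeth

set_option autoImplicit false
set_option linter.style.haveILetI false
universe u

namespace Groth.Agent.H14.HensProp

open IsLocalRing

variable (R S : Type u) [CommRing R] [IsLocalRing R] [CommRing S] [IsLocalRing S] [Algebra R S]
  [IsLocalHom (algebraMap R S)] [Hensel.IsStrictHenselization R S]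

theorem inEtImage_of_isStrictHenselization (x : S) : InEtImage R S {x} :=
  Groth.Agent.H3.StrictHensUnion.isUnion (R := R) (S := S) x

/-- Strict henselization of a Noetherian local ring: Noetherian, and regularity, Cohen–Macaulayness,
`(S_k)`, `(R_k)` are equivalent for `R` and `S`. -/
theorem strict_package [IsNoetherianRing R] :
    IsNoetherianRing S ∧ (IsRegularLocalRing S ↔ IsRegularLocalRing R) ∧
      (LocCoh.IsCohenMacaulayLocalRing S ↔ LocCoh.IsCohenMacaulayLocalRing R) ∧
      (∀ k : ℕ, LocCoh.HasSk k S S ↔ LocCoh.HasSk k R R) ∧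
      (∀ k : ℕ, LocCoh.HasRk k S ↔ LocCoh.HasRk k R) := by
  have hS : Hensel.IsStrictHenselization R S := inferInstance
  haveI hff : Module.FaithfullyFlat R S := Groth.Agent.H3.SH.faithfullyFlat R hS
  have hm : (maximalIdeal R).map (algebraMap R S) = maximalIdeal S :=
    Groth.Agent.H3.SH.map_maximalIdeal_eq_of_isStrictHenselization R hS
  exact union_package hm (inEtImage_of_isStrictHenselization R S)

theorem isNoetherianRing_iff_of_isStrictHenselization :
    IsNoetherianRing R ↔ IsNoetherianRing S := by
  have hS : Hensel.IsStrictHenselization R S := inferInstance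
  constructor
  · intro h
    exact (strict_package R S).1
  · intro h
    haveI hff : Module.FaithfullyFlat R S := Groth.Agent.H3.SH.faithfullyFlat R hS
    exact Groth.Agent.H3.HensNoeth.isNoetherianRing_of_faithfullyFlat R S

end Groth.Agent.H14.HensProp
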