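import Mathlib
import Groth.Prelude.Def_Hensel
import Groth.Agent.H14.HensProp.FibreSep
import Groth.Agent.H14.HensProp.Strict
import Groth.Agent.H26.SkFlat
import Groth.Agent.H3.HensUnion

set_option autoImplicit false
set_option linter.style.haveILetI false
universe u

namespace Groth.Agent.H14.HensProp

open TensorProduct

/-- Unions of étale images are stable under base change. -/
theorem inEtImage_baseChange (R S : Type u) [CommRing R] [CommRing S] [Algebra R S]
    (hU : ∀ x : S, InEtImage R S {x}) (K : Type u) [CommRing K] [Algebra R K] (t : K ⊗[R] S) :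
    InEtImage K (K ⊗[R] S) {t} := by
  induction t using TensorProduct.induction_on with
  | zero =>
    exact ⟨K, _, _, inferInstance, Algebra.ofId K _, by rintro _ rfl; exact ⟨0, map_zero _⟩⟩
  | tmul k s =>
    obtain ⟨E₀, _, _, hE, φ, hφ⟩ := hU s
    obtain ⟨e₀, rfl⟩ : ∃ e, φ e = s := hφ rfl
    refine ⟨K ⊗[R] E₀, _, _, inferInstance, Algebra.TensorProduct.map (AlgHom.id K K) φ, ?_⟩
    rintro _ rfl
    exact ⟨k ⊗ₜ e₀, by simp⟩
  | add x y hx hy =>
    obtain ⟨E, _, _, hE, ψ, hψ⟩ := InEtImage.union hx hy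
    obtain ⟨x', rfl⟩ := hψ (Or.inl rfl)
    obtain ⟨y', rfl⟩ := hψ (Or.inr rfl)
    exact ⟨E, _, _, hE, ψ, by rintro _ rfl; exact ⟨x' + y', map_add _ _ _⟩⟩

/-- The fibres of a Noetherian union of étale images are finite products of separable algebraic
field extensions. -/
theorem fibre_equiv_pi_separable (R S : Type u) [CommRing R] [CommRing S] [Algebra R S]
    [IsNoetherianRing S] (hU : ∀ x : S, InEtImage R S {x}) (p : Ideal R) [p.IsPrime] :
    ∃ (n : ℕ) (K : Fin n → Type u) (_ : ∀ i, Field (K i)) (_ : ∀ i, Algebra p.ResidueField (K i)),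
      (∀ i, Algebra.IsSeparable p.ResidueField (K i)) ∧
      Nonempty ((p.ResidueField ⊗[R] S) ≃ₐ[p.ResidueField] (Π i, K i)) := by
  haveI : IsNoetherianRing (p.ResidueField ⊗[R] S) :=
    Groth.Agent.H26.SkFlat.isNoetherianRing_fiber S p
  exact exists_algEquiv_pi_of_inEtImage (inEtImage_baseChange R S hU p.ResidueField)

section Hens

variable (R S : Type u) [CommRing R] [IsLocalRing R] [IsNoetherianRing R]
    [CommRing S] [IsLocalRing S] [Algebra R S] [IsLocalHom (algebraMap R S)]

theorem fibre_equiv_pi_separable_of_isHenselization [Hensel.IsHenselization R S]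
    (p : Ideal R) [p.IsPrime] :
    ∃ (n : ℕ) (K : Fin n → Type u) (_ : ∀ i, Field (K i)) (_ : ∀ i, Algebra p.ResidueField (K i)),
      (∀ i, Algebra.IsSeparable p.ResidueField (K i)) ∧
      Nonempty ((p.ResidueField ⊗[R] S) ≃ₐ[p.ResidueField] (Π i, K i)) := by
  have hP := Groth.Agent.H3.HensIso.isPairHenselization_of_isHenselization
      (inferInstance : Hensel.IsHenselization R S)
  haveI := isNoetherianRing_of_isHenselization R S
  exact fibre_equiv_pi_separable R S
    (fun x => Groth.Agent.H3.HensUnion.isUnion_of_isPairHenselization hP x) p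

theorem fibre_equiv_pi_separable_of_isStrictHenselization [Hensel.IsStrictHenselization R S]
    (p : Ideal R) [p.IsPrime] :
    ∃ (n : ℕ) (K : Fin n → Type u) (_ : ∀ i, Field (K i)) (_ : ∀ i, Algebra p.ResidueField (K i)),
      (∀ i, Algebra.IsSeparable p.ResidueField (K i)) ∧
      Nonempty ((p.ResidueField ⊗[R] S) ≃ₐ[p.ResidueField] (Π i, K i)) := by
  haveI := (strict_package R S).1
  exact fibre_equiv_pi_separable R S (inEtImage_of_isStrictHenselization R S) p

end Hens

end Groth.Agent.H14.HensProp
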