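import Mathlib
import Groth.Prelude.Def_CAlg
import Groth.Prelude.Def_Hensel
import Groth.Agent.H14.HensProp.Strict
import Groth.Agent.Lead.RegularCompletion

set_option autoImplicit false
set_option linter.style.haveILetI false
universe u

namespace Groth.Agent.H14.HensProp

open IsLocalRing

/-- DVR-ness along a flat local homomorphism with `m_X Y = m_Y`. -/
theorem exists_isDiscreteValuationRing_iff_of_flat (X Y : Type u) [CommRing X] [CommRing Y]
    [Algebra X Y] [IsLocalRing X] [IsLocalRing Y] [IsNoetherianRing X] [IsNoetherianRing Y]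
    [IsLocalHom (algebraMap X Y)] [Module.Flat X Y]
    (h : (maximalIdeal X).map (algebraMap X Y) = maximalIdeal Y) :
    (∃ _ : IsDomain X, IsDiscreteValuationRing X) ↔ (∃ _ : IsDomain Y, IsDiscreteValuationRing Y) := by
  obtain ⟨hdim, -, hreg, -⟩ := flat_local_package X Y h
  rw [Groth.Agent.Lead.RLR.exists_isDiscreteValuationRing_iff,
    Groth.Agent.Lead.RLR.exists_isDiscreteValuationRing_iff]
  constructor
  · rintro ⟨hX, h1⟩
    have hY : IsRegularLocalRing Y := hreg.mpr hX
    refine ⟨hY, ?_⟩
    have e1 := hX.spanFinrank_maximalIdeal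
    have e2 := hY.spanFinrank_maximalIdeal
    rw [hdim, ← e1] at e2
    have e3 : (maximalIdeal Y).spanFinrank = (maximalIdeal X).spanFinrank := by exact_mod_cast e2
    rw [e3, h1]
  · rintro ⟨hY, h1⟩
    have hX : IsRegularLocalRing X := hreg.mp hY
    refine ⟨hX, ?_⟩
    have e1 := hX.spanFinrank_maximalIdeal
    have e2 := hY.spanFinrank_maximalIdeal
    rw [hdim, ← e1] at e2
    have e3 : (maximalIdeal Y).spanFinrank = (maximalIdeal X).spanFinrank := by exact_mod_cast e2
    rw [← e3, h1]

section Hens

variable (R S : Type u) [CommRing R] [IsLocalRing R] [IsNoetherianRing R]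
    [CommRing S] [IsLocalRing S] [Algebra R S] [IsLocalHom (algebraMap R S)]

/-- the basic package for a henselization of a Noetherian local ring -/
theorem hens_basic [Hensel.IsHenselization R S] :
    IsNoetherianRing S ∧ Module.Flat R S ∧
      (maximalIdeal R).map (algebraMap R S) = maximalIdeal S := by
  have hP := Groth.Agent.H3.HensIso.isPairHenselization_of_isHenselization
      (inferInstance : Hensel.IsHenselization R S)
  exact ⟨isNoetherianRing_of_isHenselization R S, Groth.Agent.H3.HensFlatMain.flat hP,
    (Groth.Agent.H3.HensLocal.maximalIdeal_eq hP).symm⟩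

/-- the basic package for a strict henselization of a Noetherian local ring -/
theorem strict_basic [Hensel.IsStrictHenselization R S] :
    IsNoetherianRing S ∧ Module.Flat R S ∧
      (maximalIdeal R).map (algebraMap R S) = maximalIdeal S := by
  have hS : Hensel.IsStrictHenselization R S := inferInstance
  haveI hff : Module.FaithfullyFlat R S := Groth.Agent.H3.SH.faithfullyFlat R hS
  exact ⟨(strict_package R S).1, inferInstance,
    Groth.Agent.H3.SH.map_maximalIdeal_eq_of_isStrictHenselization R hS⟩

theorem depth_eq_of_isHenselization [Hensel.IsHenselization R S] :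
    LocCoh.depth S S = LocCoh.depth R R := by
  obtain ⟨h1, h2, h3⟩ := hens_basic R S
  exact (flat_local_package R S h3).2.1

theorem depth_eq_of_isStrictHenselization [Hensel.IsStrictHenselization R S] :
    LocCoh.depth S S = LocCoh.depth R R := by
  obtain ⟨h1, h2, h3⟩ := strict_basic R S
  exact (flat_local_package R S h3).2.1

theorem dvr_iff_of_isHenselization [Hensel.IsHenselization R S] :
    (∃ _ : IsDomain R, IsDiscreteValuationRing R) ↔ (∃ _ : IsDomain S, IsDiscreteValuationRing S) := by
  obtain ⟨h1, h2, h3⟩ := hens_basic R S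
  exact exists_isDiscreteValuationRing_iff_of_flat R S h3

theorem dvr_iff_of_isStrictHenselization [Hensel.IsStrictHenselization R S] :
    (∃ _ : IsDomain R, IsDiscreteValuationRing R) ↔ (∃ _ : IsDomain S, IsDiscreteValuationRing S) := by
  obtain ⟨h1, h2, h3⟩ := strict_basic R S
  exact exists_isDiscreteValuationRing_iff_of_flat R S h3

end Hens

end Groth.Agent.H14.HensProp
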