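import Mathlib
import Groth.Prelude.Def_Found
import Groth.Prelude.Def_EGA4b
import Groth.Agent.H26.RegHomBaseChange
import Groth.Agent.H26.RegHomComp
import Groth.Agent.H78.ComplFinite.Basic
import Groth.Agent.H78.ComplFinite.Semilocal
import Groth.Agent.H57.GRingMax
import Groth.Agent.H72.ExcellentLoc
import Groth.Agent.H26.SkFlat

/-!
# The completion map of a finite local algebra over a local ring with regular completion map
-/

set_option autoImplicit false
set_option linter.style.haveILetI false
set_option linter.unusedSectionVars false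
universe u

namespace Groth.Agent.H14.HensProp.FinGRing

open IsLocalRing TensorProduct

variable (R T : Type u) [CommRing R] [IsLocalRing R] [IsNoetherianRing R] [CommRing T]
  [IsLocalRing T] [Algebra R T] [Module.Finite R T]

theorem map_maximalIdeal_le : (maximalIdeal R).map (algebraMap R T) ≤ maximalIdeal T := by
  have := Groth.Agent.H78.ComplFinite.map_jacobson_le (R := R) (S := T)
  rwa [IsLocalRing.jacobson_eq_maximalIdeal _ bot_ne_top,
    IsLocalRing.jacobson_eq_maximalIdeal _ bot_ne_top] at this

theorem exists_pow_maximalIdeal_le :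
    ∃ k, maximalIdeal T ^ k ≤ (maximalIdeal R).map (algebraMap R T) := by
  have := Groth.Agent.H78.ComplFinite.exists_pow_jacobson_le (R := R) (S := T)
  rwa [IsLocalRing.jacobson_eq_maximalIdeal _ bot_ne_top,
    IsLocalRing.jacobson_eq_maximalIdeal _ bot_ne_top] at this

/-- the comparison map `T ⊗_R R̂ → T̂` -/
noncomputable def cmp : T ⊗[R] EGA4.Cpl R →+* EGA4.Cpl T :=
  (Groth.Agent.H78.ComplFinite.Phi (maximalIdeal R) (maximalIdeal T)
    (map_maximalIdeal_le R T)).toRingHom.comp
    (Algebra.TensorProduct.comm R T (EGA4.Cpl R)).toRingEquiv.toRingHom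

theorem cmp_bijective : Function.Bijective (cmp R T) := by
  have h := Groth.Agent.H78.ComplFinite.Phi_bijective (maximalIdeal R) (maximalIdeal T)
    (map_maximalIdeal_le R T) (exists_pow_maximalIdeal_le R T)
  exact h.comp (Algebra.TensorProduct.comm R T (EGA4.Cpl R)).bijective

theorem cmp_algebraMap (x : T) :
    cmp R T (algebraMap T (T ⊗[R] EGA4.Cpl R) x) = algebraMap T (EGA4.Cpl T) x := by
  change Groth.Agent.H78.ComplFinite.Phi (maximalIdeal R) (maximalIdeal T)
    (map_maximalIdeal_le R T) (Algebra.TensorProduct.comm R T (EGA4.Cpl R) (x ⊗ₜ 1)) = _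
  rw [Algebra.TensorProduct.comm_tmul, Groth.Agent.H78.ComplFinite.Phi_tmul, map_one, one_mul]

/-- a finite local algebra over a Noetherian local ring with regular completion map has regular
completion map -/
theorem isRegularHom_cpl_of_finite (hR : CAlg.IsRegularHom R (EGA4.Cpl R)) :
    CAlg.IsRegularHom T (EGA4.Cpl T) := by
  haveI : IsNoetherianRing T := IsNoetherianRing.of_finite R T
  haveI : IsNoetherianRing (EGA4.Cpl T) := Groth.Agent.H20.isNoetherianRing_adicCompletion _
  have hbc : CAlg.IsRegularHom T (T ⊗[R] EGA4.Cpl R) :=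
    Groth.Agent.H26.RegHomBaseChange.isRegularHom_baseChange_of_essFiniteType R (EGA4.Cpl R) T hR
  letI : Algebra (T ⊗[R] EGA4.Cpl R) (EGA4.Cpl T) := (cmp R T).toAlgebra
  haveI : IsScalarTower T (T ⊗[R] EGA4.Cpl R) (EGA4.Cpl T) :=
    IsScalarTower.of_algebraMap_eq (fun x => (cmp_algebraMap R T x).symm)
  have hbij : CAlg.IsRegularHom (T ⊗[R] EGA4.Cpl R) (EGA4.Cpl T) :=
    Groth.Agent.H72.ExcellentLoc.isRegularHom_of_bijective _ _ (cmp_bijective R T)
  exact Groth.Agent.H26.RegHomComp.isRegularHom_comp T (T ⊗[R] EGA4.Cpl R) (EGA4.Cpl T) hbc hbij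
    (fun p _ => Groth.Agent.H26.SkFlat.isNoetherianRing_fiber (EGA4.Cpl T) p)

/-- a finite local algebra over a Noetherian local G-ring is a G-ring -/
theorem isGRing_of_finite (hR : CAlg.IsRegularHom R (EGA4.Cpl R)) : CAlg.IsGRing T := by
  haveI : IsNoetherianRing T := IsNoetherianRing.of_finite R T
  exact Groth.Agent.H57.GRingMax.isGRing_of_isRegularHom_cpl T (isRegularHom_cpl_of_finite R T hR)

end Groth.Agent.H14.HensProp.FinGRing
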