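import Mathlib
import Groth.Agent.H3.HensIntegralLocal

/-!
# Integral algebras over a henselian local ring: minimal primes versus maximal ideals
-/

set_option autoImplicit false
set_option linter.style.haveILetI false
universe u

namespace Groth.Agent.H14.HensProp.IntHensMax

open IsLocalRing

section General

variable {T : Type u} [CommRing T]

/-- the kernel of the localization at `M` lies in every prime contained in `M` -/
theorem ker_le_of_le (M P : Ideal T) [M.IsPrime] [P.IsPrime] (h : P ≤ M) :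
    RingHom.ker (algebraMap T (Localization.AtPrime M)) ≤ P := by
  intro c hc
  rw [RingHom.mem_ker, IsLocalization.map_eq_zero_iff M.primeCompl] at hc
  obtain ⟨⟨s, hs⟩, hsc⟩ := hc
  have h1 : s * c ∈ P := by rw [hsc]; exact P.zero_mem
  rcases Ideal.IsPrime.mem_or_mem ‹P.IsPrime› h1 with h2 | h2
  · exact absurd (h h2) hs
  · exact h2

/-- if the localization at `M` is a domain, `M` contains at most one minimal prime -/
theorem eq_of_le_of_isDomain (M : Ideal T) [M.IsPrime] [IsDomain (Localization.AtPrime M)]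
    {P₁ P₂ : Ideal T} (h₁ : P₁ ∈ minimalPrimes T) (h₂ : P₂ ∈ minimalPrimes T)
    (h₁M : P₁ ≤ M) (h₂M : P₂ ≤ M) : P₁ = P₂ := by
  haveI : P₁.IsPrime := h₁.1.1
  haveI : P₂.IsPrime := h₂.1.1
  set K := RingHom.ker (algebraMap T (Localization.AtPrime M)) with hK
  haveI hKp : K.IsPrime := RingHom.ker_isPrime _
  have hK1 : K ≤ P₁ := ker_le_of_le M P₁ h₁M
  have hK2 : K ≤ P₂ := ker_le_of_le M P₂ h₂M
  have e1 : P₁ ≤ K := h₁.2 ⟨hKp, bot_le⟩ hK1
  have e2 : P₂ ≤ K := h₂.2 ⟨hKp, bot_le⟩ hK2
  exact le_antisymm (e1.trans hK2) (e2.trans hK1)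

end General

variable (S : Type u) [CommRing S] [HenselianLocalRing S] (T : Type u) [CommRing T] [Algebra S T]
  [Algebra.IsIntegral S T]

/-- maximal ideals of an integral algebra over a local ring lie over the maximal ideal -/
theorem liesOver_of_isMaximal (M : Ideal T) [M.IsMaximal] : M.LiesOver (maximalIdeal S) := by
  refine ⟨?_⟩
  have h1 : (M.comap (algebraMap S T)).IsMaximal :=
    Ideal.isMaximal_comap_of_isIntegral_of_isMaximal M
  exact (IsLocalRing.eq_maximalIdeal h1).symm

include S in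
/-- **A prime of an integral algebra over a henselian local ring lies in exactly one maximal
ideal.** -/
theorem eq_of_le_of_le (P M₁ M₂ : Ideal T) [P.IsPrime] [M₁.IsMaximal] [M₂.IsMaximal]
    (h₁ : P ≤ M₁) (h₂ : P ≤ M₂) : M₁ = M₂ := by
  haveI := liesOver_of_isMaximal S T M₁
  have hsurj := Groth.Agent.H3.HensIntegralLocal.algebraMap_localization_surjective S T M₁
  have hK : RingHom.ker (algebraMap T (Localization.AtPrime M₁)) ≤ M₂ :=
    (ker_le_of_le M₁ P h₁).trans h₂
  symm
  refine Ideal.IsMaximal.eq_of_le ‹M₂.IsMaximal› (Ideal.IsMaximal.ne_top ‹M₁.IsMaximal›) ?_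
  intro x hx
  by_contra hxM
  have hu : IsUnit (algebraMap T (Localization.AtPrime M₁) x) :=
    IsLocalization.map_units (Localization.AtPrime M₁) (⟨x, hxM⟩ : M₁.primeCompl)
  obtain ⟨v, hv⟩ := hu.exists_right_inv
  obtain ⟨y, rfl⟩ := hsurj v
  have h3 : x * y - 1 ∈ RingHom.ker (algebraMap T (Localization.AtPrime M₁)) := by
    rw [RingHom.mem_ker, map_sub, map_mul, hv, map_one, sub_self]
  have h4 : x * y - 1 ∈ M₂ := hK h3
  have h5 : x * y ∈ M₂ := M₂.mul_mem_right y hx
  have h6 : (1 : T) ∈ M₂ := by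
    have := M₂.sub_mem h5 h4
    simpa using this
  exact Ideal.IsMaximal.ne_top ‹M₂.IsMaximal› ((Ideal.eq_top_iff_one _).mpr h6)

include S in
/-- **Minimal primes and maximal ideals are equinumerous** for an integral algebra over a
henselian local ring all of whose local rings at maximal ideals are domains. -/
theorem card_minimalPrimes_eq
    (hdom : ∀ (M : Ideal T) [M.IsMaximal], IsDomain (Localization.AtPrime M)) :
    ENat.card (minimalPrimes T) = ENat.card (MaximalSpectrum T) := by
  classical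
  have hex : ∀ P : minimalPrimes T, ∃ M : MaximalSpectrum T, P.1 ≤ M.asIdeal := by
    rintro ⟨P, hP⟩
    haveI : P.IsPrime := hP.1.1
    obtain ⟨M, hM, hPM⟩ := Ideal.exists_le_maximal P (Ideal.IsPrime.ne_top ‹P.IsPrime›)
    exact ⟨⟨M, hM⟩, hPM⟩
  choose f hf using hex
  have hinj : Function.Injective f := by
    intro P₁ P₂ h
    haveI : (f P₁).asIdeal.IsMaximal := (f P₁).isMaximal
    haveI := hdom (f P₁).asIdeal
    apply Subtype.ext
    refine eq_of_le_of_isDomain (f P₁).asIdeal P₁.2 P₂.2 (hf P₁) ?_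
    rw [h]
    exact hf P₂
  have hsurj : Function.Surjective f := by
    intro M
    haveI : M.asIdeal.IsMaximal := M.isMaximal
    obtain ⟨P, hP, hPM⟩ := Ideal.exists_minimalPrimes_le (bot_le : (⊥ : Ideal T) ≤ M.asIdeal)
    refine ⟨⟨P, hP⟩, ?_⟩
    haveI : P.IsPrime := hP.1.1
    haveI : (f ⟨P, hP⟩).asIdeal.IsMaximal := (f ⟨P, hP⟩).isMaximal
    apply MaximalSpectrum.ext
    exact eq_of_le_of_le S T P _ _ (hf ⟨P, hP⟩) hPM
  exact ENat.card_congr (Equiv.ofBijective f ⟨hinj, hsurj⟩)

end Groth.Agent.H14.HensProp.IntHensMax
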