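import Mathlib
import Groth.Agent.H3.UnionEtaleProps

/-!
# Local rings of a flat union of étale images over a ring with normal local rings are domains
-/

set_option autoImplicit false
set_option linter.style.haveILetI false
universe u

namespace Groth.Agent.H14.HensProp.LocUnionDomain

open IsLocalRing TensorProduct Groth.Agent.H3.UnionEtale

/-- a localization of a union of étale images, over any algebra it factors through -/
theorem isUnion_localization (A' B T T' : Type u) [CommRing A'] [CommRing B] [CommRing T]
    [CommRing T'] [Algebra A' B] [Algebra A' T] [Algebra A' T'] [Algebra B T'] [Algebra T T']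
    [IsScalarTower A' B T'] [IsScalarTower A' T T'] (M : Submonoid T) [IsLocalization M T']
    (h : IsUnion A' T) : IsUnion B T' := by
  classical
  intro x
  obtain ⟨⟨t, s⟩, hts⟩ := IsLocalization.surj M x
  simp only at hts
  obtain ⟨C, _, _, hC, φ, hφ⟩ := h.finset {t, (s : T)}
  obtain ⟨c, hc⟩ := hφ (show t ∈ ((({t, (s : T)} : Finset T)) : Set T) by simp)
  obtain ⟨d, hd⟩ := hφ (show (s : T) ∈ ((({t, (s : T)} : Finset T)) : Set T) by simp)
  have hdu : IsUnit (((IsScalarTower.toAlgHom A' T T').comp φ) d) := by
    change IsUnit (algebraMap T T' (φ d))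
    rw [hd]
    exact IsLocalization.map_units T' s
  let ψ₀ : Localization.Away d →ₐ[A'] T' := IsLocalization.Away.liftAlgHom d hdu
  haveI : Algebra.Etale C (Localization.Away d) := Algebra.Etale.of_isLocalizationAway d
  haveI : Algebra.Etale A' (Localization.Away d) := Algebra.Etale.comp A' C _
  let Φ : B ⊗[A'] Localization.Away d →ₐ[B] T' :=
    Algebra.TensorProduct.lift (Algebra.ofId B T') ψ₀ (fun _ _ => Commute.all _ _)
  refine ⟨B ⊗[A'] Localization.Away d, _, _, inferInstance, Φ, ?_⟩
  intro x' hx'
  rw [Set.mem_singleton_iff.mp hx']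
  refine ⟨1 ⊗ₜ (algebraMap C _ c * IsLocalization.Away.invSelf d), ?_⟩
  have h1 : ∀ y : C, ψ₀ (algebraMap C _ y) = algebraMap T T' (φ y) := fun y =>
    IsLocalization.Away.lift_eq d hdu y
  have h2 : ψ₀ (IsLocalization.Away.invSelf d) * algebraMap T T' s = 1 := by
    rw [← hd, ← h1, ← map_mul, mul_comm, IsLocalization.Away.mul_invSelf, map_one]
  have h3 : Φ (1 ⊗ₜ (algebraMap C _ c * IsLocalization.Away.invSelf d)) =
      algebraMap T T' t * ψ₀ (IsLocalization.Away.invSelf d) := by
    change Algebra.TensorProduct.lift _ _ _ _ = _
    rw [Algebra.TensorProduct.lift_tmul, map_one, one_mul, map_mul, h1, hc]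
  rw [h3]
  calc algebraMap T T' t * ψ₀ (IsLocalization.Away.invSelf d)
      = x * algebraMap T T' s * ψ₀ (IsLocalization.Away.invSelf d) := by rw [hts]
    _ = x * (ψ₀ (IsLocalization.Away.invSelf d) * algebraMap T T' s) := by ring
    _ = x := by rw [h2, mul_one]

section AtPrime

variable (A' T : Type u) [CommRing A'] [CommRing T] [Algebra A' T] [Module.Flat A' T]

attribute [local instance] Localization.AtPrime.algebraOfLiesOver

/-- **Local rings of a flat union of étale images over a ring all of whose local rings are
normal domains are domains.** -/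
theorem isDomain_localization (hU : IsUnion A' T)
    (hnorm : ∀ (p : Ideal A') [p.IsPrime],
      IsDomain (Localization.AtPrime p) ∧ IsIntegrallyClosed (Localization.AtPrime p))
    (M : Ideal T) [M.IsPrime] : IsDomain (Localization.AtPrime M) := by
  let p : Ideal A' := M.under A'
  haveI : p.IsPrime := Ideal.comap_isPrime _ M
  haveI : M.LiesOver p := ⟨rfl⟩
  obtain ⟨hd, hic⟩ := hnorm p
  haveI : IsLocalHom (algebraMap (Localization.AtPrime p) (Localization.AtPrime M)) := by
    rw [RingHom.algebraMap_toAlgebra]
    infer_instance
  haveI : Module.Flat A' (Localization.AtPrime M) := Module.Flat.trans A' T _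
  haveI : Module.Flat (Localization.AtPrime p) (Localization.AtPrime M) :=
    (Module.flat_iff_of_isLocalization (Localization.AtPrime p) p.primeCompl
      (Localization.AtPrime M)).mpr inferInstance
  have hU' : IsUnion (Localization.AtPrime p) (Localization.AtPrime M) :=
    isUnion_localization A' (Localization.AtPrime p) T (Localization.AtPrime M) M.primeCompl hU
  exact (isDomain_and_isIntegrallyClosed (A := Localization.AtPrime p)
    (B := Localization.AtPrime M) hU').1

end AtPrime

end Groth.Agent.H14.HensProp.LocUnionDomain
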