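import Mathlib

set_option autoImplicit false
set_option linter.style.haveILetI false
universe u

namespace Groth.Agent.H14.HensProp.MinPrimeBij

variable {R T : Type*} [CommRing R] [CommRing T] (φ : R →+* T) (S : Submonoid R)
  (hb : ∀ t : T, ∃ s ∈ S, ∃ r : R, φ s * t = φ r)

/-- the contraction to `T` of the extension of `P` to the "localization" -/
def ext (P : Ideal R) : Ideal T where
  carrier := {t | ∃ s ∈ S, ∃ r ∈ P, φ s * t = φ r}
  zero_mem' := ⟨1, one_mem _, 0, P.zero_mem, by simp⟩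
  add_mem' := by
    rintro t₁ t₂ ⟨s₁, hs₁, r₁, hr₁, h₁⟩ ⟨s₂, hs₂, r₂, hr₂, h₂⟩
    refine ⟨s₁ * s₂, mul_mem hs₁ hs₂, s₂ * r₁ + s₁ * r₂,
      P.add_mem (P.mul_mem_left _ hr₁) (P.mul_mem_left _ hr₂), ?_⟩
    rw [map_mul, map_add, map_mul, map_mul, ← h₁, ← h₂]
    ring
  smul_mem' := by
    rintro c t ⟨s, hs, r, hr, h⟩
    obtain ⟨s₀, hs₀, r₀, h₀⟩ := hb c
    refine ⟨s₀ * s, mul_mem hs₀ hs, r₀ * r, P.mul_mem_left _ hr, ?_⟩
    rw [map_mul, map_mul, ← h, ← h₀, smul_eq_mul]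
    ring

theorem mem_ext {P : Ideal R} {t : T} :
    t ∈ ext φ S hb P ↔ ∃ s ∈ S, ∃ r ∈ P, φ s * t = φ r := Iff.rfl

variable (hc : RingHom.ker φ ≤ nilradical R)

include hc in
/-- elements of `R` mapping into `ext P` lie in `P`, for `P` prime disjoint from `S` -/
theorem comap_ext (P : Ideal R) [hP : P.IsPrime] (hPS : ∀ s ∈ S, s ∉ P) :
    (ext φ S hb P).comap φ = P := by
  ext r₀
  rw [Ideal.mem_comap, mem_ext]
  constructor
  · rintro ⟨s, hs, r, hr, h⟩
    have h1 : s * r₀ - r ∈ RingHom.ker φ := by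
      rw [RingHom.mem_ker, map_sub, map_mul, h, sub_self]
    have h2 : s * r₀ - r ∈ P := nilradical_le_prime P (hc h1)
    have h3 : s * r₀ ∈ P := by
      have := P.add_mem h2 hr
      rwa [sub_add_cancel] at this
    exact (hP.mem_or_mem h3).resolve_left (hPS s hs)
  · intro hr₀
    exact ⟨1, one_mem _, r₀, hr₀, by simp⟩

include hc in
theorem isPrime_ext (P : Ideal R) [hP : P.IsPrime] (hPS : ∀ s ∈ S, s ∉ P) :
    (ext φ S hb P).IsPrime := by
  refine ⟨?_, ?_⟩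
  · intro htop
    have h1 : (1 : R) ∈ (ext φ S hb P).comap φ := by
      rw [Ideal.mem_comap, htop]; trivial
    rw [comap_ext φ S hb hc P hPS] at h1
    exact hP.ne_top ((Ideal.eq_top_iff_one _).mpr h1)
  · intro t₁ t₂ h
    obtain ⟨s, hs, r, hr, h⟩ := h
    obtain ⟨s₁, hs₁, r₁, h₁⟩ := hb t₁
    obtain ⟨s₂, hs₂, r₂, h₂⟩ := hb t₂
    have h3 : s * r₁ * r₂ - s₁ * s₂ * r ∈ RingHom.ker φ := by
      rw [RingHom.mem_ker, map_sub, map_mul, map_mul, map_mul, map_mul, ← h, ← h₁, ← h₂]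
      ring
    have h4 : s * r₁ * r₂ - s₁ * s₂ * r ∈ P := nilradical_le_prime P (hc h3)
    have h5 : s * r₁ * r₂ ∈ P := by
      have := P.add_mem h4 (P.mul_mem_left (s₁ * s₂) hr)
      rwa [sub_add_cancel] at this
    rcases hP.mem_or_mem h5 with h6 | h6
    · rcases hP.mem_or_mem h6 with h7 | h7
      · exact absurd h7 (hPS s hs)
      · exact Or.inl ⟨s₁, hs₁, r₁, h7, h₁⟩
    · exact Or.inr ⟨s₂, hs₂, r₂, h6, h₂⟩

variable (ha : ∀ s ∈ S, φ s ∈ nonZeroDivisors T)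
  (hd : ∀ s ∈ S, ∀ r : R, s * r ∈ nilradical R → r ∈ nilradical R)

include ha in
theorem notMem_of_mem_minimalPrimes {Q : Ideal T} (hQ : Q ∈ minimalPrimes T) (s : R)
    (hs : s ∈ S) : φ s ∉ Q := fun h =>
  notMem_nonZeroDivisors_of_mem_mem_minimalPrimes h hQ (ha s hs)

include hd in
theorem notMem_of_mem_minimalPrimes' {P : Ideal R} (hP : P ∈ minimalPrimes R) (s : R)
    (hs : s ∈ S) : s ∉ P := by
  intro h
  have h1 : s ∈ ⋃ p ∈ (⊥ : Ideal R).minimalPrimes, (p : Set R) := Set.mem_biUnion hP h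
  rw [Ideal.iUnion_minimalPrimes] at h1
  obtain ⟨y, hy, hsy⟩ := h1
  exact hy (hd s hs y hsy)

include hb ha in
/-- a minimal prime of `T` is the extension of its contraction -/
theorem ext_comap_le {Q : Ideal T} (hQ : Q ∈ minimalPrimes T) (P' : Ideal R)
    (hP' : P' ≤ Q.comap φ) : ext φ S hb P' ≤ Q := by
  haveI := hQ.1.1
  rintro t ⟨s, hs, r, hr, h⟩
  have h1 : φ s * t ∈ Q := by rw [h]; exact hP' hr
  exact (hQ.1.1.mem_or_mem h1).resolve_left (notMem_of_mem_minimalPrimes φ S ha hQ s hs)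

include hb hc ha hd in
/-- **Contraction is a bijection on minimal primes** for a ring map which becomes an isomorphism
modulo nilpotents after inverting a set of nonzerodivisors. -/
theorem bijOn_comap :
    Set.BijOn (fun Q : Ideal T => Q.comap φ) (minimalPrimes T) (minimalPrimes R) := by
  refine ⟨?_, ?_, ?_⟩
  · -- maps to
    intro Q hQ
    haveI hQp : Q.IsPrime := hQ.1.1
    have hPS : ∀ s ∈ S, s ∉ Q.comap φ := fun s hs h =>
      notMem_of_mem_minimalPrimes φ S ha hQ s hs h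
    refine ⟨⟨Ideal.comap_isPrime _ _, bot_le⟩, ?_⟩
    rintro P' ⟨hP'prime, -⟩ hP'le
    haveI := hP'prime
    have hP'S : ∀ s ∈ S, s ∉ P' := fun s hs h => hPS s hs (hP'le h)
    have h1 : ext φ S hb P' ≤ Q := ext_comap_le φ S hb ha hQ P' hP'le
    have h2 : Q ≤ ext φ S hb P' :=
      hQ.2 ⟨isPrime_ext φ S hb hc P' hP'S, bot_le⟩ h1
    have h3 : Q = ext φ S hb P' := le_antisymm h2 h1
    change Q.comap φ ≤ P'
    rw [h3, comap_ext φ S hb hc P' hP'S]
  · -- injective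
    intro Q₁ hQ₁ Q₂ hQ₂ heq
    have heq' : Q₁.comap φ = Q₂.comap φ := heq
    have key : ∀ Q Q' : Ideal T, Q ∈ minimalPrimes T → Q' ∈ minimalPrimes T →
        Q.comap φ = Q'.comap φ → Q ≤ Q' := by
      intro Q Q' hQ hQ' h t ht
      obtain ⟨s, hs, r, hsr⟩ := hb t
      have h1 : φ r ∈ Q := by rw [← hsr]; exact Q.mul_mem_left _ ht
      have h2 : φ r ∈ Q' := by
        have : r ∈ Q.comap φ := h1
        rw [h] at this
        exact this
      rw [← hsr] at h2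
      exact (hQ'.1.1.mem_or_mem h2).resolve_left (notMem_of_mem_minimalPrimes φ S ha hQ' s hs)
    exact le_antisymm (key Q₁ Q₂ hQ₁ hQ₂ heq') (key Q₂ Q₁ hQ₂ hQ₁ heq'.symm)
  · -- surjective
    intro P hP
    haveI hPp : P.IsPrime := hP.1.1
    have hPS : ∀ s ∈ S, s ∉ P := fun s hs => notMem_of_mem_minimalPrimes' S hd hP s hs
    refine ⟨ext φ S hb P, ⟨⟨isPrime_ext φ S hb hc P hPS, bot_le⟩, ?_⟩,
      comap_ext φ S hb hc P hPS⟩
    rintro Q'' ⟨hQ''prime, -⟩ hQ''le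
    haveI := hQ''prime
    have h1 : Q''.comap φ ≤ P := by
      have := Ideal.comap_mono (f := φ) hQ''le
      rwa [comap_ext φ S hb hc P hPS] at this
    have h2 : P ≤ Q''.comap φ := hP.2 ⟨Ideal.comap_isPrime _ _, bot_le⟩ h1
    rintro t ⟨s, hs, r, hr, h⟩
    have h3 : φ s * t ∈ Q'' := by rw [h]; exact h2 hr
    refine (hQ''prime.mem_or_mem h3).resolve_left ?_
    intro h4
    exact hPS s hs (h1 h4)

end Groth.Agent.H14.HensProp.MinPrimeBij
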