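import Mathlib
import Groth.Prelude.Def_Hensel
import Groth.Prelude.Def_CAlg2
import Groth.Agent.H14.HensProp.MinPrimeBij
import Groth.Agent.H3.HensUnion
import Groth.Agent.H14.HensProp.UniqueMin

set_option autoImplicit false
set_option linter.style.haveILetI false
universe u

namespace Groth.Agent.H14.HensProp.NormHensMin

open IsLocalRing TensorProduct

variable (A Ah : Type u) [CommRing A] [CommRing Ah] [Algebra A Ah]

/-- elements of `A` which are nonzerodivisors modulo nilpotents -/
def S₀ : Submonoid A := (nonZeroDivisors (CAlg2.red A)).comap (Ideal.Quotient.mk (nilradical A))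

theorem mem_S₀ {a : A} : a ∈ S₀ A ↔ Ideal.Quotient.mk (nilradical A) a ∈
    nonZeroDivisors (CAlg2.red A) := Iff.rfl

/-- multiplication by an element of `S₀` is injective on the normalization -/
theorem smul_injective_normRed {a : A} (ha : a ∈ S₀ A) :
    Function.Injective (LinearMap.lsmul A (CAlg2.normRed A) a) := by
  rw [injective_iff_map_eq_zero]
  intro x hx
  have h1 : (Ideal.Quotient.mk (nilradical A) a) • x = 0 := by
    have : a • x = 0 := hx
    rwa [← IsScalarTower.algebraMap_smul (CAlg2.red A) a x] at this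
  have h2 := congrArg (Subalgebra.val _) h1
  simp only [map_zero, Algebra.smul_def] at h2
  have hu : IsUnit (algebraMap (CAlg2.red A) (FractionRing (CAlg2.red A))
      (Ideal.Quotient.mk (nilradical A) a)) :=
    IsLocalization.map_units (FractionRing (CAlg2.red A))
      (⟨_, ha⟩ : nonZeroDivisors (CAlg2.red A))
  apply Subtype.ext
  exact (hu.mul_right_eq_zero).mp h2

variable [Module.Flat A Ah]

/-- the image of `S₀` consists of nonzerodivisors in the tensor product -/
theorem includeRight_mem_nonZeroDivisors {a : A} (ha : a ∈ S₀ A) :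
    (Algebra.TensorProduct.includeRight : Ah →ₐ[A] CAlg2.normRed A ⊗[A] Ah) (algebraMap A Ah a) ∈
      nonZeroDivisors (CAlg2.normRed A ⊗[A] Ah) := by
  have hinj := Module.Flat.rTensor_preserves_injective_linearMap (M := Ah)
    (LinearMap.lsmul A (CAlg2.normRed A) a) (smul_injective_normRed A ha)
  have hmul : ∀ t : CAlg2.normRed A ⊗[A] Ah,
      (LinearMap.lsmul A (CAlg2.normRed A) a).rTensor Ah t =
        (Algebra.TensorProduct.includeRight : Ah →ₐ[A] CAlg2.normRed A ⊗[A] Ah)
          (algebraMap A Ah a) * t := by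
    intro t
    induction t using TensorProduct.induction_on with
    | zero => simp
    | tmul x h =>
      rw [LinearMap.rTensor_tmul, Algebra.TensorProduct.includeRight_apply,
        Algebra.TensorProduct.tmul_mul_tmul, one_mul, LinearMap.lsmul_apply,
        Algebra.algebraMap_eq_smul_one, smul_mul_assoc, one_mul, TensorProduct.smul_tmul]
    | add t₁ t₂ h₁ h₂ => rw [map_add, h₁, h₂, mul_add]
  rw [mem_nonZeroDivisors_iff_right]
  intro t ht
  apply hinj
  rw [map_zero, hmul, mul_comm]
  exact ht

omit [Module.Flat A Ah] in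
/-- every element of the tensor product is a fraction with numerator from `Ah` -/
theorem exists_mul_eq (t : CAlg2.normRed A ⊗[A] Ah) :
    ∃ s ∈ (S₀ A).map (algebraMap A Ah : A →* Ah), ∃ r : Ah,
      (Algebra.TensorProduct.includeRight : Ah →ₐ[A] CAlg2.normRed A ⊗[A] Ah) s * t =
        (Algebra.TensorProduct.includeRight : Ah →ₐ[A] CAlg2.normRed A ⊗[A] Ah) r := by
  induction t using TensorProduct.induction_on with
  | zero => exact ⟨1, one_mem _, 0, by simp⟩
  | tmul x h =>
    obtain ⟨⟨r₀, d⟩, hrd⟩ := IsLocalization.surj (nonZeroDivisors (CAlg2.red A))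
      ((x : FractionRing (CAlg2.red A)))
    simp only at hrd
    obtain ⟨ad, had⟩ := Ideal.Quotient.mk_surjective (d : CAlg2.red A)
    obtain ⟨ar, har⟩ := Ideal.Quotient.mk_surjective r₀
    have hadS : ad ∈ S₀ A := by rw [mem_S₀, had]; exact d.2
    have hx : ad • x = algebraMap A (CAlg2.normRed A) ar := by
      apply Subtype.ext
      rw [IsScalarTower.algebraMap_apply A (CAlg2.red A) (CAlg2.normRed A),
        ← IsScalarTower.algebraMap_smul (CAlg2.red A) ad x]
      change (Ideal.Quotient.mk (nilradical A) ad) • (x : FractionRing (CAlg2.red A)) =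
        algebraMap (CAlg2.red A) (FractionRing (CAlg2.red A)) (Ideal.Quotient.mk _ ar)
      rw [had, har, Algebra.smul_def, ← hrd, mul_comm]
    refine ⟨algebraMap A Ah ad, ⟨ad, hadS, rfl⟩, ar • h, ?_⟩
    rw [Algebra.TensorProduct.includeRight_apply, Algebra.TensorProduct.includeRight_apply,
      Algebra.TensorProduct.tmul_mul_tmul, one_mul, Algebra.algebraMap_eq_smul_one,
      smul_mul_assoc, one_mul, ← TensorProduct.smul_tmul, hx, Algebra.algebraMap_eq_smul_one,
      TensorProduct.smul_tmul]
  | add t₁ t₂ h₁ h₂ =>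
    obtain ⟨s₁, hs₁, r₁, e₁⟩ := h₁
    obtain ⟨s₂, hs₂, r₂, e₂⟩ := h₂
    refine ⟨s₁ * s₂, mul_mem hs₁ hs₂, s₂ * r₁ + s₁ * r₂, ?_⟩
    rw [map_mul, map_add, map_mul, map_mul, ← e₁, ← e₂]
    ring

/-- the kernel of `Ah → normRed A ⊗ Ah` lies in the extension of the nilradical -/
theorem ker_includeRight_le :
    RingHom.ker (Algebra.TensorProduct.includeRight : Ah →ₐ[A] CAlg2.normRed A ⊗[A] Ah).toRingHom
      ≤ (nilradical A).map (algebraMap A Ah) := by
  intro x hx
  have hx' : (1 : CAlg2.normRed A) ⊗ₜ[A] x = 0 := hx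
  let f : CAlg2.red A →ₗ[A] CAlg2.normRed A :=
    (Algebra.linearMap (CAlg2.red A) (CAlg2.normRed A)).restrictScalars A
  have hf : Function.Injective f := UniqueMin.algebraMap_red_normRed_injective A
  have hinj := Module.Flat.rTensor_preserves_injective_linearMap (M := Ah) f hf
  have h1 : (1 : CAlg2.red A) ⊗ₜ[A] x = 0 := by
    apply hinj
    rw [map_zero, LinearMap.rTensor_tmul]
    change (algebraMap (CAlg2.red A) (CAlg2.normRed A) 1) ⊗ₜ[A] x = 0
    rw [map_one]
    exact hx'
  have h2 : Algebra.TensorProduct.quotIdealMapEquivQuotTensor Ah (nilradical A)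
      (Ideal.Quotient.mk _ x) = 0 := by
    rw [Algebra.TensorProduct.quotIdealMapEquivQuotTensor_mk]
    exact h1
  have h3 := (EmbeddingLike.map_eq_zero_iff).mp h2
  exact Ideal.Quotient.eq_zero_iff_mem.mp h3

/-- elements of `S₀` are nonzerodivisors modulo the extension of the nilradical -/
theorem mem_map_of_mul_mem {a : A} (ha : a ∈ S₀ A) (r : Ah)
    (h : algebraMap A Ah a * r ∈ (nilradical A).map (algebraMap A Ah)) :
    r ∈ (nilradical A).map (algebraMap A Ah) := by
  let f : CAlg2.red A →ₗ[A] CAlg2.red A :=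
    LinearMap.lsmul A (CAlg2.red A) a
  have hf : Function.Injective f := by
    rw [injective_iff_map_eq_zero]
    intro x hx
    have : a • x = 0 := hx
    rw [Algebra.smul_def] at this
    exact (mem_nonZeroDivisors_iff_right.mp ha) x (by rw [mul_comm]; exact this)
  have hinj := Module.Flat.rTensor_preserves_injective_linearMap (M := Ah) f hf
  have h1 : (1 : CAlg2.red A) ⊗ₜ[A] r = 0 := by
    apply hinj
    rw [map_zero, LinearMap.rTensor_tmul]
    change (a • (1 : CAlg2.red A)) ⊗ₜ[A] r = 0
    rw [TensorProduct.smul_tmul]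
    have h2 : Algebra.TensorProduct.quotIdealMapEquivQuotTensor Ah (nilradical A)
        (Ideal.Quotient.mk _ (a • r)) = 0 := by
      rw [Algebra.smul_def, Ideal.Quotient.eq_zero_iff_mem.mpr h, map_zero]
    rwa [Algebra.TensorProduct.quotIdealMapEquivQuotTensor_mk] at h2
  have h2 : Algebra.TensorProduct.quotIdealMapEquivQuotTensor Ah (nilradical A)
      (Ideal.Quotient.mk _ r) = 0 := by
    rw [Algebra.TensorProduct.quotIdealMapEquivQuotTensor_mk]
    exact h1
  have h3 := (EmbeddingLike.map_eq_zero_iff).mp h2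
  exact Ideal.Quotient.eq_zero_iff_mem.mp h3

/-- **Contraction is a bijection from the minimal primes of `normRed A ⊗ Ah` onto those of `Ah`**
for a flat `A`-algebra `Ah` whose nilradical is the extension of that of `A`. -/
theorem bijOn_minimalPrimes (hnil : (nilradical A).map (algebraMap A Ah) = nilradical Ah) :
    Set.BijOn (fun P : Ideal (CAlg2.normRed A ⊗[A] Ah) =>
        P.comap (Algebra.TensorProduct.includeRight.toRingHom :
          Ah →+* CAlg2.normRed A ⊗[A] Ah))
      (minimalPrimes (CAlg2.normRed A ⊗[A] Ah)) (minimalPrimes Ah) := by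
  refine MinPrimeBij.bijOn_comap (R := Ah) (T := CAlg2.normRed A ⊗[A] Ah)
    (Algebra.TensorProduct.includeRight.toRingHom : Ah →+* CAlg2.normRed A ⊗[A] Ah)
    ((S₀ A).map (algebraMap A Ah : A →* Ah)) ?_ ?_ ?_ ?_
  · exact fun t => exists_mul_eq A Ah t
  · rw [← hnil]
    exact ker_includeRight_le A Ah
  · rintro _ ⟨a, ha, rfl⟩
    exact includeRight_mem_nonZeroDivisors A Ah ha
  · rintro _ ⟨a, ha, rfl⟩ r hr
    rw [← hnil] at hr ⊢
    exact mem_map_of_mul_mem A Ah ha r hr

/-- **S2125.** -/
theorem bijOn_minimalPrimes_henselization {A Ah : Type u} [CommRing A] [IsLocalRing A]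
    [CommRing Ah] [IsLocalRing Ah] [Algebra A Ah] [IsLocalHom (algebraMap A Ah)]
    [Hensel.IsHenselization A Ah] :
    Set.BijOn (fun P : Ideal (CAlg2.normRed A ⊗[A] Ah) =>
        P.comap (Algebra.TensorProduct.includeRight.toRingHom :
          Ah →+* CAlg2.normRed A ⊗[A] Ah))
      (minimalPrimes (CAlg2.normRed A ⊗[A] Ah)) (minimalPrimes Ah) := by
  have hH : Hensel.IsHenselization A Ah := inferInstance
  obtain ⟨hU, hff⟩ := Groth.Agent.H3.HensUnion.package (Or.inl hH)
  haveI : Module.Flat A Ah := hff.toFlat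
  exact bijOn_minimalPrimes A Ah (Groth.Agent.H3.HensUnion.map_nilradical (Or.inl hH))

end Groth.Agent.H14.HensProp.NormHensMin
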