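import Mathlib

/-!
# Maximal ideals of `A' ⊗[A] S` for `A'` integral over the local ring `A` and `S` a local
`A`-algebra with the same residue field and `𝔪_A S ⊆ rad`
-/

set_option autoImplicit false
set_option linter.style.haveILetI false
universe u

namespace Groth.Agent.H14.HensProp.TensorMax

open IsLocalRing TensorProduct

variable (A S A' : Type u) [CommRing A] [IsLocalRing A] [CommRing S] [IsLocalRing S] [Algebra A S]
  [IsLocalHom (algebraMap A S)] [CommRing A'] [Algebra A A']

omit [IsLocalRing A] [IsLocalRing S] [IsLocalHom (algebraMap A S)] in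
/-- the `S`-algebra structure on `A' ⊗[A] S` is integral when `A'` is integral over `A` -/
theorem isIntegral_includeRight [Algebra.IsIntegral A A'] :
    (Algebra.TensorProduct.includeRight : S →ₐ[A] A' ⊗[A] S).toRingHom.IsIntegral := by
  intro t
  induction t using TensorProduct.induction_on with
  | zero => exact RingHom.isIntegralElem_zero _
  | tmul b s =>
    have h1 : b ⊗ₜ[A] s = (b ⊗ₜ[A] (1 : S)) * ((1 : A') ⊗ₜ[A] s) := by
      rw [Algebra.TensorProduct.tmul_mul_tmul, mul_one, one_mul]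
    rw [h1]
    refine RingHom.IsIntegralElem.mul _ ?_ ?_
    · have hb : IsIntegral A b := Algebra.IsIntegral.isIntegral b
      have := hb.map (Algebra.TensorProduct.includeLeft : A' →ₐ[A] A' ⊗[A] S)
      obtain ⟨p, hp, hpe⟩ := this
      refine ⟨p.map (algebraMap A S), hp.map _, ?_⟩
      rw [Polynomial.eval₂_map]
      have : ((Algebra.TensorProduct.includeRight : S →ₐ[A] A' ⊗[A] S).toRingHom).comp
          (algebraMap A S) = algebraMap A (A' ⊗[A] S) := by
        ext a
        simp [Algebra.algebraMap_eq_smul_one]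
      rw [this]
      exact hpe
    · exact RingHom.isIntegralElem_map (f := (Algebra.TensorProduct.includeRight :
        S →ₐ[A] A' ⊗[A] S).toRingHom) (x := s)
  | add x y hx hy => exact RingHom.IsIntegralElem.add _ hx hy

variable (hres : ∀ s : S, ∃ a : A, s - algebraMap A S a ∈ (maximalIdeal A).map (algebraMap A S))

omit [IsLocalRing S] [IsLocalHom (algebraMap A S)] in
include hres in
/-- modulo `𝔪_A`, every element of `A' ⊗[A] S` comes from `A'` -/
theorem exists_sub_mem (t : A' ⊗[A] S) :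
    ∃ b : A', t - b ⊗ₜ[A] (1 : S) ∈ (maximalIdeal A).map (algebraMap A (A' ⊗[A] S)) := by
  have key : ∀ (b : A') (n : S), n ∈ (maximalIdeal A).map (algebraMap A S) →
      b ⊗ₜ[A] n ∈ (maximalIdeal A).map (algebraMap A (A' ⊗[A] S)) := by
    intro b n hn
    refine Submodule.span_induction (p := fun n _ => b ⊗ₜ[A] n ∈
      (maximalIdeal A).map (algebraMap A (A' ⊗[A] S))) ?_ ?_ ?_ ?_ hn
    · rintro _ ⟨a, ha, rfl⟩
      have : b ⊗ₜ[A] (algebraMap A S a) = algebraMap A (A' ⊗[A] S) a * (b ⊗ₜ[A] (1 : S)) := by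
        rw [Algebra.algebraMap_eq_smul_one, ← TensorProduct.smul_tmul, ← Algebra.smul_def,
          TensorProduct.smul_tmul']
      rw [this]
      exact Ideal.mul_mem_right _ _ (Ideal.mem_map_of_mem _ ha)
    · rw [TensorProduct.tmul_zero]; exact Ideal.zero_mem _
    · intro x y _ _ hx hy
      rw [TensorProduct.tmul_add]; exact Ideal.add_mem _ hx hy
    · intro c x _ hx
      have : b ⊗ₜ[A] (c • x) = ((1 : A') ⊗ₜ[A] c) * (b ⊗ₜ[A] x) := by
        rw [Algebra.TensorProduct.tmul_mul_tmul, one_mul, smul_eq_mul]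
      rw [this]
      exact Ideal.mul_mem_left _ _ hx
  induction t using TensorProduct.induction_on with
  | zero => exact ⟨0, by simp⟩
  | tmul b s =>
    obtain ⟨a, ha⟩ := hres s
    refine ⟨a • b, ?_⟩
    have : b ⊗ₜ[A] s - (a • b) ⊗ₜ[A] (1 : S) = b ⊗ₜ[A] (s - algebraMap A S a) := by
      rw [TensorProduct.tmul_sub, TensorProduct.smul_tmul, Algebra.algebraMap_eq_smul_one]
    rw [this]
    exact key b _ ha
  | add x y hx hy =>
    obtain ⟨b₁, h₁⟩ := hx
    obtain ⟨b₂, h₂⟩ := hy
    refine ⟨b₁ + b₂, ?_⟩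
    have : x + y - (b₁ + b₂) ⊗ₜ[A] (1 : S) = (x - b₁ ⊗ₜ[A] (1 : S)) + (y - b₂ ⊗ₜ[A] (1 : S)) := by
      rw [TensorProduct.add_tmul]; ring
    rw [this]
    exact Ideal.add_mem _ h₁ h₂

variable [Algebra.IsIntegral A A']

omit [IsLocalRing A] [IsLocalHom (algebraMap A S)] in
/-- maximal ideals of `A' ⊗[A] S` contract to the maximal ideal of `S` -/
theorem comap_includeRight_eq (M : Ideal (A' ⊗[A] S)) [M.IsMaximal] :
    M.comap (Algebra.TensorProduct.includeRight : S →ₐ[A] A' ⊗[A] S).toRingHom =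
      maximalIdeal S := by
  have h1 : (M.comap (Algebra.TensorProduct.includeRight :
      S →ₐ[A] A' ⊗[A] S).toRingHom).IsMaximal :=
    Ideal.isMaximal_comap_of_isIntegral_of_isMaximal' _ (isIntegral_includeRight A S A') M
  exact IsLocalRing.eq_maximalIdeal h1

/-- maximal ideals of `A' ⊗[A] S` contain `𝔪_A` -/
theorem map_maximalIdeal_le (M : Ideal (A' ⊗[A] S)) [M.IsMaximal] :
    (maximalIdeal A).map (algebraMap A (A' ⊗[A] S)) ≤ M := by
  rw [Ideal.map_le_iff_le_comap]
  intro a ha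
  rw [Ideal.mem_comap]
  have h1 : algebraMap A S a ∈ maximalIdeal S := by
    rw [← IsLocalRing.maximalIdeal_comap (algebraMap A S)] at ha
    exact ha
  rw [← comap_includeRight_eq A S A' M, Ideal.mem_comap] at h1
  have h2 : (Algebra.TensorProduct.includeRight : S →ₐ[A] A' ⊗[A] S).toRingHom
      (algebraMap A S a) = algebraMap A (A' ⊗[A] S) a := by
    change (Algebra.TensorProduct.includeRight : S →ₐ[A] A' ⊗[A] S) (algebraMap A S a) = _
    rw [AlgHom.commutes]
  rw [h2] at h1
  exact h1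

/-- maximal ideals of `A' ⊗[A] S` contract to maximal ideals of `A'` -/
theorem isMaximal_comap_includeLeft (M : Ideal (A' ⊗[A] S)) [M.IsMaximal] :
    (M.comap (Algebra.TensorProduct.includeLeft : A' →ₐ[A] A' ⊗[A] S).toRingHom).IsMaximal := by
  haveI : (M.comap (Algebra.TensorProduct.includeLeft :
      A' →ₐ[A] A' ⊗[A] S).toRingHom).IsPrime := Ideal.comap_isPrime _ M
  apply Ideal.isMaximal_of_isIntegral_of_isMaximal_comap (R := A)
  have : (M.comap (Algebra.TensorProduct.includeLeft :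
      A' →ₐ[A] A' ⊗[A] S).toRingHom).comap (algebraMap A A') = maximalIdeal A := by
    have hprime : ((M.comap (Algebra.TensorProduct.includeLeft :
      A' →ₐ[A] A' ⊗[A] S).toRingHom).comap (algebraMap A A')).IsPrime := Ideal.comap_isPrime _ _
    refine ((IsLocalRing.maximalIdeal.isMaximal A).eq_of_le hprime.ne_top ?_).symm
    intro a ha
    rw [Ideal.mem_comap, Ideal.mem_comap]
    have h1 := map_maximalIdeal_le A S A' M (Ideal.mem_map_of_mem _ ha)
    have h2 : (Algebra.TensorProduct.includeLeft : A' →ₐ[A] A' ⊗[A] S).toRingHom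
      (algebraMap A A' a) = algebraMap A (A' ⊗[A] S) a := by
      change (Algebra.TensorProduct.includeLeft : A' →ₐ[A] A' ⊗[A] S) (algebraMap A A' a) = _
      rw [AlgHom.commutes]
    rw [h2]
    exact h1
  rw [this]
  exact IsLocalRing.maximalIdeal.isMaximal A

include hres in
/-- a maximal ideal of `A' ⊗[A] S` is determined by its contraction to `A'` -/
theorem eq_of_comap_eq (M₁ M₂ : Ideal (A' ⊗[A] S)) [M₁.IsMaximal] [M₂.IsMaximal]
    (h : M₁.comap (Algebra.TensorProduct.includeLeft : A' →ₐ[A] A' ⊗[A] S).toRingHom =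
      M₂.comap (Algebra.TensorProduct.includeLeft : A' →ₐ[A] A' ⊗[A] S).toRingHom) :
    M₁ = M₂ := by
  refine Ideal.IsMaximal.eq_of_le ‹M₁.IsMaximal› (Ideal.IsMaximal.ne_top ‹M₂.IsMaximal›) ?_
  intro t ht
  obtain ⟨b, hb⟩ := exists_sub_mem A S A' hres t
  have h1 : b ⊗ₜ[A] (1 : S) ∈ M₁ := by
    have := M₁.sub_mem ht (map_maximalIdeal_le A S A' M₁ hb)
    simpa using this
  have h2 : b ∈ M₁.comap (Algebra.TensorProduct.includeLeft :
      A' →ₐ[A] A' ⊗[A] S).toRingHom := h1
  rw [h] at h2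
  have h3 : b ⊗ₜ[A] (1 : S) ∈ M₂ := h2
  have := M₂.add_mem (map_maximalIdeal_le A S A' M₂ hb) h3
  simpa using this

omit [IsLocalRing A] [IsLocalRing S] [IsLocalHom (algebraMap A S)] [Algebra.IsIntegral A A'] in
/-- every maximal ideal of `A'` is the contraction of a maximal ideal of `A' ⊗[A] S` when
`S` is faithfully flat over `A` -/
theorem exists_comap_eq [Module.FaithfullyFlat A S] (m' : Ideal A') [m'.IsMaximal] :
    ∃ M : Ideal (A' ⊗[A] S), M.IsMaximal ∧
      M.comap (Algebra.TensorProduct.includeLeft : A' →ₐ[A] A' ⊗[A] S).toRingHom = m' := by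
  have h1 : (m'.map (algebraMap A' (A' ⊗[A] S))).comap (algebraMap A' (A' ⊗[A] S)) = m' :=
    Ideal.comap_map_eq_self_of_faithfullyFlat m'
  have hne : m'.map (algebraMap A' (A' ⊗[A] S)) ≠ ⊤ := by
    intro htop
    rw [htop, Ideal.comap_top] at h1
    exact Ideal.IsMaximal.ne_top ‹m'.IsMaximal› h1.symm
  obtain ⟨M, hM, hle⟩ := Ideal.exists_le_maximal _ hne
  refine ⟨M, hM, ?_⟩
  have hprime : (M.comap (Algebra.TensorProduct.includeLeft :
      A' →ₐ[A] A' ⊗[A] S).toRingHom).IsPrime := Ideal.comap_isPrime _ M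
  refine (Ideal.IsMaximal.eq_of_le ‹m'.IsMaximal› hprime.ne_top ?_).symm
  intro b hb
  exact hle (Ideal.mem_map_of_mem _ hb)

include hres in
/-- **Maximal ideals of `A' ⊗[A] S` correspond to maximal ideals of `A'`.** -/
theorem card_maximalSpectrum_eq [Module.FaithfullyFlat A S] :
    ENat.card (MaximalSpectrum (A' ⊗[A] S)) = ENat.card (MaximalSpectrum A') := by
  let f : MaximalSpectrum (A' ⊗[A] S) → MaximalSpectrum A' := fun M =>
    haveI : M.asIdeal.IsMaximal := M.isMaximal
    ⟨M.asIdeal.comap (Algebra.TensorProduct.includeLeft : A' →ₐ[A] A' ⊗[A] S).toRingHom,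
      isMaximal_comap_includeLeft A S A' M.asIdeal⟩
  have hinj : Function.Injective f := by
    intro M₁ M₂ h
    haveI : M₁.asIdeal.IsMaximal := M₁.isMaximal
    haveI : M₂.asIdeal.IsMaximal := M₂.isMaximal
    apply MaximalSpectrum.ext
    exact eq_of_comap_eq A S A' hres _ _ (congrArg MaximalSpectrum.asIdeal h)
  have hsurj : Function.Surjective f := by
    intro m'
    haveI : m'.asIdeal.IsMaximal := m'.isMaximal
    obtain ⟨M, hM, hMm⟩ := exists_comap_eq A S A' m'.asIdeal
    exact ⟨⟨M, hM⟩, MaximalSpectrum.ext hMm⟩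
  exact ENat.card_congr (Equiv.ofBijective f ⟨hinj, hsurj⟩)

end Groth.Agent.H14.HensProp.TensorMax
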