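import Mathlib
import Groth.Prelude.Def_Brnch
import Groth.Prelude.Def_Hensel
import Groth.Agent.H14.HensProp.NormHensMin
import Groth.Agent.H14.HensProp.IntHensMax
import Groth.Agent.H14.HensProp.TensorMax
import Groth.Agent.H14.HensProp.LocUnionDomain
import Groth.Agent.H14.HensProp.StrictUni1
import Groth.Agent.H38.BranchSum2
import Groth.Agent.H38.TotalFrac3
import Groth.Agent.H3.Henselization

/-!
# The number of minimal primes of the henselization is the number of branches
-/

set_option autoImplicit false
set_option linter.style.haveILetI false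
universe u

namespace Groth.Agent.H14.HensProp.BranchCount

open IsLocalRing TensorProduct Groth.Agent.H3.UnionEtale

variable (A S : Type u) [CommRing A] [IsLocalRing A] [CommRing S] [IsLocalRing S] [Algebra A S]
  [IsLocalHom (algebraMap A S)]

omit [IsLocalRing A] [IsLocalRing S] [IsLocalHom (algebraMap A S)] in
/-- every minimal prime of `A` is the contraction of a minimal prime of a faithfully flat
`A`-algebra -/
theorem exists_minimalPrimes_comap_eq [Module.FaithfullyFlat A S] (p : Ideal A)
    (hp : p ∈ minimalPrimes A) : ∃ q ∈ minimalPrimes S, q.comap (algebraMap A S) = p := by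
  haveI : p.IsPrime := hp.1.1
  obtain ⟨Q, hQ, hQp⟩ := Ideal.exists_isPrime_liesOver_of_faithfullyFlat (B := S) p
  obtain ⟨q, hq, hqQ⟩ := Ideal.exists_minimalPrimes_le (bot_le : (⊥ : Ideal S) ≤ Q)
  refine ⟨q, hq, ?_⟩
  haveI : q.IsPrime := hq.1.1
  have h1 : q.comap (algebraMap A S) ≤ p := by
    rw [hQp.over]
    exact Ideal.comap_mono hqQ
  exact le_antisymm h1 (hp.2 ⟨Ideal.comap_isPrime _ q, bot_le⟩ h1)

omit [IsLocalRing A] [IsLocalRing S] [IsLocalHom (algebraMap A S)] in
/-- a faithfully flat algebra over a ring with infinitely many minimal primes has infinitely many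
minimal primes -/
theorem infinite_minimalPrimes [Module.FaithfullyFlat A S] (h : ¬ (minimalPrimes A).Finite) :
    ¬ (minimalPrimes S).Finite := by
  intro hS
  apply h
  refine (hS.image (Ideal.comap (algebraMap A S))).subset ?_
  intro p hp
  obtain ⟨q, hq, hqp⟩ := exists_minimalPrimes_comap_eq A S p hp
  exact ⟨q, hq, hqp⟩

/-- the henselization has the same residue field -/
theorem exists_sub_mem [Hensel.IsHenselization A S] (s : S) :
    ∃ a : A, s - algebraMap A S a ∈ (maximalIdeal A).map (algebraMap A S) := by
  haveI : HenselianLocalRing (A ⧸ maximalIdeal A) :=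
    @Field.henselian (A ⧸ maximalIdeal A) (Ideal.Quotient.field _)
  have hb := Groth.Agent.H3.bijective_quotientMap_of_isHenselization A S (maximalIdeal A)
  obtain ⟨x, hx⟩ := hb.2 (Ideal.Quotient.mk _ s)
  obtain ⟨a, rfl⟩ := Ideal.Quotient.mk_surjective x
  refine ⟨a, ?_⟩
  rw [Ideal.quotientMap_mk] at hx
  rw [← Ideal.Quotient.eq]
  exact hx.symm

/-- **S9237.** The henselization of `A` has `numBranches A` minimal primes. -/
theorem card_minimalPrimes_henselization [Hensel.IsHenselization A S] :
    ENat.card (minimalPrimes S) = Brnch.numBranches A := by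
  have hH : Hensel.IsHenselization A S := inferInstance
  obtain ⟨hU, hff⟩ := Groth.Agent.H3.HensUnion.package (Or.inl hH)
  haveI : Module.Flat A S := hff.toFlat
  unfold Brnch.numBranches
  by_cases hfin : (minimalPrimes A).Finite
  · rw [if_pos hfin]
    -- step 1: S2125
    have hbij := NormHensMin.bijOn_minimalPrimes_henselization (A := A) (Ah := S)
    have e1 : ENat.card (minimalPrimes (CAlg2.normRed A ⊗[A] S)) = ENat.card (minimalPrimes S) :=
      ENat.card_congr hbij.equiv
    -- step 2
    letI : Algebra S (CAlg2.normRed A ⊗[A] S) := Algebra.TensorProduct.rightAlgebra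
    haveI : Algebra.IsIntegral S (CAlg2.normRed A ⊗[A] S) :=
      ⟨TensorMax.isIntegral_includeRight A S (CAlg2.normRed A)⟩
    haveI hSh : HenselianLocalRing S := hH.henselian
    have hredR : IsReduced (CAlg2.red A) :=
      (Ideal.isRadical_iff_quotient_reduced _).mp (Ideal.radical_isRadical _)
    haveI hfinR : Finite (Groth.Agent.H38.MinPrime (CAlg2.red A)) :=
      Groth.Agent.H38.finite_minPrime_red A hfin
    have hnorm : ∀ (p : Ideal (CAlg2.normRed A)) [p.IsPrime],
        IsDomain (Localization.AtPrime p) ∧ IsIntegrallyClosed (Localization.AtPrime p) := by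
      intro p hp
      exact Groth.Agent.H38.localization_integralClosure (A := CAlg2.red A) ⟨p, hp⟩
    have hUT : IsUnion (CAlg2.normRed A) (CAlg2.normRed A ⊗[A] S) :=
      StrictUni.isUnion_baseChange A S (CAlg2.normRed A) hU
    have e2 := IntHensMax.card_minimalPrimes_eq S (CAlg2.normRed A ⊗[A] S)
      (fun M _ => LocUnionDomain.isDomain_localization (CAlg2.normRed A)
        (CAlg2.normRed A ⊗[A] S) hUT hnorm M)
    have e3 := TensorMax.card_maximalSpectrum_eq A S (CAlg2.normRed A) (exists_sub_mem A S)
    rw [← e1, e2, e3]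
  · rw [if_neg hfin, ENat.card_eq_top]
    exact Set.infinite_coe_iff.mpr (infinite_minimalPrimes A S hfin)

end Groth.Agent.H14.HensProp.BranchCount
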