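import Mathlib
import Groth.Prelude.Def_Brnch
import Groth.Prelude.Def_Hensel
import Groth.Agent.H78.HensCompl.Basic
import Groth.Agent.H20.ComplNoeth2
import Groth.Agent.H14.HensProp.BranchCount
import Groth.Agent.H3.HensQFFinite
import Groth.Agent.H3.Henselization
import Groth.Agent.H3.HensNoeth

/-!
# Branches of a Noetherian local ring and of its completion
-/

set_option autoImplicit false
set_option linter.style.haveILetI false
universe u

namespace Groth.Agent.H14.HensProp.HensComplBranch

open IsLocalRing

section General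

variable {S T : Type u} [CommRing S] [CommRing T] [Algebra S T] [Module.Flat S T]

/-- a minimal prime over the extension of a minimal prime `q` along a flat map is a minimal prime
lying over `q` -/
theorem mem_minimalPrimes_of_mem_minimalPrimes_map {q : Ideal S} (hq : q ∈ minimalPrimes S)
    {P : Ideal T} (hP : P ∈ (q.map (algebraMap S T)).minimalPrimes) :
    P ∈ minimalPrimes T ∧ P.comap (algebraMap S T) = q := by
  haveI hPp : P.IsPrime := hP.1.1
  haveI hqp : q.IsPrime := hq.1.1
  have hqP : q ≤ P.comap (algebraMap S T) := Ideal.map_le_iff_le_comap.mp hP.1.2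
  -- going down
  have hcomap : P.comap (algebraMap S T) = q := by
    haveI : P.LiesOver (P.comap (algebraMap S T)) := ⟨rfl⟩
    haveI : (P.comap (algebraMap S T)).IsPrime := Ideal.comap_isPrime _ P
    obtain ⟨P', hP'le, hP'prime, hP'over⟩ :=
      Ideal.exists_ideal_le_liesOver_of_le (p := q) (q := P.comap (algebraMap S T)) P hqP
    have h1 : q.map (algebraMap S T) ≤ P' := by
      rw [Ideal.map_le_iff_le_comap, ← Ideal.under_def, ← hP'over.over]
    have h2 : P ≤ P' := hP.2 ⟨hP'prime, h1⟩ hP'le
    have h3 : P' = P := le_antisymm hP'le h2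
    rw [← h3, ← Ideal.under_def, ← hP'over.over]
  refine ⟨⟨⟨hPp, bot_le⟩, ?_⟩, hcomap⟩
  rintro P₀ ⟨hP₀, -⟩ hle
  haveI := hP₀
  have h1 : P₀.comap (algebraMap S T) ≤ q := hcomap ▸ Ideal.comap_mono hle
  have h2 : q ≤ P₀.comap (algebraMap S T) := hq.2 ⟨Ideal.comap_isPrime _ P₀, bot_le⟩ h1
  have h3 : q.map (algebraMap S T) ≤ P₀ := Ideal.map_le_iff_le_comap.mpr h2
  exact hP.2 ⟨hP₀, h3⟩ hle

/-- for a flat map such that contraction maps minimal primes onto minimal primes: contraction is
injective on minimal primes iff the radical of the extension of every minimal prime is prime -/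
theorem injOn_comap_iff
    (hsurj : Set.SurjOn (Ideal.comap (algebraMap S T)) (minimalPrimes T) (minimalPrimes S))
    (hmaps : Set.MapsTo (Ideal.comap (algebraMap S T)) (minimalPrimes T) (minimalPrimes S)) :
    Set.InjOn (Ideal.comap (algebraMap S T)) (minimalPrimes T) ↔
      ∀ q ∈ minimalPrimes S, (q.map (algebraMap S T)).radical.IsPrime := by
  constructor
  · intro hinj q hq
    obtain ⟨P₁, hP₁, hP₁q⟩ := hsurj hq
    haveI : P₁.IsPrime := hP₁.1.1
    have hle : q.map (algebraMap S T) ≤ P₁ := by
      rw [Ideal.map_le_iff_le_comap]; exact hP₁q.symm.le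
    have : (q.map (algebraMap S T)).radical = P₁ := by
      apply le_antisymm
      · exact (Ideal.IsPrime.radical_le_iff ‹P₁.IsPrime›).mpr hle
      · rw [← Ideal.sInf_minimalPrimes]
        refine le_sInf ?_
        intro P hP
        obtain ⟨hPmin, hPq⟩ := mem_minimalPrimes_of_mem_minimalPrimes_map hq hP
        have : P = P₁ := hinj hPmin hP₁ (hPq.trans hP₁q.symm)
        rw [this]
    rw [this]
    infer_instance
  · intro H P₁ hP₁ P₂ hP₂ heq
    have hq := hmaps hP₁
    have hrad := H _ hq
    haveI : P₁.IsPrime := hP₁.1.1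
    haveI : P₂.IsPrime := hP₂.1.1
    have h1 : (Ideal.map (algebraMap S T) (Ideal.comap (algebraMap S T) P₁)).radical ≤ P₁ :=
      (Ideal.IsPrime.radical_le_iff ‹P₁.IsPrime›).mpr Ideal.map_comap_le
    have h2 : (Ideal.map (algebraMap S T) (Ideal.comap (algebraMap S T) P₁)).radical ≤ P₂ := by
      refine (Ideal.IsPrime.radical_le_iff ‹P₂.IsPrime›).mpr ?_
      have heq' : Ideal.comap (algebraMap S T) P₁ = Ideal.comap (algebraMap S T) P₂ := heq
      rw [heq']
      exact Ideal.map_comap_le
    have e1 := hP₁.2 ⟨hrad, bot_le⟩ h1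
    have e2 := hP₂.2 ⟨hrad, bot_le⟩ h2
    exact le_antisymm (e1.trans h2) (e2.trans h1)

end General

variable (A S : Type u) [CommRing A] [IsLocalRing A] [IsNoetherianRing A] [CommRing S]
  [IsLocalRing S] [Algebra A S] [IsLocalHom (algebraMap A S)]

/-- the completion of a Noetherian local ring is a henselian local ring -/
theorem henselianLocalRing_compl : HenselianLocalRing (AdicCompletion (maximalIdeal A) A) :=
  Groth.Agent.H3.henselianLocalRing_of_henselianRing _ inferInstance

/-- the number of branches of the completion is its number of minimal primes -/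
theorem numBranches_compl :
    Brnch.numBranches (AdicCompletion (maximalIdeal A) A) =
      ENat.card (minimalPrimes (AdicCompletion (maximalIdeal A) A)) := by
  haveI := henselianLocalRing_compl A
  haveI := Groth.Agent.H3.HensQFFinite.isHenselization_self (AdicCompletion (maximalIdeal A) A)
  exact (BranchCount.card_minimalPrimes_henselization (AdicCompletion (maximalIdeal A) A)
    (AdicCompletion (maximalIdeal A) A)).symm

/-- **S9243.** -/
theorem numBranches_eq_iff [Hensel.IsHenselization A S]
    (ψ : S →+* AdicCompletion (maximalIdeal A) A)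
    (hψ : ψ.comp (algebraMap A S) = algebraMap A (AdicCompletion (maximalIdeal A) A)) :
    Brnch.numBranches A = Brnch.numBranches (AdicCompletion (maximalIdeal A) A) ↔
      ∀ q ∈ minimalPrimes S, (Ideal.map ψ q).radical.IsPrime := by
  have hH : Hensel.IsHenselization A S := inferInstance
  obtain ⟨hflat, hloc⟩ := Groth.Agent.H78.HensCompl.flat_and_isLocalHom A S ψ hψ
  obtain ⟨hmaps, hsurj⟩ := Groth.Agent.H78.HensCompl.main A S ψ hψ
  letI : Algebra S (AdicCompletion (maximalIdeal A) A) := ψ.toAlgebra
  haveI : Module.Flat S (AdicCompletion (maximalIdeal A) A) := hflat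
  have hiff := injOn_comap_iff (S := S) (T := AdicCompletion (maximalIdeal A) A) hsurj hmaps
  have hfinT : (minimalPrimes (AdicCompletion (maximalIdeal A) A)).Finite :=
    minimalPrimes.finite_of_isNoetherianRing _
  rw [numBranches_compl, ← BranchCount.card_minimalPrimes_henselization A S]
  change _ ↔ ∀ q ∈ minimalPrimes S,
    (Ideal.map (algebraMap S (AdicCompletion (maximalIdeal A) A)) q).radical.IsPrime
  rw [← hiff]
  -- the surjection between the finite sets of minimal primes
  let f : minimalPrimes (AdicCompletion (maximalIdeal A) A) → minimalPrimes S := fun P =>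
    ⟨P.1.comap (algebraMap S (AdicCompletion (maximalIdeal A) A)), hmaps P.2⟩
  have hf : Function.Surjective f := by
    rintro ⟨q, hq⟩
    obtain ⟨P, hP, hPq⟩ := hsurj hq
    exact ⟨⟨P, hP⟩, Subtype.ext hPq⟩
  haveI : Finite (minimalPrimes (AdicCompletion (maximalIdeal A) A)) := hfinT.to_subtype
  haveI : Finite (minimalPrimes S) := Finite.of_surjective f hf
  have hinj_iff : Function.Injective f ↔
      Set.InjOn (Ideal.comap (algebraMap S (AdicCompletion (maximalIdeal A) A)))
        (minimalPrimes (AdicCompletion (maximalIdeal A) A)) := by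
    constructor
    · intro h P₁ hP₁ P₂ hP₂ heq
      have := @h ⟨P₁, hP₁⟩ ⟨P₂, hP₂⟩ (Subtype.ext heq)
      exact congrArg Subtype.val this
    · intro h P₁ P₂ heq
      exact Subtype.ext (h P₁.2 P₂.2 (congrArg Subtype.val heq))
  rw [← hinj_iff]
  constructor
  · intro hcard
    have hle : Nat.card (minimalPrimes (AdicCompletion (maximalIdeal A) A)) ≤
        Nat.card (minimalPrimes S) := by
      have h1 := congrArg ENat.toNat hcard
      rw [ENat.card_eq_coe_natCard, ENat.card_eq_coe_natCard] at h1
      simp only [ENat.toNat_natCast] at h1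
      exact h1.symm.le
    exact (hf.bijective_of_nat_card_le hle).1
  · intro hinj
    exact (ENat.card_congr (Equiv.ofBijective f ⟨hinj, hf⟩)).symm

end Groth.Agent.H14.HensProp.HensComplBranch
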