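import Groth.Agent.H14.GeomBC.SmoothReduced
import Groth.Agent.H3.EtNbhdImage
import Groth.Agent.H3.HensIso
import Groth.Agent.H3.HensFlatMain
import Groth.Prelude.Def_Hensel

set_option autoImplicit false
set_option linter.style.haveILetI false
set_option linter.unusedSectionVars false
universe u

open scoped TensorProduct

namespace Groth.Agent.H14.HensProp

open Groth.Agent.H3 Groth.Agent.H14.GeomBC

/-- The henselization of a pair `(A, I)` with `A` reduced is reduced. -/
theorem isReduced_of_isPairHenselization {A : Type u} [CommRing A] {I : Ideal A} {B : Type u}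
    [CommRing B] [Algebra A B] (hB : Hens2.IsPairHenselization A I B) [IsReduced A] :
    IsReduced B := by
  refine ⟨fun x hx => ?_⟩
  obtain ⟨n, hn⟩ := hx
  obtain ⟨A', _, _, hN, φ, hφ⟩ := EtNbhd.imageAlg_eq_top hB x
  obtain ⟨a, rfl⟩ := hφ rfl
  have h0 : φ (a ^ n) = 0 := by rw [map_pow, hn]
  obtain ⟨k, hk1, hk⟩ := EtNbhd.exists_mul_eq_zero hB hN φ (a ^ n) h0
  have hNk := hN.away k hk1
  haveI := hNk.etale
  haveI : Algebra.Smooth A (Localization.Away k) := inferInstance
  haveI : IsReduced (Localization.Away k) := isReduced_of_smooth A _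
  have h1 : algebraMap A' (Localization.Away k) a = 0 := by
    apply IsReduced.eq_zero
    refine ⟨n, ?_⟩
    rw [← map_pow]
    have hu : IsUnit (algebraMap A' (Localization.Away k) k) :=
      IsLocalization.Away.algebraMap_isUnit k
    have h2 : algebraMap A' (Localization.Away k) k * algebraMap A' (Localization.Away k) (a ^ n)
        = 0 := by
      rw [← map_mul, hk, map_zero]
    exact (hu.mul_right_eq_zero).mp h2
  obtain ⟨⟨_, m, rfl⟩, hm⟩ := (IsLocalization.map_eq_zero_iff (Submonoid.powers k) _ _).mp h1
  have hunit : IsUnit (φ k) := by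
    have hmem : φ (k - 1) ∈ I.map (algebraMap A B) := EtNbhd.algHom_mem_of_mem φ hk1
    have hjac := hB.1.jac hmem
    rw [Ideal.mem_jacobson_bot] at hjac
    have := hjac 1
    rwa [mul_one, map_sub, map_one, sub_add_cancel] at this
  have h3 : φ k ^ m * φ a = 0 := by
    rw [← map_pow, ← map_mul]
    simpa using congrArg φ hm
  exact ((hunit.pow m).mul_right_eq_zero).mp h3

/-- S0514. -/
theorem isReduced_iff_of_isHenselization (R : Type u) [CommRing R] [IsLocalRing R] (S : Type u)
    [CommRing S] [IsLocalRing S] [Algebra R S] [IsLocalHom (algebraMap R S)]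
    [Hensel.IsHenselization R S] : IsReduced R ↔ IsReduced S := by
  have hS := Groth.Agent.H3.HensIso.isPairHenselization_of_isHenselization
    (inferInstance : Hensel.IsHenselization R S)
  constructor
  · intro h
    exact isReduced_of_isPairHenselization hS
  · intro h
    haveI hflat : Module.Flat R S := Groth.Agent.H3.HensFlatMain.flat hS
    haveI : Module.FaithfullyFlat R S := Module.FaithfullyFlat.of_flat_of_isLocalHom
    exact isReduced_of_injective (algebraMap R S) (FaithfulSMul.algebraMap_injective R S)

end Groth.Agent.H14.HensProp
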