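import Mathlib
import Groth.Prelude.Def_CAlg
import Groth.Prelude.Def_Hensel
import Groth.Agent.H14.HensProp.Small
import Groth.Agent.H14.D15.DepthLoc

set_option autoImplicit false
set_option linter.style.haveILetI false
universe u

namespace Groth.Agent.H14.HensProp

open IsLocalRing

/-- In a Noetherian local ring of depth zero the maximal ideal is an associated prime. -/
theorem maximalIdeal_mem_associatedPrimes_of_depth_eq_zero (B : Type u) [CommRing B]
    [IsLocalRing B] [IsNoetherianRing B]
    (h : LocCoh.idealDepth (maximalIdeal B) B = 0) : maximalIdeal B ∈ associatedPrimes B B := by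
  have h1 : ∀ x ∈ maximalIdeal B, ¬ IsSMulRegular B x := by
    intro x hx hreg
    have h2 := Groth.Agent.H14.D15.le_idealDepth (I := maximalIdeal B) (M := B) (rs := [x])
      ((RingTheory.Sequence.isWeaklyRegular_cons_iff B x []).mpr
        ⟨hreg, RingTheory.Sequence.IsWeaklyRegular.nil _ _⟩)
      (by intro r hr; rw [List.mem_singleton.mp hr]; exact hx)
    rw [h] at h2
    simp at h2
  obtain ⟨b, hb0, hb⟩ :=
    Groth.Agent.H14.D15.exists_ne_zero_smul_eq_zero_of_forall_not_isSMulRegular (maximalIdeal B) B h1
  refine ⟨inferInstance, b, ?_⟩
  have hne : (⊥ : Submodule B B).colon {b} ≠ ⊤ := by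
    intro htop
    have : (1 : B) ∈ (⊥ : Submodule B B).colon {b} := by rw [htop]; trivial
    rw [Submodule.mem_colon_singleton] at this
    simp at this
    exact hb0 this
  have hle : maximalIdeal B ≤ (⊥ : Submodule B B).colon {b} := by
    intro a ha
    rw [Submodule.mem_colon_singleton, Submodule.mem_bot]
    exact hb a ha
  have := (maximalIdeal.isMaximal B).eq_of_le hne hle
  rw [← this, Ideal.radical_eq_iff.mpr (maximalIdeal.isMaximal B).isPrime.isRadical]


/-- A prime of a Noetherian ring is associated iff the localization there has depth zero. -/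
theorem mem_associatedPrimes_iff_depth_eq_zero (A : Type u) [CommRing A] [IsNoetherianRing A]
    (p : Ideal A) [p.IsPrime] :
    p ∈ associatedPrimes A A ↔
      LocCoh.idealDepth (maximalIdeal (Localization.AtPrime p)) (Localization.AtPrime p) = 0 := by
  constructor
  · intro hp
    have h1 := Groth.Agent.H14.D15.depth_localization_eq_zero_of_mem_associatedPrimes A p hp
    rw [Groth.Agent.H14.depth_localizedModule_self] at h1
    exact nonpos_iff_eq_zero.mp h1
  · intro h
    have h1 := maximalIdeal_mem_associatedPrimes_of_depth_eq_zero (Localization.AtPrime p) h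
    have h2 := Module.associatedPrimes.comap_mem_associatedPrimes_of_mem_associatedPrimes_of_isLocalizedModule_of_fg
      p.primeCompl (Algebra.linearMap A (Localization.AtPrime p))
      (maximalIdeal (Localization.AtPrime p)) h1 (IsNoetherian.noetherian _)
    have h3 : (maximalIdeal (Localization.AtPrime p)).comap (algebraMap A (Localization.AtPrime p)) = p :=
      Localization.AtPrime.under_maximalIdeal (I := p)
    rwa [h3] at h2

/-- Associated primes along a flat map of Noetherian rings whose primes are locally generated by
their contractions. -/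
theorem mem_associatedPrimes_iff_of_map_comap (A B : Type u) [CommRing A] [CommRing B]
    [Algebra A B] [IsNoetherianRing A] [IsNoetherianRing B] [Module.Flat A B]
    (P : Ideal B) [P.IsPrime]
    (h : (P.comap (algebraMap A B)).map (algebraMap A (Localization.AtPrime P)) =
      maximalIdeal (Localization.AtPrime P)) :
    P ∈ associatedPrimes B B ↔ P.comap (algebraMap A B) ∈ associatedPrimes A A := by
  rw [mem_associatedPrimes_iff_depth_eq_zero, mem_associatedPrimes_iff_depth_eq_zero,
    (localization_package A B P h).2.1]

section Hens

variable (R S : Type u) [CommRing R] [IsLocalRing R] [IsNoetherianRing R]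
    [CommRing S] [IsLocalRing S] [Algebra R S] [IsLocalHom (algebraMap R S)]

theorem mem_associatedPrimes_iff_of_isHenselization [Hensel.IsHenselization R S]
    (P : Ideal S) [P.IsPrime] :
    P ∈ associatedPrimes S S ↔ P.comap (algebraMap R S) ∈ associatedPrimes R R := by
  obtain ⟨h1, h2, h3⟩ := hens_basic R S
  have hP := Groth.Agent.H3.HensIso.isPairHenselization_of_isHenselization
      (inferInstance : Hensel.IsHenselization R S)
  exact mem_associatedPrimes_iff_of_map_comap R S P (map_comap_eq_maximalIdeal hP P)

theorem mem_associatedPrimes_iff_of_isStrictHenselization [Hensel.IsStrictHenselization R S]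
    (P : Ideal S) [P.IsPrime] :
    P ∈ associatedPrimes S S ↔ P.comap (algebraMap R S) ∈ associatedPrimes R R := by
  obtain ⟨h1, h2, h3⟩ := strict_basic R S
  exact mem_associatedPrimes_iff_of_map_comap R S P
    (map_comap_eq_maximalIdeal_of_inEtImage (inEtImage_of_isStrictHenselization R S) P)

end Hens

end Groth.Agent.H14.HensProp
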