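import Mathlib
import Groth.Prelude.Def_CAlg2
import Groth.Prelude.Def_Hens2
import Groth.Agent.H14.HensProp.EtNbhdMain
import Groth.Agent.H14.HenselEssEt
import Groth.Agent.H3.HensLocal
import Groth.Agent.H3.HensUnion
import Groth.Agent.H14.HensProp.UniqueMin

set_option autoImplicit false
set_option linter.style.haveILetI false
universe u

namespace Groth.Agent.H14.HensProp.ElemNbhd

open AlgebraicGeometry CategoryTheory IsLocalRing TopologicalSpace TensorProduct Opposite
open Groth.Agent.H3.UnionEtale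

/-- A ring with an injective map to a ring with prime nilradical has prime nilradical. -/
theorem isPrime_nilradical_of_injective {S T : Type*} [CommRing S] [CommRing T] (ψ : S →+* T)
    (hψ : Function.Injective ψ) (hT : (nilradical T).IsPrime) : (nilradical S).IsPrime := by
  have : nilradical S = (nilradical T).comap ψ := by
    ext x
    rw [Ideal.mem_comap, mem_nilradical, mem_nilradical]
    constructor
    · exact fun h => h.map ψ
    · rintro ⟨n, hn⟩
      refine ⟨n, hψ ?_⟩
      rw [map_pow, hn, map_zero]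
  rw [this]
  exact Ideal.comap_isPrime ψ _

variable {X U : Scheme.{u}} (g : U ⟶ X)

/-- The local ring of an elementary étale neighbourhood embeds into the henselization. -/
theorem exists_injective_to_henselization [Etale g] (u : U)
    (hres : Function.Bijective (g.residueFieldMap u))
    (Ah : Type u) [CommRing Ah] [IsLocalRing Ah] [Algebra (X.presheaf.stalk (g u)) Ah]
    [IsLocalHom (algebraMap (X.presheaf.stalk (g u)) Ah)] (hH : HenselianLocalRing Ah)
    [Module.Flat (X.presheaf.stalk (g u)) Ah] :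
    ∃ ψ : U.presheaf.stalk u →+* Ah, Function.Injective ψ := by
  haveI := hH
  -- affine charts
  obtain ⟨_, ⟨V, hV, rfl⟩, hyV, -⟩ :=
    X.isBasis_affineOpens.exists_subset_of_mem_open (Set.mem_univ (g u)) isOpen_univ
  obtain ⟨_, ⟨W, hW, rfl⟩, hxW, hWV⟩ :=
    U.isBasis_affineOpens.exists_subset_of_mem_open hyV (V.2.preimage g.continuous)
  have hQ : (g.appLE V W hWV).hom.Etale :=
    HasRingHomProperty.appLE @Etale g inferInstance ⟨V, hV⟩ ⟨W, hW⟩ hWV
  letI algAS : Algebra (X.presheaf.stalk (g u)) (U.presheaf.stalk u) :=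
    (g.stalkMap u).hom.toAlgebra
  haveI hloc : IsLocalHom (algebraMap (X.presheaf.stalk (g u)) (U.presheaf.stalk u)) :=
    inferInstanceAs <| IsLocalHom (g.stalkMap u).hom
  letI algRC : Algebra Γ(X, V) Γ(U, W) := (g.appLE V W hWV).hom.toAlgebra
  haveI : Algebra.Etale Γ(X, V) Γ(U, W) := hQ
  letI algRA : Algebra Γ(X, V) (X.presheaf.stalk (g u)) :=
    (X.presheaf.germ V (g u) hyV).hom.toAlgebra
  letI algCS : Algebra Γ(U, W) (U.presheaf.stalk u) :=
    (U.presheaf.germ W u hxW).hom.toAlgebra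
  letI algRS : Algebra Γ(X, V) (U.presheaf.stalk u) :=
    ((g.stalkMap u).hom.comp (X.presheaf.germ V (g u) hyV).hom).toAlgebra
  haveI : IsScalarTower Γ(X, V) (X.presheaf.stalk (g u)) (U.presheaf.stalk u) :=
    IsScalarTower.of_algebraMap_eq' rfl
  have heq : X.presheaf.germ V (g u) hyV ≫ g.stalkMap u =
      g.appLE V W hWV ≫ U.presheaf.germ W u hxW := by
    refine (Scheme.Hom.germ_stalkMap g V u hyV).trans ?_
    rw [Scheme.Hom.appLE, Category.assoc, TopCat.Presheaf.germ_res]
  haveI : IsScalarTower Γ(X, V) Γ(U, W) (U.presheaf.stalk u) :=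
    IsScalarTower.of_algebraMap_eq' (by
      have := congrArg CommRingCat.Hom.hom heq
      exact this)
  haveI hlocS : IsLocalization.AtPrime (U.presheaf.stalk u)
      (hW.primeIdealOf ⟨u, hxW⟩).asIdeal := hW.isLocalization_stalk ⟨u, hxW⟩
  haveI hlocA : IsLocalization.AtPrime (X.presheaf.stalk (g u))
      (hV.primeIdealOf ⟨g u, hyV⟩).asIdeal := hV.isLocalization_stalk ⟨g u, hyV⟩
  letI algRB : Algebra Γ(X, V) Ah :=
    ((algebraMap (X.presheaf.stalk (g u)) Ah).comp
      (algebraMap Γ(X, V) (X.presheaf.stalk (g u)))).toAlgebra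
  haveI : IsScalarTower Γ(X, V) (X.presheaf.stalk (g u)) Ah := IsScalarTower.of_algebraMap_eq' rfl
  -- the residue field map
  have hres' : Function.Bijective (ResidueField.map
      (algebraMap (X.presheaf.stalk (g u)) (U.presheaf.stalk u))) := hres
  let E := RingEquiv.ofBijective _ hres'
  let α : ResidueField (U.presheaf.stalk u) →+* ResidueField Ah :=
    (ResidueField.map (algebraMap (X.presheaf.stalk (g u)) Ah)).comp E.symm.toRingHom
  have hα : ∀ r : Γ(X, V), α (residue _ (algebraMap Γ(X, V) (U.presheaf.stalk u) r)) =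
      residue Ah (algebraMap Γ(X, V) Ah r) := by
    intro r
    have h1 : residue _ (algebraMap Γ(X, V) (U.presheaf.stalk u) r) =
        E (residue _ (algebraMap Γ(X, V) (X.presheaf.stalk (g u)) r)) := by
      rw [IsScalarTower.algebraMap_apply Γ(X, V) (X.presheaf.stalk (g u)) (U.presheaf.stalk u)]
      rfl
    rw [h1]
    change ResidueField.map (algebraMap (X.presheaf.stalk (g u)) Ah) (E.symm (E _)) = _
    rw [RingEquiv.symm_apply_apply]
    rfl
  obtain ⟨ψ', hψ', -⟩ := Groth.Agent.H14.existsUnique_algHom_of_residue_of_atPrime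
    (A := Γ(X, V)) (C := Γ(U, W)) (L := U.presheaf.stalk u) (B := Ah)
    (hW.primeIdealOf ⟨u, hxW⟩).asIdeal α hα
  refine ⟨ψ'.toRingHom, ?_⟩
  -- flatness
  haveI : Module.Flat Γ(X, V) (X.presheaf.stalk (g u)) :=
    IsLocalization.flat _ (hV.primeIdealOf ⟨g u, hyV⟩).asIdeal.primeCompl
  haveI : Module.Flat Γ(X, V) Ah := Module.Flat.trans Γ(X, V) (X.presheaf.stalk (g u)) Ah
  letI algSB : Algebra (U.presheaf.stalk u) Ah := ψ'.toRingHom.toAlgebra
  letI algCB : Algebra Γ(U, W) Ah :=
    (ψ'.toRingHom.comp (algebraMap Γ(U, W) (U.presheaf.stalk u))).toAlgebra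
  haveI : IsScalarTower Γ(U, W) (U.presheaf.stalk u) Ah := IsScalarTower.of_algebraMap_eq' rfl
  haveI : IsScalarTower Γ(X, V) Γ(U, W) Ah := by
    refine IsScalarTower.of_algebraMap_eq fun r => ?_
    change algebraMap Γ(X, V) Ah r = ψ' (algebraMap Γ(U, W) (U.presheaf.stalk u)
      (algebraMap Γ(X, V) Γ(U, W) r))
    rw [← IsScalarTower.algebraMap_apply Γ(X, V) Γ(U, W) (U.presheaf.stalk u), ψ'.commutes]
  haveI : Module.Flat Γ(U, W) Ah := Groth.Agent.H3.FlatOfEtale.flat_of_etale Γ(X, V) Γ(U, W) Ah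
  haveI : Module.Flat (U.presheaf.stalk u) Ah :=
    (Module.flat_iff_of_isLocalization (U.presheaf.stalk u)
      (hW.primeIdealOf ⟨u, hxW⟩).asIdeal.primeCompl Ah).mpr inferInstance
  haveI : IsLocalHom (algebraMap (U.presheaf.stalk u) Ah) := by
    constructor
    intro y hy
    have h1 : residue Ah (ψ' y) ≠ 0 := (residue_ne_zero_iff_isUnit _).mpr hy
    rw [hψ'] at h1
    have h2 : residue _ y ≠ 0 := fun h => h1 (by rw [h, map_zero])
    exact (residue_ne_zero_iff_isUnit _).mp h2
  haveI : Module.FaithfullyFlat (U.presheaf.stalk u) Ah :=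
    Module.FaithfullyFlat.of_flat_of_isLocalHom
  exact FaithfulSMul.algebraMap_injective (U.presheaf.stalk u) Ah

/-- (→) of S9781. -/
theorem encard_eq_one_of_isUnibranch (x : X) (u : U) (hg : Hens2.IsEtaleNbhd g u x)
    (hA : CAlg2.IsUnibranch (X.presheaf.stalk x)) :
    {Z : Set U | Z ∈ irreducibleComponents U ∧ u ∈ Z}.encard = 1 := by
  obtain ⟨hEt, rfl, hres⟩ := hg
  haveI := hEt
  apply EtNbhdMain.encard_eq_one_of_isPrime_nilradical
  have hS := Groth.Agent.H3.HensLocal.isPairHenselization_Lim (X.presheaf.stalk (g u))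
  haveI := Groth.Agent.H3.HensLocal.isLocalRing hS
  haveI := Groth.Agent.H3.HensLocal.isLocalHom hS
  have hH := Groth.Agent.H3.HensLocal.isHenselization hS
  haveI := hH
  obtain ⟨hU, hff⟩ := Groth.Agent.H3.HensUnion.package (Or.inl hH)
  haveI : Module.Flat (X.presheaf.stalk (g u))
    (Groth.Agent.H3.HensTower.Lim (X.presheaf.stalk (g u))
      (maximalIdeal (X.presheaf.stalk (g u)))) := hff.toFlat
  have hprime : (nilradical (Groth.Agent.H3.HensTower.Lim (X.presheaf.stalk (g u))
      (maximalIdeal (X.presheaf.stalk (g u))))).IsPrime := by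
    rw [← UniqueMin.hasUniqueMinimalPrime_iff_isPrime_nilradical]
    exact (UniqueMin.isUnibranch_iff_hasUniqueMinimalPrime
      (A := X.presheaf.stalk (g u))).mp hA
  obtain ⟨ψ, hψ⟩ := exists_injective_to_henselization g u hres _ hH.henselian
  exact isPrime_nilradical_of_injective ψ hψ hprime

end Groth.Agent.H14.HensProp.ElemNbhd
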