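import Mathlib
import Groth.Prelude.Def_CAlg2
import Groth.Prelude.Def_Hens2
import Groth.Agent.H14.HensProp.ElemNbhd

set_option autoImplicit false
set_option linter.style.haveILetI false
universe u

namespace Groth.Agent.H14.HensProp.ElemNbhd

open AlgebraicGeometry CategoryTheory IsLocalRing TopologicalSpace TensorProduct Opposite
open Groth.Agent.H3.UnionEtale

/-- The residue field map of `Spec BV → Spec R → V ⊆ X` at a prime `Q₀` is surjective as soon as
every element of `BV` is congruent modulo `Q₀` to a fraction from `R`. -/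
theorem residueFieldMap_surjective {X : Scheme.{u}} {V : X.Opens} (hV : IsAffineOpen V)
    (BV : Type u) [CommRing BV] [Algebra Γ(X, V) BV] (Q₀ : Ideal BV) [Q₀.IsPrime]
    (hfrac : ∀ b : BV, ∃ s r : Γ(X, V), algebraMap Γ(X, V) BV s ∉ Q₀ ∧
      algebraMap Γ(X, V) BV s * b - algebraMap Γ(X, V) BV r ∈ Q₀) :
    Function.Surjective
      ((Spec.map (CommRingCat.ofHom (algebraMap Γ(X, V) BV)) ≫ hV.fromSpec).residueFieldMap
        (⟨Q₀, inferInstance⟩ : PrimeSpectrum BV)) := by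
  set U : Scheme.{u} := Spec (CommRingCat.of BV) with hUdef
  set g : U ⟶ X := Spec.map (CommRingCat.ofHom (algebraMap Γ(X, V) BV)) ≫ hV.fromSpec with hg
  set u : U := (⟨Q₀, inferInstance⟩ : PrimeSpectrum BV) with hu
  have hpre : g ⁻¹ᵁ V = ⊤ := by
    rw [hg, Scheme.Hom.comp_preimage, hV.fromSpec_preimage_self]
    rfl
  have e₀ : (⊤ : U.Opens) ≤ g ⁻¹ᵁ V := hpre.ge
  have hguV : g u ∈ V := e₀ (show u ∈ (⊤ : U.Opens) from trivial)
  -- (i) the map on sections
  have happ : g.appLE V ⊤ e₀ = CommRingCat.ofHom (algebraMap Γ(X, V) BV) ≫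
      (Scheme.ΓSpecIso (CommRingCat.of BV)).inv := by
    apply Spec.map_injective
    rw [← cancel_mono hV.fromSpec, IsAffineOpen.SpecMap_appLE_fromSpec g hV (isAffineOpen_top U) e₀,
      IsAffineOpen.fromSpec_top, Scheme.isoSpec_Spec_inv, Spec.map_comp, Category.assoc]
  -- evaluation at `u`
  let ε : BV →+* U.residueField u :=
    (U.Γevaluation u).hom.comp (Scheme.ΓSpecIso (CommRingCat.of BV)).inv.hom
  have hε0 : ∀ c : BV, ε c = 0 ↔ c ∈ Q₀ := by
    intro c
    change U.evaluation ⊤ u trivial ((Scheme.ΓSpecIso (CommRingCat.of BV)).inv c) = 0 ↔ _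
    rw [Scheme.evaluation_eq_zero_iff_notMem_basicOpen, basicOpen_eq_of_affine]
    change ¬ (c ∉ Q₀) ↔ _
    rw [not_not]
  -- (ii) naturality
  have hnat : ∀ s : Γ(X, V), g.residueFieldMap u (X.evaluation V (g u) hguV s) =
      ε (algebraMap Γ(X, V) BV s) := by
    intro s
    rw [Scheme.evaluation_naturality_apply]
    have h1 : (g.appLE V ⊤ e₀) s = (Scheme.ΓSpecIso (CommRingCat.of BV)).inv
        (algebraMap Γ(X, V) BV s) := by
      rw [happ]; rfl
    change _ = U.evaluation ⊤ u trivial ((Scheme.ΓSpecIso (CommRingCat.of BV)).inv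
        (algebraMap Γ(X, V) BV s))
    rw [← h1, Scheme.Hom.appLE]
    change _ = (U.presheaf.germ ⊤ u trivial ≫ U.residue u)
      ((g.app V ≫ U.presheaf.map (homOfLE e₀).op) s)
    rw [CommRingCat.comp_apply, CommRingCat.comp_apply, ← CommRingCat.comp_apply
      (U.presheaf.map (homOfLE e₀).op), TopCat.Presheaf.germ_res]
    rfl
  -- the range is a subfield containing all evaluations
  let F := (g.residueFieldMap u).hom.fieldRange
  have hF : ∀ b : BV, ε b ∈ F := by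
    intro b
    obtain ⟨s, r, hs, hsr⟩ := hfrac b
    have h1 : ε (algebraMap Γ(X, V) BV s) * ε b = ε (algebraMap Γ(X, V) BV r) := by
      rw [← map_mul, ← sub_eq_zero, ← map_sub, hε0]
      exact hsr
    have h2 : ε (algebraMap Γ(X, V) BV s) ≠ 0 := fun h => hs ((hε0 _).mp h)
    have h3 : ε b = ε (algebraMap Γ(X, V) BV r) / ε (algebraMap Γ(X, V) BV s) := by
      rw [eq_div_iff h2, mul_comm, h1]
    rw [h3]
    refine F.div_mem ?_ ?_
    · rw [← hnat]; exact ⟨_, rfl⟩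
    · rw [← hnat]; exact ⟨_, rfl⟩
  -- every element of the residue field is a quotient of evaluations
  intro ξ
  obtain ⟨z, rfl⟩ := IsLocalRing.residue_surjective ξ
  letI := U.presheaf.algebra_section_stalk (⟨u, trivial⟩ : (⊤ : U.Opens))
  haveI := (isAffineOpen_top U).isLocalization_stalk ⟨u, trivial⟩
  obtain ⟨b', t', rfl⟩ := IsLocalization.exists_mk'_eq
    ((isAffineOpen_top U).primeIdealOf ⟨u, trivial⟩).asIdeal.primeCompl z
  have hb' : ∀ c : Γ(U, ⊤), U.Γevaluation u c ∈ F := by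
    intro c
    have : c = (Scheme.ΓSpecIso (CommRingCat.of BV)).inv
        ((Scheme.ΓSpecIso (CommRingCat.of BV)).hom c) := by simp
    rw [this]
    exact hF _
  have hunit : IsUnit (algebraMap Γ(U, ⊤) (U.presheaf.stalk u) t') :=
    IsLocalization.map_units _ t'
  have hne : residue (U.presheaf.stalk u) (algebraMap Γ(U, ⊤) (U.presheaf.stalk u) t') ≠ 0 :=
    (residue_ne_zero_iff_isUnit _).mpr hunit
  have hmul : residue (U.presheaf.stalk u) (IsLocalization.mk' (U.presheaf.stalk u) b' t') *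
      residue (U.presheaf.stalk u) (algebraMap Γ(U, ⊤) (U.presheaf.stalk u) t') =
      residue (U.presheaf.stalk u) (algebraMap Γ(U, ⊤) (U.presheaf.stalk u) b') := by
    rw [← map_mul, IsLocalization.mk'_spec]
  have hmem : residue (U.presheaf.stalk u) (IsLocalization.mk' (U.presheaf.stalk u) b' t') ∈ F := by
    rw [eq_div_of_mul_eq hne hmul]
    exact F.div_mem (hb' b') (hb' t')
  exact hmem

/-- (←) of S9781. -/
theorem isUnibranch_of_forall_elemNbhd (X : Scheme.{u}) (x : X)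
    (H : ∀ (U : Scheme.{u}) (g : U ⟶ X) (u : U), Hens2.IsEtaleNbhd g u x →
      {Z : Set U | Z ∈ irreducibleComponents U ∧ u ∈ Z}.encard = 1) :
    CAlg2.IsUnibranch (X.presheaf.stalk x) := by
  have hS := Groth.Agent.H3.HensLocal.isPairHenselization_Lim (X.presheaf.stalk x)
  haveI := Groth.Agent.H3.HensLocal.isLocalRing hS
  haveI := Groth.Agent.H3.HensLocal.isLocalHom hS
  have hH := Groth.Agent.H3.HensLocal.isHenselization hS
  haveI := hH
  rw [UniqueMin.isUnibranch_iff_hasUniqueMinimalPrime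
    (Ah := Groth.Agent.H3.HensTower.Lim (X.presheaf.stalk x)
      (maximalIdeal (X.presheaf.stalk x)))]
  obtain ⟨𝔓₀, h𝔓₀, -⟩ := Ideal.exists_minimalPrimes_le
    (bot_le : ⊥ ≤ maximalIdeal (Groth.Agent.H3.HensTower.Lim (X.presheaf.stalk x)
      (maximalIdeal (X.presheaf.stalk x))))
  refine ⟨𝔓₀, h𝔓₀, fun 𝔓 h𝔓 => ?_⟩
  by_contra hne
  have hnle : ¬ 𝔓 ≤ 𝔓₀ := fun hle => hne (le_antisymm hle (h𝔓₀.2 h𝔓.1 hle))
  obtain ⟨a, ha₁, ha₂⟩ := Set.not_subset.mp hnle
  obtain ⟨hU, hff⟩ := Groth.Agent.H3.HensUnion.package (Or.inl hH)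
  obtain ⟨A', _, _, hEt, φ, hφ⟩ := hU a
  obtain ⟨a', rfl⟩ := hφ rfl
  obtain ⟨V, hV, hxV, BV, _, _, hBV, he⟩ := EtNbhd.exists_etale_descends_stalk X x A'
  letI algRA : Algebra Γ(X, V) (X.presheaf.stalk x) := (X.presheaf.germ V x hxV).hom.toAlgebra
  obtain ⟨e⟩ := he
  letI algRB : Algebra Γ(X, V) (Groth.Agent.H3.HensTower.Lim (X.presheaf.stalk x)
      (maximalIdeal (X.presheaf.stalk x))) :=
    ((algebraMap (X.presheaf.stalk x) (Groth.Agent.H3.HensTower.Lim (X.presheaf.stalk x)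
      (maximalIdeal (X.presheaf.stalk x)))).comp
      (algebraMap Γ(X, V) (X.presheaf.stalk x))).toAlgebra
  haveI : IsScalarTower Γ(X, V) (X.presheaf.stalk x)
      (Groth.Agent.H3.HensTower.Lim (X.presheaf.stalk x)
        (maximalIdeal (X.presheaf.stalk x))) := IsScalarTower.of_algebraMap_eq' rfl
  haveI hlocst : IsLocalization.AtPrime (X.presheaf.stalk x)
      (hV.primeIdealOf ⟨x, hxV⟩).asIdeal := hV.isLocalization_stalk ⟨x, hxV⟩
  obtain ⟨χ, hm₁, hm₂, hne', hQ⟩ := EtNbhdRing.exists_two_minimalPrimes Γ(X, V)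
    (X.presheaf.stalk x) (Groth.Agent.H3.HensTower.Lim (X.presheaf.stalk x)
      (maximalIdeal (X.presheaf.stalk x))) BV A'
    (hV.primeIdealOf ⟨x, hxV⟩).asIdeal φ e 𝔓 𝔓₀ h𝔓 h𝔓₀ a' ha₁ ha₂
  -- the étale neighbourhood
  let g : Spec (CommRingCat.of BV) ⟶ X :=
    Spec.map (CommRingCat.ofHom (algebraMap Γ(X, V) BV)) ≫ hV.fromSpec
  haveI : Etale (Spec.map (CommRingCat.ofHom (algebraMap Γ(X, V) BV))) := by
    rw [HasRingHomProperty.Spec_iff (P := @Etale)]
    exact RingHom.etale_algebraMap.mpr hBV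
  haveI hg : Etale g := inferInstance
  let Q₀ : Ideal BV := (maximalIdeal (Groth.Agent.H3.HensTower.Lim (X.presheaf.stalk x)
      (maximalIdeal (X.presheaf.stalk x)))).comap χ
  haveI : Q₀.IsPrime := Ideal.comap_isPrime _ _
  let u : Spec (CommRingCat.of BV) := (⟨Q₀, inferInstance⟩ : PrimeSpectrum BV)
  have hgu : g u = x := by
    have h1 : (Spec.map (CommRingCat.ofHom (algebraMap Γ(X, V) BV))) u =
        hV.primeIdealOf ⟨x, hxV⟩ := by
      apply PrimeSpectrum.ext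
      exact hQ
    change hV.fromSpec ((Spec.map (CommRingCat.ofHom (algebraMap Γ(X, V) BV))) u) = x
    rw [h1]
    exact hV.fromSpec_primeIdealOf ⟨x, hxV⟩
  -- the residue field extension is trivial
  have hfrac : ∀ b : BV, ∃ s r : Γ(X, V), algebraMap Γ(X, V) BV s ∉ Q₀ ∧
      algebraMap Γ(X, V) BV s * b - algebraMap Γ(X, V) BV r ∈ Q₀ := by
    intro b
    obtain ⟨a₀, ha₀⟩ := Groth.Agent.H3.PairHens.exists_sub_mem hS (χ b)
    rw [← Groth.Agent.H3.HensLocal.maximalIdeal_eq hS] at ha₀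
    obtain ⟨r, s, rfl⟩ := IsLocalization.exists_mk'_eq
      (hV.primeIdealOf ⟨x, hxV⟩).asIdeal.primeCompl a₀
    refine ⟨s, r, ?_, ?_⟩
    · intro hs
      have : (s : Γ(X, V)) ∈ Q₀.comap (algebraMap Γ(X, V) BV) := hs
      rw [hQ] at this
      exact s.2 this
    · change χ (algebraMap Γ(X, V) BV s * b - algebraMap Γ(X, V) BV r) ∈ maximalIdeal _
      rw [map_sub, map_mul, χ.commutes, χ.commutes,
        IsScalarTower.algebraMap_apply Γ(X, V) (X.presheaf.stalk x) _ (s : Γ(X, V)),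
        IsScalarTower.algebraMap_apply Γ(X, V) (X.presheaf.stalk x) _ r,
        ← IsLocalization.mk'_spec (X.presheaf.stalk x) r s, map_mul, mul_comm, ← sub_mul]
      exact Ideal.mul_mem_right _ _ ha₀
  have hbij : Function.Bijective (g.residueFieldMap u) :=
    ⟨(g.residueFieldMap u).hom.injective, residueFieldMap_surjective hV BV Q₀ hfrac⟩
  have hH' := H _ g u ⟨hg, hgu, hbij⟩
  rw [Set.encard_eq_one] at hH'
  obtain ⟨Z₀, hZ₀⟩ := hH'
  have hmem : ∀ P : Ideal BV, P ∈ minimalPrimes BV → P ≤ Q₀ →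
      (PrimeSpectrum.zeroLocus (P : Set BV) : Set (PrimeSpectrum BV)) = Z₀ := by
    intro P hP hPQ
    have h1 : (PrimeSpectrum.zeroLocus (P : Set BV) : Set (PrimeSpectrum BV)) ∈
        irreducibleComponents (PrimeSpectrum BV) := by
      rw [← PrimeSpectrum.zeroLocus_minimalPrimes]
      exact ⟨P, hP, rfl⟩
    have h2 : (PrimeSpectrum.zeroLocus (P : Set BV) : Set (PrimeSpectrum BV)) ∈
        {Z : Set (Spec (CommRingCat.of BV)) | Z ∈ irreducibleComponents
          (Spec (CommRingCat.of BV)) ∧ u ∈ Z} := ⟨h1, hPQ⟩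
    rw [hZ₀] at h2
    exact h2
  have hle₁ : Ideal.comap χ 𝔓 ≤ Q₀ :=
    Ideal.comap_mono (IsLocalRing.le_maximalIdeal h𝔓.1.1.ne_top)
  have hle₂ : Ideal.comap χ 𝔓₀ ≤ Q₀ :=
    Ideal.comap_mono (IsLocalRing.le_maximalIdeal h𝔓₀.1.1.ne_top)
  have heq := (hmem _ hm₁ hle₁).trans (hmem _ hm₂ hle₂).symm
  haveI : (Ideal.comap χ 𝔓).IsPrime := hm₁.1.1
  haveI : (Ideal.comap χ 𝔓₀).IsPrime := hm₂.1.1
  apply hne'
  have h3 := congrArg PrimeSpectrum.vanishingIdeal heq
  rw [PrimeSpectrum.vanishingIdeal_zeroLocus_eq_radical,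
    PrimeSpectrum.vanishingIdeal_zeroLocus_eq_radical, Ideal.IsPrime.radical ‹_›,
    Ideal.IsPrime.radical ‹_›] at h3
  exact h3

/-- **S9781.** -/
theorem isUnibranch_iff (X : Scheme.{u}) (x : X) :
    CAlg2.IsUnibranch (X.presheaf.stalk x) ↔
      ∀ (U : Scheme.{u}) (g : U ⟶ X) (u : U), Hens2.IsEtaleNbhd g u x →
        {Z : Set U | Z ∈ irreducibleComponents U ∧ u ∈ Z}.encard = 1 := by
  constructor
  · intro hA U g u hg
    exact encard_eq_one_of_isUnibranch g x u hg hA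
  · exact isUnibranch_of_forall_elemNbhd X x

end Groth.Agent.H14.HensProp.ElemNbhd
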