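import Mathlib
import Groth.Agent.H14.HensProp.EtNbhd
import Groth.Agent.H14.HensProp.EtNbhdRing
import Groth.Agent.H14.HensProp.ElemNbhd2

/-!
# Étale neighbourhoods separating finitely many minimal primes of a (strict) henselization
-/

set_option autoImplicit false
set_option linter.style.haveILetI false
universe u

namespace Groth.Agent.H14.HensProp.EtNbhdCount

open AlgebraicGeometry CategoryTheory IsLocalRing TopologicalSpace TensorProduct Opposite
open Groth.Agent.H3.UnionEtale

/-- **The comparison map from a descended étale algebra.** -/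
theorem exists_chi (R A B BV A' : Type u) [CommRing R] [CommRing A] [CommRing B]
    [CommRing BV] [CommRing A'] [Algebra R A] [Algebra A B] [Algebra R B] [IsScalarTower R A B]
    [Algebra R BV] [Algebra.Etale R BV] [Algebra A A'] (p : Ideal R) [p.IsPrime]
    [IsLocalization.AtPrime A p] [IsLocalRing A] [IsLocalRing B] [IsLocalHom (algebraMap A B)]
    [Module.Flat A B] (φ : A' →ₐ[A] B) (e : A' ≃ₐ[A] A ⊗[R] BV) :
    ∃ χ : BV →ₐ[R] B, (∀ 𝔓 ∈ minimalPrimes B, 𝔓.comap χ ∈ minimalPrimes BV) ∧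
      (∀ a' : A', ∃ s ∈ p.primeCompl, ∃ b : BV,
        χ b = algebraMap A B (algebraMap R A s) * φ a') ∧
      ((maximalIdeal B).comap χ).comap (algebraMap R BV) = p := by
  let ψ : A ⊗[R] BV →ₐ[A] B := φ.comp e.symm.toAlgHom
  let χ : BV →ₐ[R] B :=
    (ψ.restrictScalars R).comp (Algebra.TensorProduct.includeRight : BV →ₐ[R] A ⊗[R] BV)
  have hχ : ∀ b : BV, χ b = ψ (1 ⊗ₜ b) := fun b => rfl
  haveI : Module.Flat R A := IsLocalization.flat A p.primeCompl
  haveI : Module.Flat R B := Module.Flat.trans R A B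
  letI : Algebra BV B := χ.toRingHom.toAlgebra
  haveI : IsScalarTower R BV B := IsScalarTower.of_algebraMap_eq fun r => (χ.commutes r).symm
  haveI : Module.Flat BV B := Groth.Agent.H3.FlatOfEtale.flat_of_etale R BV B
  refine ⟨χ, fun 𝔓 h𝔓 => EtNbhdRing.comap_mem_minimalPrimes (S := BV) 𝔓 h𝔓, ?_, ?_⟩
  · intro a'
    obtain ⟨s, hs, b, hb⟩ := EtNbhdRing.exists_smul_eq_one_tmul R A BV p.primeCompl (e a')
    refine ⟨s, hs, b, ?_⟩
    rw [hχ, ← hb, map_smul, Algebra.smul_def]
    congr 1
    change φ (e.symm (e a')) = φ a'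
    rw [AlgEquiv.symm_apply_apply]
  · ext r
    rw [Ideal.mem_comap, Ideal.mem_comap, AlgHom.commutes,
      IsScalarTower.algebraMap_apply R A B, ← Ideal.mem_comap,
      IsLocalRing.maximalIdeal_comap,
      IsLocalization.AtPrime.to_map_mem_maximal_iff A p]

/-- **Lower bound.** Finitely many minimal primes of a flat local union of étale images `B` over
the local ring at `x` are separated on some affine étale neighbourhood. -/
theorem exists_etaleNbhd (X : Scheme.{u}) (x : X) (B : Type u) [CommRing B] [IsLocalRing B]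
    [Algebra (X.presheaf.stalk x) B] [IsLocalHom (algebraMap (X.presheaf.stalk x) B)]
    [Module.Flat (X.presheaf.stalk x) B] (hU : IsUnion (X.presheaf.stalk x) B)
    (F : Finset (Ideal B)) (hF : ∀ P ∈ F, P ∈ minimalPrimes B) :
    ∃ (U : Scheme.{u}) (g : U ⟶ X) (u : U), Etale g ∧ g u = x ∧
      ((∀ b : B, ∃ a : X.presheaf.stalk x, b - algebraMap _ B a ∈ maximalIdeal B) →
        Function.Bijective (g.residueFieldMap u)) ∧
      (F.card : ℕ∞) ≤ {Z : Set U | Z ∈ irreducibleComponents U ∧ u ∈ Z}.encard := by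
  classical
  -- separating elements
  have hsep : ∀ P ∈ F, ∀ P' ∈ F, P ≠ P' → ∃ a : B, a ∈ P ∧ a ∉ P' := by
    intro P hP P' hP' hne
    have hnle : ¬ P ≤ P' := fun hle => hne (le_antisymm hle ((hF P' hP').2 (hF P hP).1 hle))
    exact Set.not_subset.mp hnle
  let sep : Ideal B → Ideal B → B := fun P P' =>
    if h : P ∈ F ∧ P' ∈ F ∧ P ≠ P' then (hsep P h.1 P' h.2.1 h.2.2).choose else 0
  have hsep' : ∀ P ∈ F, ∀ P' ∈ F, P ≠ P' → sep P P' ∈ P ∧ sep P P' ∉ P' := by
    intro P hP P' hP' hne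
    have h : P ∈ F ∧ P' ∈ F ∧ P ≠ P' := ⟨hP, hP', hne⟩
    simp only [sep, dif_pos h]
    exact (hsep P h.1 P' h.2.1 h.2.2).choose_spec
  let T : Finset B := (F ×ˢ F).image (fun PP => sep PP.1 PP.2)
  obtain ⟨A', _, _, hEt, φ, hφ⟩ := hU.finset T
  have hmemT : ∀ P ∈ F, ∀ P' ∈ F, sep P P' ∈ Set.range φ := by
    intro P hP P' hP'
    apply hφ
    rw [Finset.mem_coe]
    exact Finset.mem_image.mpr ⟨(P, P'), Finset.mem_product.mpr ⟨hP, hP'⟩, rfl⟩
  obtain ⟨V, hV, hxV, BV, _, _, hBV, he⟩ := EtNbhd.exists_etale_descends_stalk X x A'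
  letI algRA : Algebra Γ(X, V) (X.presheaf.stalk x) := (X.presheaf.germ V x hxV).hom.toAlgebra
  obtain ⟨e⟩ := he
  letI algRB : Algebra Γ(X, V) B :=
    ((algebraMap (X.presheaf.stalk x) B).comp
      (algebraMap Γ(X, V) (X.presheaf.stalk x))).toAlgebra
  haveI : IsScalarTower Γ(X, V) (X.presheaf.stalk x) B := IsScalarTower.of_algebraMap_eq' rfl
  haveI hlocst : IsLocalization.AtPrime (X.presheaf.stalk x)
      (hV.primeIdealOf ⟨x, hxV⟩).asIdeal := hV.isLocalization_stalk ⟨x, hxV⟩
  obtain ⟨χ, hmin, hfr, hQ⟩ := exists_chi Γ(X, V) (X.presheaf.stalk x) B BV A'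
    (hV.primeIdealOf ⟨x, hxV⟩).asIdeal φ e
  -- the étale neighbourhood
  let g : Spec (CommRingCat.of BV) ⟶ X :=
    Spec.map (CommRingCat.ofHom (algebraMap Γ(X, V) BV)) ≫ hV.fromSpec
  haveI : Etale (Spec.map (CommRingCat.ofHom (algebraMap Γ(X, V) BV))) := by
    rw [HasRingHomProperty.Spec_iff (P := @Etale)]
    exact RingHom.etale_algebraMap.mpr hBV
  haveI hg : Etale g := inferInstance
  let Q₀ : Ideal BV := (maximalIdeal B).comap χ
  haveI : Q₀.IsPrime := Ideal.comap_isPrime _ _
  let u : Spec (CommRingCat.of BV) := (⟨Q₀, inferInstance⟩ : PrimeSpectrum BV)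
  have hgu : g u = x := by
    have h1 : (Spec.map (CommRingCat.ofHom (algebraMap Γ(X, V) BV))) u =
        hV.primeIdealOf ⟨x, hxV⟩ := by
      apply PrimeSpectrum.ext
      exact hQ
    change hV.fromSpec ((Spec.map (CommRingCat.ofHom (algebraMap Γ(X, V) BV))) u) = x
    rw [h1]
    exact hV.fromSpec_primeIdealOf ⟨x, hxV⟩
  refine ⟨_, g, u, hg, hgu, ?_, ?_⟩
  · -- the residue field extension is trivial
    intro hres
    have hfrac : ∀ b : BV, ∃ s r : Γ(X, V), algebraMap Γ(X, V) BV s ∉ Q₀ ∧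
        algebraMap Γ(X, V) BV s * b - algebraMap Γ(X, V) BV r ∈ Q₀ := by
      intro b
      obtain ⟨a₀, ha₀⟩ := hres (χ b)
      obtain ⟨r, s, rfl⟩ := IsLocalization.exists_mk'_eq
        (hV.primeIdealOf ⟨x, hxV⟩).asIdeal.primeCompl a₀
      refine ⟨s, r, ?_, ?_⟩
      · intro hs
        have : (s : Γ(X, V)) ∈ Q₀.comap (algebraMap Γ(X, V) BV) := hs
        rw [hQ] at this
        exact s.2 this
      · change χ (algebraMap Γ(X, V) BV s * b - algebraMap Γ(X, V) BV r) ∈ maximalIdeal _
        rw [map_sub, map_mul, χ.commutes, χ.commutes,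
          IsScalarTower.algebraMap_apply Γ(X, V) (X.presheaf.stalk x) _ (s : Γ(X, V)),
          IsScalarTower.algebraMap_apply Γ(X, V) (X.presheaf.stalk x) _ r,
          ← IsLocalization.mk'_spec (X.presheaf.stalk x) r s, map_mul, mul_comm, ← sub_mul]
        exact Ideal.mul_mem_right _ _ ha₀
    exact ⟨(g.residueFieldMap u).hom.injective,
      ElemNbhd.residueFieldMap_surjective hV BV Q₀ hfrac⟩
  · -- counting
    have hinjOn : Set.InjOn (fun P : Ideal B =>
        (PrimeSpectrum.zeroLocus ((P.comap χ : Ideal BV) : Set BV) :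
          Set (PrimeSpectrum BV))) (F : Set (Ideal B)) := by
      intro P hP P' hP' heq
      by_contra hne
      have hP := Finset.mem_coe.mp hP
      have hP' := Finset.mem_coe.mp hP'
      haveI : (Ideal.comap χ P).IsPrime := (hmin P (hF P hP)).1.1
      haveI : (Ideal.comap χ P').IsPrime := (hmin P' (hF P' hP')).1.1
      have h3 := congrArg PrimeSpectrum.vanishingIdeal heq
      simp only at h3
      rw [PrimeSpectrum.vanishingIdeal_zeroLocus_eq_radical,
        PrimeSpectrum.vanishingIdeal_zeroLocus_eq_radical, Ideal.IsPrime.radical ‹_›,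
        Ideal.IsPrime.radical ‹_›] at h3
      -- a separating element
      obtain ⟨ha₁, ha₂⟩ := hsep' P hP P' hP' hne
      obtain ⟨a', ha'⟩ := hmemT P hP P' hP'
      obtain ⟨s, hs, b, hb⟩ := hfr a'
      have hu : IsUnit (algebraMap (X.presheaf.stalk x) B (algebraMap Γ(X, V) _ s)) :=
        (IsLocalization.map_units (X.presheaf.stalk x)
          (⟨s, hs⟩ : (hV.primeIdealOf ⟨x, hxV⟩).asIdeal.primeCompl)).map _
      have hb₁ : b ∈ P.comap χ := by
        rw [Ideal.mem_comap, hb, ha']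
        exact Ideal.mul_mem_left _ _ ha₁
      have hb₂ : b ∉ P'.comap χ := by
        rw [Ideal.mem_comap, hb, ha']
        intro h
        haveI hP'prime : P'.IsPrime := (hF P' hP').1.1
        rcases hP'prime.mem_or_mem h with h | h
        · exact hP'prime.ne_top (Ideal.eq_top_of_isUnit_mem _ h hu)
        · exact ha₂ h
      exact hb₂ (h3 ▸ hb₁)
    have hmaps : Set.MapsTo (fun P : Ideal B =>
        (PrimeSpectrum.zeroLocus ((P.comap χ : Ideal BV) : Set BV) :
          Set (PrimeSpectrum BV))) (F : Set (Ideal B))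
        {Z : Set (Spec (CommRingCat.of BV)) | Z ∈ irreducibleComponents
          (Spec (CommRingCat.of BV)) ∧ u ∈ Z} := by
      intro P hP
      have hP := Finset.mem_coe.mp hP
      have h1 : (PrimeSpectrum.zeroLocus ((P.comap χ : Ideal BV) : Set BV) :
          Set (PrimeSpectrum BV)) ∈ irreducibleComponents (PrimeSpectrum BV) := by
        rw [← PrimeSpectrum.zeroLocus_minimalPrimes]
        exact ⟨_, hmin P (hF P hP), rfl⟩
      have hle : Ideal.comap χ P ≤ Q₀ :=
        Ideal.comap_mono (IsLocalRing.le_maximalIdeal (hF P hP).1.1.ne_top)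
      exact ⟨h1, hle⟩
    have := Set.encard_le_encard_of_injOn hmaps hinjOn
    rwa [Set.encard_coe_eq_coe_finsetCard] at this

end Groth.Agent.H14.HensProp.EtNbhdCount
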