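import Mathlib

/-!
# Irreducible components through a point of a scheme and minimal primes of the local ring
-/

set_option autoImplicit false
set_option linter.style.haveILetI false
universe u

namespace Groth.Agent.H14.HensProp.CompStalk

open AlgebraicGeometry

variable {U : Scheme.{u}} (u : U)

theorem fromSpecStalk_specializes (P : PrimeSpectrum (U.presheaf.stalk u)) :
    U.fromSpecStalk u P ⤳ u := by
  have : U.fromSpecStalk u P ∈ Set.range (U.fromSpecStalk u) := ⟨P, rfl⟩
  rw [Scheme.range_fromSpecStalk] at this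
  exact this

theorem exists_of_specializes {z : U} (hz : z ⤳ u) :
    ∃ P : PrimeSpectrum (U.presheaf.stalk u), U.fromSpecStalk u P = z := by
  have : z ∈ Set.range (U.fromSpecStalk u) := by rw [Scheme.range_fromSpecStalk]; exact hz
  exact this

theorem fromSpecStalk_specializes_iff (P Q : PrimeSpectrum (U.presheaf.stalk u)) :
    U.fromSpecStalk u P ⤳ U.fromSpecStalk u Q ↔ P ≤ Q := by
  rw [PrimeSpectrum.le_iff_specializes]
  exact (U.fromSpecStalk u).isEmbedding.isInducing.specializes_iff

theorem fromSpecStalk_injective : Function.Injective (U.fromSpecStalk u) :=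
  (U.fromSpecStalk u).isEmbedding.injective

/-- the irreducible component attached to a minimal prime of the local ring -/
theorem closure_mem_irreducibleComponents (P : PrimeSpectrum (U.presheaf.stalk u))
    (hP : P.asIdeal ∈ minimalPrimes (U.presheaf.stalk u)) :
    closure {U.fromSpecStalk u P} ∈ irreducibleComponents U := by
  refine ⟨isIrreducible_singleton.closure, ?_⟩
  intro Z hZ hgZ
  have hZc : IsIrreducible (closure Z) := hZ.closure
  have hgen := hZc.isGenericPoint_genericPoint_closure
  rw [closure_closure] at hgen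
  set ζ := hZc.genericPoint with hζ
  have h1 : U.fromSpecStalk u P ∈ closure Z := subset_closure (hgZ (subset_closure rfl))
  have h2 : ζ ⤳ U.fromSpecStalk u P := by
    rw [specializes_iff_mem_closure, hgen.def]; exact h1
  have h3 : ζ ⤳ u := h2.trans (fromSpecStalk_specializes u P)
  obtain ⟨Q, hQ⟩ := exists_of_specializes u h3
  rw [← hQ, fromSpecStalk_specializes_iff] at h2
  have h4 : P ≤ Q := hP.2 ⟨Q.2, bot_le⟩ h2
  have h5 : Q = P := le_antisymm h2 h4
  calc Z ⊆ closure Z := subset_closure
    _ = closure {ζ} := hgen.def.symm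
    _ = closure {U.fromSpecStalk u P} := by rw [← hQ, h5]

/-- every irreducible component through `u` comes from a minimal prime of the local ring -/
theorem exists_minimalPrime_of_mem_irreducibleComponents (Z : Set U)
    (hZ : Z ∈ irreducibleComponents U) (huZ : u ∈ Z) :
    ∃ P : PrimeSpectrum (U.presheaf.stalk u), P.asIdeal ∈ minimalPrimes (U.presheaf.stalk u) ∧
      Z = closure {U.fromSpecStalk u P} := by
  have hZcl : IsClosed Z := isClosed_of_mem_irreducibleComponents Z hZ
  have hgen := hZ.1.isGenericPoint_genericPoint_closure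
  rw [hZcl.closure_eq] at hgen
  set ζ := hZ.1.genericPoint with hζ
  have h1 : ζ ⤳ u := by
    rw [specializes_iff_mem_closure, hgen.def]; exact huZ
  obtain ⟨P, hP⟩ := exists_of_specializes u h1
  refine ⟨P, ⟨⟨P.2, bot_le⟩, ?_⟩, by rw [hP, hgen.def]⟩
  rintro Q' ⟨hQ', -⟩ hle
  let Q : PrimeSpectrum (U.presheaf.stalk u) := ⟨Q', hQ'⟩
  have h2 : U.fromSpecStalk u Q ⤳ U.fromSpecStalk u P :=
    (fromSpecStalk_specializes_iff u Q P).mpr hle
  have h3 : Z ⊆ closure {U.fromSpecStalk u Q} := by
    rw [← hgen.def, ← hP]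
    exact closure_minimal (Set.singleton_subset_iff.mpr (specializes_iff_mem_closure.mp h2))
      isClosed_closure
  have h4 : closure {U.fromSpecStalk u Q} ⊆ Z := hZ.2 isIrreducible_singleton.closure h3
  have h5 : U.fromSpecStalk u Q ∈ Z := h4 (subset_closure rfl)
  rw [← hgen.def, ← specializes_iff_mem_closure, ← hP, fromSpecStalk_specializes_iff] at h5
  exact h5

/-- **Irreducible components through `u` correspond to minimal primes of the local ring at
`u`.** -/
theorem encard_components_eq :
    {Z : Set U | Z ∈ irreducibleComponents U ∧ u ∈ Z}.encard =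
      (minimalPrimes (U.presheaf.stalk u)).encard := by
  symm
  let F : minimalPrimes (U.presheaf.stalk u) →
      {Z : Set U | Z ∈ irreducibleComponents U ∧ u ∈ Z} := fun p =>
    ⟨closure {U.fromSpecStalk u ⟨p.1, p.2.1.1⟩},
      closure_mem_irreducibleComponents u ⟨p.1, p.2.1.1⟩ p.2,
      specializes_iff_mem_closure.mp (fromSpecStalk_specializes u _)⟩
  have hinj : Function.Injective F := by
    rintro ⟨p₁, hp₁⟩ ⟨p₂, hp₂⟩ h
    have h1 : closure {U.fromSpecStalk u ⟨p₁, hp₁.1.1⟩} =
        closure {U.fromSpecStalk u ⟨p₂, hp₂.1.1⟩} := congrArg Subtype.val h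
    have h2 : U.fromSpecStalk u ⟨p₁, hp₁.1.1⟩ ⤳ U.fromSpecStalk u ⟨p₂, hp₂.1.1⟩ := by
      rw [specializes_iff_mem_closure, h1]; exact subset_closure rfl
    have h3 : U.fromSpecStalk u ⟨p₂, hp₂.1.1⟩ ⤳ U.fromSpecStalk u ⟨p₁, hp₁.1.1⟩ := by
      rw [specializes_iff_mem_closure, ← h1]; exact subset_closure rfl
    rw [fromSpecStalk_specializes_iff] at h2 h3
    apply Subtype.ext
    exact le_antisymm h2 h3
  have hsurj : Function.Surjective F := by
    rintro ⟨Z, hZ, huZ⟩
    obtain ⟨P, hP, hZP⟩ := exists_minimalPrime_of_mem_irreducibleComponents u Z hZ huZ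
    exact ⟨⟨P.asIdeal, hP⟩, Subtype.ext hZP.symm⟩
  rw [← ENat.card_coe_set_eq, ← ENat.card_coe_set_eq]
  exact ENat.card_congr (Equiv.ofBijective F ⟨hinj, hsurj⟩)

end Groth.Agent.H14.HensProp.CompStalk
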