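import Mathlib
import Groth.Agent.H14.HenselEssEt
import Groth.Agent.H3.FlatOfEtale
import Groth.Agent.H14.HensProp.BranchCount
import Groth.Agent.H14.HensProp.CompStalk

/-!
# The local ring of an étale neighbourhood maps faithfully flatly to a (strictly) henselian
local algebra; consequences for the number of irreducible components through the point
-/

set_option autoImplicit false
set_option linter.style.haveILetI false
universe u

namespace Groth.Agent.H14.HensProp.EtNbhdFlat

open AlgebraicGeometry CategoryTheory IsLocalRing TopologicalSpace TensorProduct Opposite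

/-- a faithfully flat algebra has at least as many minimal primes -/
theorem encard_minimalPrimes_le (A S : Type u) [CommRing A] [CommRing S] [Algebra A S]
    [Module.FaithfullyFlat A S] : (minimalPrimes A).encard ≤ (minimalPrimes S).encard := by
  have hex : ∀ p : minimalPrimes A, ∃ q : minimalPrimes S, q.1.comap (algebraMap A S) = p.1 := by
    rintro ⟨p, hp⟩
    obtain ⟨q, hq, hqp⟩ := BranchCount.exists_minimalPrimes_comap_eq A S p hp
    exact ⟨⟨q, hq⟩, hqp⟩
  choose f hf using hex
  have hinj : Function.Injective f := by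
    intro p₁ p₂ h
    apply Subtype.ext
    rw [← hf p₁, ← hf p₂, h]
  rw [← ENat.card_coe_set_eq, ← ENat.card_coe_set_eq]
  exact ENat.card_le_card_of_injective hinj

variable {X U : Scheme.{u}} (g : U ⟶ X)

/-- The local ring of an étale neighbourhood maps faithfully flatly into a flat henselian local
algebra over the local ring of the base, once a compatible residue field map is given. -/
theorem encard_minimalPrimes_stalk_le [Etale g] (u : U)
    (Ah : Type u) [CommRing Ah] [IsLocalRing Ah] [Algebra (X.presheaf.stalk (g u)) Ah]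
    [IsLocalHom (algebraMap (X.presheaf.stalk (g u)) Ah)] (hH : HenselianLocalRing Ah)
    [Module.Flat (X.presheaf.stalk (g u)) Ah]
    (α : ResidueField (U.presheaf.stalk u) →+* ResidueField Ah)
    (hα : ∀ a : X.presheaf.stalk (g u), α (residue _ ((g.stalkMap u).hom a)) =
      residue Ah (algebraMap (X.presheaf.stalk (g u)) Ah a)) :
    (minimalPrimes (U.presheaf.stalk u)).encard ≤ (minimalPrimes Ah).encard := by
  haveI := hH
  -- affine charts
  obtain ⟨_, ⟨V, hV, rfl⟩, hyV, -⟩ :=
    X.isBasis_affineOpens.exists_subset_of_mem_open (Set.mem_univ (g u)) isOpen_univ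
  obtain ⟨_, ⟨W, hW, rfl⟩, hxW, hWV⟩ :=
    U.isBasis_affineOpens.exists_subset_of_mem_open hyV (V.2.preimage g.continuous)
  have hQ : (g.appLE V W hWV).hom.Etale :=
    HasRingHomProperty.appLE @Etale g inferInstance ⟨V, hV⟩ ⟨W, hW⟩ hWV
  letI algAS : Algebra (X.presheaf.stalk (g u)) (U.presheaf.stalk u) :=
    (g.stalkMap u).hom.toAlgebra
  haveI hloc : IsLocalHom (algebraMap (X.presheaf.stalk (g u)) (U.presheaf.stalk u)) :=
    inferInstanceAs <| IsLocalHom (g.stalkMap u).hom
  letI algRC : Algebra Γ(X, V) Γ(U, W) := (g.appLE V W hWV).hom.toAlgebra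
  haveI : Algebra.Etale Γ(X, V) Γ(U, W) := hQ
  letI algRA : Algebra Γ(X, V) (X.presheaf.stalk (g u)) :=
    (X.presheaf.germ V (g u) hyV).hom.toAlgebra
  letI algCS : Algebra Γ(U, W) (U.presheaf.stalk u) :=
    (U.presheaf.germ W u hxW).hom.toAlgebra
  letI algRS : Algebra Γ(X, V) (U.presheaf.stalk u) :=
    ((g.stalkMap u).hom.comp (X.presheaf.germ V (g u) hyV).hom).toAlgebra
  haveI : IsScalarTower Γ(X, V) (X.presheaf.stalk (g u)) (U.presheaf.stalk u) :=
    IsScalarTower.of_algebraMap_eq' rfl
  have heq : X.presheaf.germ V (g u) hyV ≫ g.stalkMap u =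
      g.appLE V W hWV ≫ U.presheaf.germ W u hxW := by
    refine (Scheme.Hom.germ_stalkMap g V u hyV).trans ?_
    rw [Scheme.Hom.appLE, Category.assoc, TopCat.Presheaf.germ_res]
  haveI : IsScalarTower Γ(X, V) Γ(U, W) (U.presheaf.stalk u) :=
    IsScalarTower.of_algebraMap_eq' (by
      have := congrArg CommRingCat.Hom.hom heq
      exact this)
  haveI hlocS : IsLocalization.AtPrime (U.presheaf.stalk u)
      (hW.primeIdealOf ⟨u, hxW⟩).asIdeal := hW.isLocalization_stalk ⟨u, hxW⟩
  haveI hlocA : IsLocalization.AtPrime (X.presheaf.stalk (g u))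
      (hV.primeIdealOf ⟨g u, hyV⟩).asIdeal := hV.isLocalization_stalk ⟨g u, hyV⟩
  letI algRB : Algebra Γ(X, V) Ah :=
    ((algebraMap (X.presheaf.stalk (g u)) Ah).comp
      (algebraMap Γ(X, V) (X.presheaf.stalk (g u)))).toAlgebra
  haveI : IsScalarTower Γ(X, V) (X.presheaf.stalk (g u)) Ah := IsScalarTower.of_algebraMap_eq' rfl
  have hα' : ∀ r : Γ(X, V), α (residue _ (algebraMap Γ(X, V) (U.presheaf.stalk u) r)) =
      residue Ah (algebraMap Γ(X, V) Ah r) := by
    intro r
    rw [IsScalarTower.algebraMap_apply Γ(X, V) (X.presheaf.stalk (g u)) (U.presheaf.stalk u),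
      IsScalarTower.algebraMap_apply Γ(X, V) (X.presheaf.stalk (g u)) Ah]
    exact hα _
  obtain ⟨ψ', hψ', -⟩ := Groth.Agent.H14.existsUnique_algHom_of_residue_of_atPrime
    (A := Γ(X, V)) (C := Γ(U, W)) (L := U.presheaf.stalk u) (B := Ah)
    (hW.primeIdealOf ⟨u, hxW⟩).asIdeal α hα'
  -- flatness
  haveI : Module.Flat Γ(X, V) (X.presheaf.stalk (g u)) :=
    IsLocalization.flat _ (hV.primeIdealOf ⟨g u, hyV⟩).asIdeal.primeCompl
  haveI : Module.Flat Γ(X, V) Ah := Module.Flat.trans Γ(X, V) (X.presheaf.stalk (g u)) Ah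
  letI algSB : Algebra (U.presheaf.stalk u) Ah := ψ'.toRingHom.toAlgebra
  letI algCB : Algebra Γ(U, W) Ah :=
    (ψ'.toRingHom.comp (algebraMap Γ(U, W) (U.presheaf.stalk u))).toAlgebra
  haveI : IsScalarTower Γ(U, W) (U.presheaf.stalk u) Ah := IsScalarTower.of_algebraMap_eq' rfl
  haveI : IsScalarTower Γ(X, V) Γ(U, W) Ah := by
    refine IsScalarTower.of_algebraMap_eq fun r => ?_
    change algebraMap Γ(X, V) Ah r = ψ' (algebraMap Γ(U, W) (U.presheaf.stalk u)
      (algebraMap Γ(X, V) Γ(U, W) r))
    rw [← IsScalarTower.algebraMap_apply Γ(X, V) Γ(U, W) (U.presheaf.stalk u), ψ'.commutes]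
  haveI : Module.Flat Γ(U, W) Ah := Groth.Agent.H3.FlatOfEtale.flat_of_etale Γ(X, V) Γ(U, W) Ah
  haveI : Module.Flat (U.presheaf.stalk u) Ah :=
    (Module.flat_iff_of_isLocalization (U.presheaf.stalk u)
      (hW.primeIdealOf ⟨u, hxW⟩).asIdeal.primeCompl Ah).mpr inferInstance
  haveI : IsLocalHom (algebraMap (U.presheaf.stalk u) Ah) := by
    constructor
    intro y hy
    have h1 : residue Ah (ψ' y) ≠ 0 := (residue_ne_zero_iff_isUnit _).mpr hy
    rw [hψ'] at h1
    have h2 : residue _ y ≠ 0 := fun h => h1 (by rw [h, map_zero])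
    exact (residue_ne_zero_iff_isUnit _).mp h2
  haveI : Module.FaithfullyFlat (U.presheaf.stalk u) Ah :=
    Module.FaithfullyFlat.of_flat_of_isLocalHom
  exact encard_minimalPrimes_le (U.presheaf.stalk u) Ah

/-- **Upper bound, elementary case.** -/
theorem encard_components_le_of_bijective [Etale g] (u : U)
    (hres : Function.Bijective (g.residueFieldMap u))
    (Ah : Type u) [CommRing Ah] [IsLocalRing Ah] [Algebra (X.presheaf.stalk (g u)) Ah]
    [IsLocalHom (algebraMap (X.presheaf.stalk (g u)) Ah)] (hH : HenselianLocalRing Ah)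
    [Module.Flat (X.presheaf.stalk (g u)) Ah] :
    {Z : Set U | Z ∈ irreducibleComponents U ∧ u ∈ Z}.encard ≤ (minimalPrimes Ah).encard := by
  rw [CompStalk.encard_components_eq]
  have hres' : Function.Bijective (ResidueField.map (g.stalkMap u).hom) := hres
  let E := RingEquiv.ofBijective _ hres'
  let α : ResidueField (U.presheaf.stalk u) →+* ResidueField Ah :=
    (ResidueField.map (algebraMap (X.presheaf.stalk (g u)) Ah)).comp E.symm.toRingHom
  refine encard_minimalPrimes_stalk_le g u Ah hH α ?_
  intro a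
  have h1 : residue _ ((g.stalkMap u).hom a) = E (residue _ a) := rfl
  rw [h1]
  change ResidueField.map (algebraMap (X.presheaf.stalk (g u)) Ah) (E.symm (E _)) = _
  rw [RingEquiv.symm_apply_apply]
  rfl

/-- **Upper bound, geometric case.** -/
theorem encard_components_le_of_isSepClosed [Etale g] (u : U)
    (Ah : Type u) [CommRing Ah] [IsLocalRing Ah] [Algebra (X.presheaf.stalk (g u)) Ah]
    [IsLocalHom (algebraMap (X.presheaf.stalk (g u)) Ah)] (hH : HenselianLocalRing Ah)
    [Module.Flat (X.presheaf.stalk (g u)) Ah] [IsSepClosed (ResidueField Ah)] :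
    {Z : Set U | Z ∈ irreducibleComponents U ∧ u ∈ Z}.encard ≤ (minimalPrimes Ah).encard := by
  rw [CompStalk.encard_components_eq]
  letI algAS : Algebra (X.presheaf.stalk (g u)) (U.presheaf.stalk u) :=
    (g.stalkMap u).hom.toAlgebra
  haveI hloc : IsLocalHom (algebraMap (X.presheaf.stalk (g u)) (U.presheaf.stalk u)) :=
    inferInstanceAs <| IsLocalHom (g.stalkMap u).hom
  haveI : Algebra.EssFiniteType (X.presheaf.stalk (g u)) (U.presheaf.stalk u) := by
    rw [← RingHom.essFiniteType_algebraMap, RingHom.algebraMap_toAlgebra]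
    exact LocallyOfFiniteType.stalkMap g u
  haveI : Algebra.FormallyUnramified (X.presheaf.stalk (g u)) (U.presheaf.stalk u) := by
    rw [← RingHom.formallyUnramified_algebraMap, RingHom.algebraMap_toAlgebra]
    exact FormallyUnramified.stalkMap g u
  haveI : Algebra.IsSeparable (ResidueField (X.presheaf.stalk (g u)))
    (ResidueField (U.presheaf.stalk u)) := inferInstance
  let α : ResidueField (U.presheaf.stalk u) →ₐ[ResidueField (X.presheaf.stalk (g u))]
    ResidueField Ah := IsSepClosed.lift
  refine encard_minimalPrimes_stalk_le g u Ah hH α.toRingHom ?_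
  intro a
  have h1 : residue _ ((g.stalkMap u).hom a) =
    algebraMap (ResidueField (X.presheaf.stalk (g u))) (ResidueField (U.presheaf.stalk u))
      (residue _ a) := rfl
  rw [h1]
  change α (algebraMap _ _ (residue _ a)) = _
  rw [α.commutes]
  rfl

end Groth.Agent.H14.HensProp.EtNbhdFlat
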