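import Mathlib
import Groth.Agent.H14.HensProp.TensorMax
import Groth.Agent.H14.HensProp.IntHensMax

/-!
# Maximal ideals of `A' ⊗[A] S` when the residue field of `S` is separably closed:
they correspond to the homomorphisms `A' → Ω` over `A`
-/

set_option autoImplicit false
set_option linter.style.haveILetI false
set_option linter.unusedSectionVars false
universe u

namespace Groth.Agent.H14.HensProp.TensorMaxGeom

open IsLocalRing TensorProduct

section Hom

variable {A S A' Ω : Type u} [CommRing A] [CommRing S] [Algebra A S] [CommRing A'] [Algebra A A']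
  [CommRing Ω]

/-- ring homomorphisms out of a tensor product of rings -/
theorem exists_tensor_ringHom (f : A' →+* Ω) (g : S →+* Ω)
    (h : f.comp (algebraMap A A') = g.comp (algebraMap A S)) :
    ∃ Φ : A' ⊗[A] S →+* Ω, (∀ b, Φ (b ⊗ₜ[A] (1 : S)) = f b) ∧
      (∀ s, Φ ((1 : A') ⊗ₜ[A] s) = g s) := by
  letI : Algebra A Ω := (f.comp (algebraMap A A')).toAlgebra
  let f' : A' →ₐ[A] Ω := ⟨f, fun a => rfl⟩
  let g' : S →ₐ[A] Ω := ⟨g, fun a => (congr($h a)).symm⟩
  refine ⟨(Algebra.TensorProduct.lift f' g' (fun _ _ => Commute.all _ _)).toRingHom, ?_, ?_⟩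
  · intro b
    change Algebra.TensorProduct.lift f' g' _ (b ⊗ₜ[A] (1 : S)) = _
    rw [Algebra.TensorProduct.lift_tmul, map_one, mul_one]
    rfl
  · intro s
    change Algebra.TensorProduct.lift f' g' _ ((1 : A') ⊗ₜ[A] s) = _
    rw [Algebra.TensorProduct.lift_tmul, map_one, one_mul]
    rfl

theorem tensor_ringHom_ext {Φ₁ Φ₂ : A' ⊗[A] S →+* Ω}
    (h1 : ∀ b, Φ₁ (b ⊗ₜ[A] (1 : S)) = Φ₂ (b ⊗ₜ[A] (1 : S)))
    (h2 : ∀ s, Φ₁ ((1 : A') ⊗ₜ[A] s) = Φ₂ ((1 : A') ⊗ₜ[A] s)) : Φ₁ = Φ₂ := by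
  refine RingHom.ext fun t => ?_
  induction t using TensorProduct.induction_on with
  | zero => simp
  | tmul b s =>
    have : b ⊗ₜ[A] s = (b ⊗ₜ[A] (1 : S)) * ((1 : A') ⊗ₜ[A] s) := by
      rw [Algebra.TensorProduct.tmul_mul_tmul, mul_one, one_mul]
    rw [this, map_mul, map_mul, h1, h2]
  | add x y hx hy => rw [map_add, map_add, hx, hy]

end Hom

variable (A S A' Ω : Type u) [CommRing A] [IsLocalRing A] [CommRing S] [IsLocalRing S]
  [Algebra A S] [IsLocalHom (algebraMap A S)] [CommRing A'] [Algebra A A']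
  [Algebra.IsIntegral A A'] [Field Ω] [IsAlgClosed Ω]
  (ι : ResidueField S →+* Ω)

/-- the homomorphisms `A' → Ω` over `A` -/
abbrev HomOver : Type u :=
  {τ : A' →+* Ω // τ.comp (algebraMap A A') = (ι.comp (residue S)).comp (algebraMap A S)}

variable {A S A' Ω ι}

omit [IsLocalRing A] [IsLocalHom (algebraMap A S)] [IsAlgClosed Ω] in
/-- a homomorphism out of `A' ⊗[A] S` which is `ι ∘ residue` on `S` has maximal kernel -/
theorem isMaximal_ker (Φ : A' ⊗[A] S →+* Ω)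
    (hΦ : ∀ s, Φ ((1 : A') ⊗ₜ[A] s) = ι (residue S s)) : (RingHom.ker Φ).IsMaximal := by
  haveI : (RingHom.ker Φ).IsPrime := RingHom.ker_isPrime Φ
  refine Ideal.isMaximal_of_isIntegral_of_isMaximal_comap'
    (Algebra.TensorProduct.includeRight : S →ₐ[A] A' ⊗[A] S).toRingHom
    (TensorMax.isIntegral_includeRight A S A') _ ?_
  have : (RingHom.ker Φ).comap (Algebra.TensorProduct.includeRight :
      S →ₐ[A] A' ⊗[A] S).toRingHom = maximalIdeal S := by
    ext s
    rw [Ideal.mem_comap, RingHom.mem_ker]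
    change Φ ((1 : A') ⊗ₜ[A] s) = 0 ↔ _
    rw [hΦ, map_eq_zero_iff _ ι.injective, residue_eq_zero_iff]
  rw [this]
  exact maximalIdeal.isMaximal S

variable (A S A' Ω ι)

/-- the tensor homomorphism attached to `τ` -/
noncomputable def tensorHom (τ : HomOver A S A' Ω ι) : A' ⊗[A] S →+* Ω :=
  (exists_tensor_ringHom τ.1 (ι.comp (residue S)) τ.2).choose

omit [IsLocalRing A] [IsLocalHom (algebraMap A S)] [Algebra.IsIntegral A A'] [IsAlgClosed Ω] in
theorem tensorHom_left (τ : HomOver A S A' Ω ι) (b : A') :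
    tensorHom A S A' Ω ι τ (b ⊗ₜ[A] (1 : S)) = τ.1 b :=
  (exists_tensor_ringHom τ.1 (ι.comp (residue S)) τ.2).choose_spec.1 b

omit [IsLocalRing A] [IsLocalHom (algebraMap A S)] [Algebra.IsIntegral A A'] [IsAlgClosed Ω] in
theorem tensorHom_right (τ : HomOver A S A' Ω ι) (s : S) :
    tensorHom A S A' Ω ι τ ((1 : A') ⊗ₜ[A] s) = ι (residue S s) :=
  (exists_tensor_ringHom τ.1 (ι.comp (residue S)) τ.2).choose_spec.2 s

/-- the maximal ideal attached to `τ` -/
noncomputable def toMax (τ : HomOver A S A' Ω ι) : MaximalSpectrum (A' ⊗[A] S) :=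
  ⟨RingHom.ker (tensorHom A S A' Ω ι τ), isMaximal_ker _ (tensorHom_right A S A' Ω ι τ)⟩

variable (q : ℕ) [ExpChar Ω q]
  (hpi : ∀ x : Ω, ∃ (n : ℕ) (s : S), x ^ q ^ n = ι (residue S s))

include hpi in
theorem toMax_injective : Function.Injective (toMax A S A' Ω ι) := by
  intro τ₁ τ₂ h
  have hker : RingHom.ker (tensorHom A S A' Ω ι τ₁) = RingHom.ker (tensorHom A S A' Ω ι τ₂) :=
    congrArg MaximalSpectrum.asIdeal h
  set Φ₁ := tensorHom A S A' Ω ι τ₁ with hΦ₁
  set Φ₂ := tensorHom A S A' Ω ι τ₂ with hΦ₂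
  have key : ∀ t, Φ₁ t = Φ₂ t := by
    intro t
    obtain ⟨n, s, hs⟩ := hpi (Φ₁ t)
    have h1 : t ^ q ^ n - (1 : A') ⊗ₜ[A] s ∈ RingHom.ker Φ₁ := by
      rw [RingHom.mem_ker, map_sub, map_pow, hs, hΦ₁, tensorHom_right, sub_self]
    rw [hker, RingHom.mem_ker, map_sub, map_pow, hΦ₂, tensorHom_right, sub_eq_zero, ← hs] at h1
    exact (iterateFrobenius_inj Ω q n (by simpa [iterateFrobenius_def] using h1)).symm
  apply Subtype.ext
  ext b
  rw [← tensorHom_left A S A' Ω ι τ₁, ← tensorHom_left A S A' Ω ι τ₂]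
  exact key _

theorem toMax_surjective : Function.Surjective (toMax A S A' Ω ι) := by
  intro M
  haveI hM : M.asIdeal.IsMaximal := M.isMaximal
  letI : Algebra S (A' ⊗[A] S) := Algebra.TensorProduct.rightAlgebra
  haveI : Algebra.IsIntegral S (A' ⊗[A] S) := ⟨TensorMax.isIntegral_includeRight A S A'⟩
  haveI : M.asIdeal.LiesOver (maximalIdeal S) :=
    ⟨(TensorMax.comap_includeRight_eq A S A' M.asIdeal).symm⟩
  letI : Field ((A' ⊗[A] S) ⧸ M.asIdeal) := Ideal.Quotient.field M.asIdeal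
  letI : Algebra (ResidueField S) ((A' ⊗[A] S) ⧸ M.asIdeal) :=
    Ideal.Quotient.algebraOfLiesOver M.asIdeal (maximalIdeal S)
  haveI : Algebra.IsIntegral (ResidueField S) ((A' ⊗[A] S) ⧸ M.asIdeal) :=
    Ideal.Quotient.algebra_isIntegral_of_liesOver M.asIdeal (maximalIdeal S)
  letI : Algebra (ResidueField S) Ω := ι.toAlgebra
  let φ : ((A' ⊗[A] S) ⧸ M.asIdeal) →ₐ[ResidueField S] Ω := IsAlgClosed.lift
  let Ψ : A' ⊗[A] S →+* Ω := φ.toRingHom.comp (Ideal.Quotient.mk M.asIdeal)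
  have hΨS : ∀ s : S, Ψ ((1 : A') ⊗ₜ[A] s) = ι (residue S s) := by
    intro s
    have h1 : Ideal.Quotient.mk M.asIdeal ((1 : A') ⊗ₜ[A] s) =
        algebraMap (ResidueField S) ((A' ⊗[A] S) ⧸ M.asIdeal) (residue S s) := rfl
    change φ (Ideal.Quotient.mk M.asIdeal ((1 : A') ⊗ₜ[A] s)) = _
    rw [h1, φ.commutes]
    rfl
  let τ : HomOver A S A' Ω ι := ⟨Ψ.comp (Algebra.TensorProduct.includeLeft :
      A' →ₐ[A] A' ⊗[A] S).toRingHom, by
    ext a
    simp only [RingHom.comp_apply]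
    have h2 : (Algebra.TensorProduct.includeLeft : A' →ₐ[A] A' ⊗[A] S).toRingHom
        (algebraMap A A' a) = (1 : A') ⊗ₜ[A] (algebraMap A S a) := by
      change (algebraMap A A' a) ⊗ₜ[A] (1 : S) = _
      rw [Algebra.algebraMap_eq_smul_one, Algebra.algebraMap_eq_smul_one,
        TensorProduct.smul_tmul]
    rw [h2, hΨS]⟩
  refine ⟨τ, ?_⟩
  apply MaximalSpectrum.ext
  change RingHom.ker (tensorHom A S A' Ω ι τ) = M.asIdeal
  have heq : tensorHom A S A' Ω ι τ = Ψ := by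
    apply tensor_ringHom_ext
    · intro b
      rw [tensorHom_left]
      rfl
    · intro s
      rw [tensorHom_right, hΨS]
  rw [heq]
  ext t
  rw [RingHom.mem_ker]
  change φ (Ideal.Quotient.mk M.asIdeal t) = 0 ↔ _
  have hinj : Function.Injective φ := φ.toRingHom.injective
  rw [map_eq_zero_iff φ hinj, Ideal.Quotient.eq_zero_iff_mem]

include hpi in
/-- **Maximal ideals of `A' ⊗[A] S` correspond to homomorphisms `A' → Ω` over `A`.** -/
theorem card_maximalSpectrum_eq :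
    ENat.card (MaximalSpectrum (A' ⊗[A] S)) = ENat.card (HomOver A S A' Ω ι) :=
  (ENat.card_congr (Equiv.ofBijective (toMax A S A' Ω ι)
    ⟨toMax_injective A S A' Ω ι q hpi, toMax_surjective A S A' Ω ι⟩)).symm

end Groth.Agent.H14.HensProp.TensorMaxGeom
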