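import Mathlib
import Groth.Prelude.Def_Brnch
import Groth.Prelude.Def_Hensel
import Groth.Agent.H14.HensProp.BranchCount
import Groth.Agent.H14.HensProp.TensorMaxGeom
import Groth.Agent.H38.BranchSum3

/-!
# The number of minimal primes of the strict henselization is the number of geometric branches
-/

set_option autoImplicit false
set_option linter.style.haveILetI false
universe u

namespace Groth.Agent.H14.HensProp.GeomBranchCount

open IsLocalRing TensorProduct Groth.Agent.H3.UnionEtale

variable (A S : Type u) [CommRing A] [IsLocalRing A] [CommRing S] [IsLocalRing S] [Algebra A S]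
  [IsLocalHom (algebraMap A S)]

/-- **S9238.** The strict henselization of `A` has `numGeomBranches A` minimal primes. -/
theorem card_minimalPrimes_strictHenselization [Hensel.IsStrictHenselization A S] :
    ENat.card (minimalPrimes S) = Brnch.numGeomBranches A := by
  have hH : Hensel.IsStrictHenselization A S := inferInstance
  obtain ⟨hU, hff⟩ := Groth.Agent.H3.HensUnion.package (Or.inr hH)
  haveI : Module.Flat A S := hff.toFlat
  by_cases hfin : (minimalPrimes A).Finite
  · rw [Groth.Agent.H38.numGeomBranches_eq_card A hfin]
    -- step 1
    have hbij := NormHensMin.bijOn_minimalPrimes A S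
      (Groth.Agent.H3.HensUnion.map_nilradical (Or.inr hH))
    have e1 : ENat.card (minimalPrimes (CAlg2.normRed A ⊗[A] S)) = ENat.card (minimalPrimes S) :=
      ENat.card_congr hbij.equiv
    -- step 2
    have e2 : ENat.card (minimalPrimes (CAlg2.normRed A ⊗[A] S)) =
        ENat.card (MaximalSpectrum (CAlg2.normRed A ⊗[A] S)) := by
      letI : Algebra S (CAlg2.normRed A ⊗[A] S) := Algebra.TensorProduct.rightAlgebra
      haveI : Algebra.IsIntegral S (CAlg2.normRed A ⊗[A] S) :=
        ⟨TensorMax.isIntegral_includeRight A S (CAlg2.normRed A)⟩
      haveI hSh : HenselianLocalRing S := hH.henselian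
      have hredR : IsReduced (CAlg2.red A) :=
        (Ideal.isRadical_iff_quotient_reduced _).mp (Ideal.radical_isRadical _)
      haveI hfinR : Finite (Groth.Agent.H38.MinPrime (CAlg2.red A)) :=
        Groth.Agent.H38.finite_minPrime_red A hfin
      have hnorm : ∀ (p : Ideal (CAlg2.normRed A)) [p.IsPrime],
          IsDomain (Localization.AtPrime p) ∧ IsIntegrallyClosed (Localization.AtPrime p) := by
        intro p hp
        exact Groth.Agent.H38.localization_integralClosure (A := CAlg2.red A) ⟨p, hp⟩
      have hUT : IsUnion (CAlg2.normRed A) (CAlg2.normRed A ⊗[A] S) :=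
        StrictUni.isUnion_baseChange A S (CAlg2.normRed A) hU
      exact IntHensMax.card_minimalPrimes_eq S (CAlg2.normRed A ⊗[A] S)
        (fun M _ => LocUnionDomain.isDomain_localization (CAlg2.normRed A)
          (CAlg2.normRed A ⊗[A] S) hUT hnorm M)
    -- step 3: the residue field data
    have hsc : IsSepClosure (ResidueField A) (ResidueField S) := hH.isSepClosure
    haveI : IsSepClosed (ResidueField S) := hsc.sep_closed
    haveI : Algebra.IsSeparable (ResidueField A) (ResidueField S) := hsc.separable
    haveI : Algebra.IsAlgebraic (ResidueField A) (ResidueField S) := inferInstance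
    let ι : ResidueField S →ₐ[ResidueField A] AlgebraicClosure (ResidueField A) :=
      IsAlgClosed.lift
    letI : Algebra (ResidueField S) (AlgebraicClosure (ResidueField A)) := ι.toRingHom.toAlgebra
    haveI : IsScalarTower (ResidueField A) (ResidueField S)
        (AlgebraicClosure (ResidueField A)) :=
      IsScalarTower.of_algebraMap_eq (fun x => (ι.commutes x).symm)
    haveI : Algebra.IsAlgebraic (ResidueField S) (AlgebraicClosure (ResidueField A)) :=
      Algebra.IsAlgebraic.tower_top (K := ResidueField A) (ResidueField S)
    haveI : IsPurelyInseparable (ResidueField S) (AlgebraicClosure (ResidueField A)) :=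
      inferInstance
    let q := ringExpChar (ResidueField S)
    haveI : ExpChar (ResidueField S) q := ringExpChar.expChar _
    haveI : ExpChar (AlgebraicClosure (ResidueField A)) q :=
      expChar_of_injective_algebraMap
        (algebraMap (ResidueField S) (AlgebraicClosure (ResidueField A))).injective q
    have hpi : ∀ x : AlgebraicClosure (ResidueField A), ∃ (n : ℕ) (s : S),
        x ^ q ^ n = ι.toRingHom (residue S s) := by
      intro x
      obtain ⟨n, y, hy⟩ := IsPurelyInseparable.pow_mem (ResidueField S) q x
      obtain ⟨s, rfl⟩ := residue_surjective y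
      exact ⟨n, s, hy.symm⟩
    have e3 := TensorMaxGeom.card_maximalSpectrum_eq A S (CAlg2.normRed A)
      (AlgebraicClosure (ResidueField A)) ι.toRingHom q hpi
    have hcan : (ι.toRingHom.comp (residue S)).comp (algebraMap A S) = Brnch.toClosure A := by
      ext a
      unfold Brnch.toClosure
      simp only [RingHom.comp_apply]
      have h1 : residue S (algebraMap A S a) =
          algebraMap (ResidueField A) (ResidueField S) (residue A a) := rfl
      rw [h1]
      exact ι.commutes _
    have e4 : ENat.card (TensorMaxGeom.HomOver A S (CAlg2.normRed A)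
        (AlgebraicClosure (ResidueField A)) ι.toRingHom) =
        ENat.card (Groth.Agent.H38.ClosureHom A) :=
      ENat.card_congr (Equiv.subtypeEquivRight (fun τ => by rw [hcan]))
    rw [← e1, e2, e3, e4]
  · unfold Brnch.numGeomBranches
    rw [if_neg hfin, ENat.card_eq_top]
    exact Set.infinite_coe_iff.mpr (BranchCount.infinite_minimalPrimes A S hfin)

end Groth.Agent.H14.HensProp.GeomBranchCount
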