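import Mathlib
import Groth.Prelude.Def_Brnch
import Groth.Prelude.Def_Hens2
import Groth.Agent.H14.HensProp.EtNbhdCount
import Groth.Agent.H14.HensProp.EtNbhdFlat
import Groth.Agent.H14.HensProp.GeomBranchCount
import Groth.Agent.H3.StrictHensMain

/-!
# The number of (geometric) branches at a point as a supremum over étale neighbourhoods
-/

set_option autoImplicit false
set_option linter.style.haveILetI false
universe u

namespace Groth.Agent.H14.HensProp.BranchSup

open AlgebraicGeometry CategoryTheory IsLocalRing TopologicalSpace TensorProduct Opposite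
open Groth.Agent.H3.UnionEtale

theorem encard_le_of_forall_finset {α : Type*} (s : Set α) (c : ℕ∞)
    (h : ∀ F : Finset α, (F : Set α) ⊆ s → (F.card : ℕ∞) ≤ c) : s.encard ≤ c := by
  by_cases hs : s.Finite
  · rw [hs.encard_eq_coe_toFinset_card]
    exact h hs.toFinset (by simp)
  · have : c = ⊤ := by
      rw [ENat.eq_top_iff_forall_ge]
      intro n
      obtain ⟨t, hts, htn⟩ := (Set.not_finite.mp hs).exists_subset_card_eq n
      rw [← htn]
      exact h t hts
    rw [this]
    exact le_top

/-- **S9753.** -/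
theorem numGeomBranchesAt_eq (X : Scheme.{u}) (x : X) :
    Brnch.numGeomBranchesAt X x =
      ⨆ (U : Scheme.{u}) (g : U ⟶ X) (u : U) (_ : Etale g ∧ g u = x),
        {Z : Set ↑U | Z ∈ irreducibleComponents ↑U ∧ u ∈ Z}.encard := by
  apply le_antisymm
  · have hSH := Groth.Agent.H3.SH.isStrictHenselization (X.presheaf.stalk x)
    haveI := hSH
    obtain ⟨hU, hff⟩ := Groth.Agent.H3.HensUnion.package (Or.inr hSH)
    haveI : Module.Flat (X.presheaf.stalk x) (Groth.Agent.H3.SH.S (X.presheaf.stalk x)) :=
      hff.toFlat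
    unfold Brnch.numGeomBranchesAt
    rw [← GeomBranchCount.card_minimalPrimes_strictHenselization (X.presheaf.stalk x)
      (Groth.Agent.H3.SH.S (X.presheaf.stalk x)), ENat.card_coe_set_eq]
    apply encard_le_of_forall_finset
    intro F hF
    obtain ⟨U, g, u, hg, hgu, -, hcard⟩ := EtNbhdCount.exists_etaleNbhd X x
      (Groth.Agent.H3.SH.S (X.presheaf.stalk x)) hU F (fun P hP => hF (Finset.mem_coe.mpr hP))
    exact hcard.trans (le_iSup_of_le U (le_iSup_of_le g (le_iSup_of_le u
      (le_iSup_of_le ⟨hg, hgu⟩ le_rfl))))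
  · refine iSup_le fun U => iSup_le fun g => iSup_le fun u => iSup_le ?_
    rintro ⟨hg, rfl⟩
    have hSH := Groth.Agent.H3.SH.isStrictHenselization (X.presheaf.stalk (g u))
    haveI := hSH
    obtain ⟨hU, hff⟩ := Groth.Agent.H3.HensUnion.package (Or.inr hSH)
    haveI : Module.Flat (X.presheaf.stalk (g u))
      (Groth.Agent.H3.SH.S (X.presheaf.stalk (g u))) := hff.toFlat
    haveI : IsSepClosed (ResidueField (Groth.Agent.H3.SH.S (X.presheaf.stalk (g u)))) :=
      hSH.isSepClosure.sep_closed
    unfold Brnch.numGeomBranchesAt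
    rw [← GeomBranchCount.card_minimalPrimes_strictHenselization (X.presheaf.stalk (g u))
      (Groth.Agent.H3.SH.S (X.presheaf.stalk (g u))), ENat.card_coe_set_eq]
    exact EtNbhdFlat.encard_components_le_of_isSepClosed g u _ hSH.henselian

/-- **S9752.** -/
theorem numBranchesAt_eq (X : Scheme.{u}) (x : X) :
    Brnch.numBranchesAt X x =
      ⨆ (U : Scheme.{u}) (g : U ⟶ X) (u : U) (_ : Hens2.IsEtaleNbhd g u x),
        {Z : Set ↑U | Z ∈ irreducibleComponents ↑U ∧ u ∈ Z}.encard := by
  apply le_antisymm
  · have hS := Groth.Agent.H3.HensLocal.isPairHenselization_Lim (X.presheaf.stalk x)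
    haveI := Groth.Agent.H3.HensLocal.isLocalRing hS
    haveI := Groth.Agent.H3.HensLocal.isLocalHom hS
    have hH := Groth.Agent.H3.HensLocal.isHenselization hS
    haveI := hH
    obtain ⟨hU, hff⟩ := Groth.Agent.H3.HensUnion.package (Or.inl hH)
    haveI : Module.Flat (X.presheaf.stalk x) (Groth.Agent.H3.HensTower.Lim (X.presheaf.stalk x)
      (maximalIdeal (X.presheaf.stalk x))) := hff.toFlat
    unfold Brnch.numBranchesAt
    rw [← BranchCount.card_minimalPrimes_henselization (X.presheaf.stalk x)
      (Groth.Agent.H3.HensTower.Lim (X.presheaf.stalk x) (maximalIdeal (X.presheaf.stalk x))),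
      ENat.card_coe_set_eq]
    apply encard_le_of_forall_finset
    intro F hF
    obtain ⟨U, g, u, hg, hgu, hres, hcard⟩ := EtNbhdCount.exists_etaleNbhd X x
      (Groth.Agent.H3.HensTower.Lim (X.presheaf.stalk x) (maximalIdeal (X.presheaf.stalk x)))
      hU F (fun P hP => hF (Finset.mem_coe.mpr hP))
    have hbij : Function.Bijective (g.residueFieldMap u) := by
      apply hres
      intro b
      obtain ⟨a₀, ha₀⟩ := Groth.Agent.H3.PairHens.exists_sub_mem hS b
      rw [← Groth.Agent.H3.HensLocal.maximalIdeal_eq hS] at ha₀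
      exact ⟨a₀, ha₀⟩
    exact hcard.trans (le_iSup_of_le U (le_iSup_of_le g (le_iSup_of_le u
      (le_iSup_of_le ⟨hg, hgu, hbij⟩ le_rfl))))
  · refine iSup_le fun U => iSup_le fun g => iSup_le fun u => iSup_le ?_
    rintro ⟨hg, rfl, hres⟩
    have hS := Groth.Agent.H3.HensLocal.isPairHenselization_Lim (X.presheaf.stalk (g u))
    haveI := Groth.Agent.H3.HensLocal.isLocalRing hS
    haveI := Groth.Agent.H3.HensLocal.isLocalHom hS
    have hH := Groth.Agent.H3.HensLocal.isHenselization hS
    haveI := hH
    obtain ⟨hU, hff⟩ := Groth.Agent.H3.HensUnion.package (Or.inl hH)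
    haveI : Module.Flat (X.presheaf.stalk (g u))
      (Groth.Agent.H3.HensTower.Lim (X.presheaf.stalk (g u))
        (maximalIdeal (X.presheaf.stalk (g u)))) := hff.toFlat
    unfold Brnch.numBranchesAt
    rw [← BranchCount.card_minimalPrimes_henselization (X.presheaf.stalk (g u))
      (Groth.Agent.H3.HensTower.Lim (X.presheaf.stalk (g u))
        (maximalIdeal (X.presheaf.stalk (g u)))), ENat.card_coe_set_eq]
    exact EtNbhdFlat.encard_components_le_of_bijective g u hres _ hH.henselian

end Groth.Agent.H14.HensProp.BranchSup
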