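import Mathlib
import Groth.Prelude.Def_Brnch
import Groth.Prelude.Def_Hensel
import Groth.Agent.H14.HensProp.HensComplBranch
import Groth.Agent.H14.HensProp.GeomBranchCount
import Groth.Agent.H14.HensProp.Strict
import Groth.Agent.H78.MinPrimeFlat
import Groth.Agent.H3.UnionEtaleProps

/-!
# From the henselization to the strict henselization
-/

set_option autoImplicit false
set_option linter.style.haveILetI false
universe u

namespace Groth.Agent.H14.HensProp.HhToHsh

open IsLocalRing TensorProduct Groth.Agent.H3.UnionEtale

section Tower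

variable {A B C : Type u} [CommRing A] [CommRing B] [CommRing C] [Algebra A B] [Algebra A C]
  [Algebra B C] [IsScalarTower A B C]

/-- a union of étale images over `A` is one over any intermediate ring -/
theorem isUnion_of_tower (h : IsUnion A C) : IsUnion B C := by
  intro x
  obtain ⟨A', _, _, hN, φ, hφ⟩ := h x
  refine ⟨B ⊗[A] A', _, _, inferInstance,
    Algebra.TensorProduct.lift (Algebra.ofId B C) φ (fun _ _ => Commute.all _ _), ?_⟩
  intro y hy
  obtain ⟨a, ha⟩ := hφ hy
  exact ⟨1 ⊗ₜ a, by simp [ha]⟩

end Tower

section Radical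

variable {B C : Type u} [CommRing B] [CommRing C] [Algebra B C] [Module.Flat B C] [IsLocalRing C]

/-- the extension of a radical ideal to a flat local union of étale images is radical -/
theorem isRadical_map (h : IsUnion B C) (q : Ideal B) (hq : q.IsRadical)
    (hne : q.map (algebraMap B C) ≠ ⊤) : (q.map (algebraMap B C)).IsRadical := by
  haveI : IsReduced (B ⧸ q) := (Ideal.isRadical_iff_quotient_reduced q).mp hq
  have hU : IsUnion (B ⧸ q) ((B ⧸ q) ⊗[B] C) := StrictUni.isUnion_baseChange B C (B ⧸ q) h
  let e := Algebra.TensorProduct.quotIdealMapEquivQuotTensor C q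
  haveI : Nontrivial (C ⧸ q.map (algebraMap B C)) := Ideal.Quotient.nontrivial_iff.mpr hne
  haveI : IsLocalRing (C ⧸ q.map (algebraMap B C)) :=
    IsLocalRing.of_surjective' (Ideal.Quotient.mk _) Ideal.Quotient.mk_surjective
  haveI : IsLocalRing ((B ⧸ q) ⊗[B] C) := e.toRingEquiv.isLocalRing
  haveI : IsReduced ((B ⧸ q) ⊗[B] C) := Groth.Agent.H3.UnionEtale.isReduced hU
  haveI : IsReduced (C ⧸ q.map (algebraMap B C)) :=
    isReduced_of_injective e.toRingEquiv.toRingHom e.injective
  exact (Ideal.isRadical_iff_quotient_reduced _).mpr inferInstance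

end Radical

end Groth.Agent.H14.HensProp.HhToHsh
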