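import Mathlib
import Groth.Prelude.Def_Brnch
import Groth.Prelude.Def_Hensel
import Groth.Agent.H14.HensProp.HhToHsh
import Groth.Agent.H46.GeomBranch
import Groth.Agent.H38.GeomBranch3

/-!
# Minimal primes of the strict henselization generated by their contractions to the henselization
-/

set_option autoImplicit false
set_option linter.style.haveILetI false
universe u

namespace Groth.Agent.H14.HensProp.HhToHsh

open IsLocalRing TensorProduct Groth.Agent.H3.UnionEtale

variable (A Ah Ash : Type u) [CommRing A] [IsLocalRing A]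
  [CommRing Ah] [IsLocalRing Ah] [Algebra A Ah] [IsLocalHom (algebraMap A Ah)]
  [Hensel.IsHenselization A Ah]
  [CommRing Ash] [IsLocalRing Ash] [Algebra A Ash] [IsLocalHom (algebraMap A Ash)]
  [Hensel.IsStrictHenselization A Ash] [Algebra Ah Ash] [IsScalarTower A Ah Ash]

/-- the maximal ideal of the henselization is generated by the one of `A` -/
theorem map_maximalIdeal_henselization :
    (maximalIdeal A).map (algebraMap A Ah) = maximalIdeal Ah := by
  apply le_antisymm
  · exact IsLocalRing.map_maximalIdeal_le (algebraMap A Ah)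
  · intro s hs
    obtain ⟨a, ha⟩ := BranchCount.exists_sub_mem A Ah s
    have hle : (maximalIdeal A).map (algebraMap A Ah) ≤ maximalIdeal Ah :=
      IsLocalRing.map_maximalIdeal_le (algebraMap A Ah)
    have h1 : algebraMap A Ah a ∈ maximalIdeal Ah := by
      have := (maximalIdeal Ah).sub_mem hs (hle ha)
      simpa using this
    have h2 : a ∈ maximalIdeal A := by
      rw [mem_maximalIdeal, mem_nonunits_iff] at h1 ⊢
      intro hu
      exact h1 (hu.map _)
    have h3 : s = (s - algebraMap A Ah a) + algebraMap A Ah a := by ring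
    rw [h3]
    exact Ideal.add_mem _ ha (Ideal.mem_map_of_mem _ h2)

omit [Hensel.IsStrictHenselization A Ash] in
include A in
theorem isLocalHom_algebraMap : IsLocalHom (algebraMap Ah Ash) := by
  refine ((IsLocalRing.local_hom_TFAE (algebraMap Ah Ash)).out 0 2).mpr ?_
  rw [← map_maximalIdeal_henselization A Ah, Ideal.map_map,
    ← IsScalarTower.algebraMap_eq A Ah Ash]
  exact IsLocalRing.map_maximalIdeal_le (algebraMap A Ash)

omit [IsLocalRing Ah] [IsLocalHom (algebraMap A Ah)] [Hensel.IsHenselization A Ah] in
include A in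
theorem isUnion_algebraMap : IsUnion Ah Ash :=
  isUnion_of_tower (A := A)
    (Groth.Agent.H3.HensUnion.package (R := A) (S := Ash) (Or.inr inferInstance)).1

include A in
theorem flat_algebraMap : Module.Flat Ah Ash := by
  have h1 := Groth.Agent.H3.HensUnion.package (R := A) (S := Ah) (Or.inl inferInstance)
  have h2 := Groth.Agent.H3.HensUnion.package (R := A) (S := Ash) (Or.inr inferInstance)
  haveI : Module.Flat A Ash := h2.2.toFlat
  exact h1.1.flat_of_flat Ash

include A in
theorem faithfullyFlat_algebraMap : Module.FaithfullyFlat Ah Ash := by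
  haveI := flat_algebraMap A Ah Ash
  haveI := isLocalHom_algebraMap A Ah Ash
  exact Module.FaithfullyFlat.of_flat_of_isLocalHom

include A in
/-- every minimal prime of `A^sh` is generated by its contraction to `A^h` iff contraction is
injective on minimal primes -/
theorem forall_eq_map_comap_iff_injOn :
    (∀ Q ∈ minimalPrimes Ash, Q = Ideal.map (algebraMap Ah Ash) (Q.comap (algebraMap Ah Ash))) ↔
      Set.InjOn (Ideal.comap (algebraMap Ah Ash)) (minimalPrimes Ash) := by
  haveI := flat_algebraMap A Ah Ash
  haveI := isLocalHom_algebraMap A Ah Ash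
  haveI := faithfullyFlat_algebraMap A Ah Ash
  constructor
  · intro h Q₁ hQ₁ Q₂ hQ₂ heq
    rw [h Q₁ hQ₁, h Q₂ hQ₂, heq]
  · intro hinj Q hQ
    haveI : Q.IsPrime := hQ.1.1
    have hq : Q.comap (algebraMap Ah Ash) ∈ minimalPrimes Ah :=
      Groth.Agent.H78.MinPrimeFlat.under_mem_minimalPrimes (R := Ah) (S := Ash) hQ
    have hle : (Q.comap (algebraMap Ah Ash)).map (algebraMap Ah Ash) ≤ Q := Ideal.map_comap_le
    have hne : (Q.comap (algebraMap Ah Ash)).map (algebraMap Ah Ash) ≠ ⊤ := fun h =>
      (inferInstance : Q.IsPrime).ne_top (top_le_iff.mp (h ▸ hle))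
    haveI : (Q.comap (algebraMap Ah Ash)).IsPrime := Ideal.comap_isPrime _ Q
    have hrad := isRadical_map (isUnion_algebraMap A Ah Ash) (Q.comap (algebraMap Ah Ash))
      (Ideal.IsPrime.isRadical inferInstance) hne
    rw [← hrad.radical, ← Ideal.sInf_minimalPrimes]
    apply le_antisymm
    · refine le_sInf fun P hP => ?_
      obtain ⟨hPmin, hPq⟩ := HensComplBranch.mem_minimalPrimes_of_mem_minimalPrimes_map hq hP
      rw [hinj hPmin hQ hPq]
    · obtain ⟨P, hP, hPQ⟩ := Ideal.exists_minimalPrimes_le hle
      exact (sInf_le hP).trans hPQ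

/-- for a surjection out of a finite type, injectivity is equality of cardinalities -/
theorem injective_iff_card_eq {α β : Type*} [Finite α] (f : α → β) (hf : Function.Surjective f) :
    Function.Injective f ↔ ENat.card α = ENat.card β := by
  haveI : Finite β := Finite.of_surjective f hf
  constructor
  · intro hinj
    exact ENat.card_congr (Equiv.ofBijective f ⟨hinj, hf⟩)
  · intro hcard
    have hle : Nat.card α ≤ Nat.card β := by
      have h1 := congrArg ENat.toNat hcard
      rw [ENat.card_eq_coe_natCard, ENat.card_eq_coe_natCard] at h1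
      simp only [ENat.toNat_natCast] at h1
      exact h1.le
    exact (hf.bijective_of_nat_card_le hle).1

/-- every minimal prime of `A^sh` is generated by its contraction to `A^h` iff the numbers of
geometric branches and of branches agree -/
theorem forall_eq_map_comap_iff_card [IsNoetherianRing A] :
    (∀ Q ∈ minimalPrimes Ash, Q = Ideal.map (algebraMap Ah Ash) (Q.comap (algebraMap Ah Ash))) ↔
      Brnch.numGeomBranches A = Brnch.numBranches A := by
  haveI := flat_algebraMap A Ah Ash
  haveI := isLocalHom_algebraMap A Ah Ash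
  haveI := faithfullyFlat_algebraMap A Ah Ash
  rw [forall_eq_map_comap_iff_injOn A Ah Ash,
    ← GeomBranchCount.card_minimalPrimes_strictHenselization A Ash,
    ← BranchCount.card_minimalPrimes_henselization A Ah]
  haveI : IsNoetherianRing Ash := (isNoetherianRing_iff_of_isStrictHenselization A Ash).mp inferInstance
  have hfinT : (minimalPrimes Ash).Finite := minimalPrimes.finite_of_isNoetherianRing _
  let f : minimalPrimes Ash → minimalPrimes Ah := fun P =>
    ⟨P.1.comap (algebraMap Ah Ash),
      Groth.Agent.H78.MinPrimeFlat.under_mem_minimalPrimes (R := Ah) (S := Ash) P.2⟩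
  have hf : Function.Surjective f := by
    rintro ⟨q, hq⟩
    obtain ⟨P, hP, hPq⟩ := BranchCount.exists_minimalPrimes_comap_eq Ah Ash q hq
    exact ⟨⟨P, hP⟩, Subtype.ext hPq⟩
  haveI : Finite (minimalPrimes Ash) := hfinT.to_subtype
  rw [← injective_iff_card_eq f hf]
  constructor
  · intro h P₁ P₂ heq
    exact Subtype.ext (h P₁.2 P₂.2 (congrArg Subtype.val heq))
  · intro h P₁ hP₁ P₂ hP₂ heq
    have := @h ⟨P₁, hP₁⟩ ⟨P₂, hP₂⟩ (Subtype.ext heq)
    exact congrArg Subtype.val this

omit [IsLocalRing A] in
/-- transporting the pure inseparability condition along a ring isomorphism -/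
theorem transport_aux {B B' : Type u} [CommRing B] [CommRing B'] (f : A →+* B) (f' : A →+* B')
    (E : B ≃+* B') (hE : ∀ a, E (f a) = f' a)
    (h : ∀ (M : Ideal B) [M.IsMaximal], ∀ x : B ⧸ M, ∃ n : ℕ,
      x ^ (ringExpChar (B ⧸ M)) ^ n ∈ ((Ideal.Quotient.mk M).comp f).range) :
    ∀ (M' : Ideal B') [M'.IsMaximal], ∀ x : B' ⧸ M', ∃ n : ℕ,
      x ^ (ringExpChar (B' ⧸ M')) ^ n ∈ ((Ideal.Quotient.mk M').comp f').range := by
  intro M' hM' x'
  haveI hM : (M'.comap (E : B →+* B')).IsMaximal :=
    Ideal.comap_isMaximal_of_surjective (E : B →+* B') E.surjective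
  have hmap : M' = (M'.comap (E : B →+* B')).map (E : B →+* B') :=
    (Ideal.map_comap_of_surjective (E : B →+* B') E.surjective M').symm
  let φ : B ⧸ M'.comap (E : B →+* B') ≃+* B' ⧸ M' := Ideal.quotientEquiv _ _ E hmap
  have hφ : ∀ b : B, φ (Ideal.Quotient.mk _ b) = Ideal.Quotient.mk M' (E b) := fun b => rfl
  have hchar : ringExpChar (B' ⧸ M') = ringExpChar (B ⧸ M'.comap (E : B →+* B')) := by
    haveI := ringExpChar.expChar (B ⧸ M'.comap (E : B →+* B'))
    haveI : ExpChar (B' ⧸ M') (ringExpChar (B ⧸ M'.comap (E : B →+* B'))) :=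
      expChar_of_injective_ringHom (f := φ.toRingHom) φ.injective _
    exact ringExpChar.eq _ _
  obtain ⟨n, a, ha⟩ := h (M'.comap (E : B →+* B')) (φ.symm x')
  refine ⟨n, a, ?_⟩
  rw [hchar]
  have h2 := congrArg φ ha
  rw [map_pow, φ.apply_symm_apply, RingHom.comp_apply, hφ, hE] at h2
  exact h2

variable [IsReduced A]

/-- the ring isomorphism between the integral closure of `A` in its total ring of fractions and
`normRed A`, for reduced `A` -/
noncomputable def normRingEquiv : integralClosure A (FractionRing A) ≃+* CAlg2.normRed A :=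
  (Groth.Agent.H38.normEquiv (A := A)).toRingEquiv

omit [IsLocalRing A] in
theorem normRingEquiv_algebraMap (a : A) :
    normRingEquiv A (algebraMap A (integralClosure A (FractionRing A)) a) =
      ((algebraMap (CAlg2.red A) (CAlg2.normRed A)).comp (Ideal.Quotient.mk (nilradical A))) a := by
  rw [← Groth.Agent.H38.algebraMap_normRed_eq]
  have h1 : (algebraMap A (CAlg2.normRed A) a : CAlg2.normRed A) =
      (algebraMap A (Groth.Agent.H38.normRedSub A) a : Groth.Agent.H38.normRedSub A) :=
    Subtype.ext rfl
  rw [h1]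
  exact (Groth.Agent.H38.normEquiv (A := A)).commutes a

/-- the residue fields of the normalization are purely inseparable over the residue field iff all
`Brnch.Emb` are subsingletons -/
theorem pow_mem_iff_subsingleton_emb :
    (∀ (M : Ideal (integralClosure A (FractionRing A))) [M.IsMaximal],
      ∀ x : (integralClosure A (FractionRing A)) ⧸ M, ∃ n : ℕ,
        x ^ (ringExpChar ((integralClosure A (FractionRing A)) ⧸ M)) ^ n ∈
          ((Ideal.Quotient.mk M).comp
            (algebraMap A (integralClosure A (FractionRing A)))).range) ↔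
      ∀ m' : MaximalSpectrum (CAlg2.normRed A), Subsingleton (Brnch.Emb A m') := by
  constructor
  · intro h m'
    haveI := m'.isMaximal
    rw [(Groth.Agent.H46.emb_nonempty_and_subsingleton_iff A m').2]
    exact transport_aux A _ _ (normRingEquiv A) (normRingEquiv_algebraMap A) h m'.asIdeal
  · intro h
    refine transport_aux A
      ((algebraMap (CAlg2.red A) (CAlg2.normRed A)).comp (Ideal.Quotient.mk (nilradical A)))
      (algebraMap A (integralClosure A (FractionRing A))) (normRingEquiv A).symm (fun a => ?_) ?_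
    · rw [← normRingEquiv_algebraMap A a]
      exact (normRingEquiv A).symm_apply_apply _
    · intro M hM
      exact (Groth.Agent.H46.emb_nonempty_and_subsingleton_iff A ⟨M, hM⟩).2.mp (h ⟨M, hM⟩)

omit [IsReduced A] in
/-- all `Brnch.Emb` are subsingletons iff the numbers of geometric branches and of branches agree,
when the former is finite -/
theorem subsingleton_emb_iff_card (hfin : (minimalPrimes A).Finite)
    (hne : Brnch.numGeomBranches A ≠ ⊤) :
    (∀ m' : MaximalSpectrum (CAlg2.normRed A), Subsingleton (Brnch.Emb A m')) ↔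
      Brnch.numGeomBranches A = Brnch.numBranches A := by
  unfold Brnch.numGeomBranches at hne ⊢
  unfold Brnch.numBranches
  rw [if_pos hfin] at hne ⊢
  rw [if_pos hfin]
  haveI : Finite (Σ m' : MaximalSpectrum (CAlg2.normRed A), Brnch.Emb A m') :=
    ENat.card_lt_top.mp (lt_top_iff_ne_top.mpr hne)
  have hf : Function.Surjective
      (Sigma.fst : (Σ m' : MaximalSpectrum (CAlg2.normRed A), Brnch.Emb A m') → _) := by
    intro m'
    obtain ⟨σ⟩ := (Groth.Agent.H46.emb_nonempty_and_subsingleton_iff A m').1
    exact ⟨⟨m', σ⟩, rfl⟩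
  rw [← injective_iff_card_eq _ hf]
  constructor
  · rintro h ⟨m₁, σ₁⟩ ⟨m₂, σ₂⟩ heq
    have hm : m₁ = m₂ := heq
    subst hm
    haveI := h m₁
    rw [Subsingleton.elim σ₁ σ₂]
  · intro h m'
    refine ⟨fun σ₁ σ₂ => ?_⟩
    have := @h ⟨m', σ₁⟩ ⟨m', σ₂⟩ rfl
    exact eq_of_heq (Sigma.mk.inj this).2

/-- **S16431.** -/
theorem main [IsNoetherianRing A] :
    (∀ (M : Ideal (integralClosure A (FractionRing A))) [M.IsMaximal],
      ∀ x : (integralClosure A (FractionRing A)) ⧸ M, ∃ n : ℕ,
        x ^ (ringExpChar ((integralClosure A (FractionRing A)) ⧸ M)) ^ n ∈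
          ((Ideal.Quotient.mk M).comp
            (algebraMap A (integralClosure A (FractionRing A)))).range) ↔
      (∀ Q ∈ minimalPrimes Ash,
        Q = Ideal.map (algebraMap Ah Ash) (Q.comap (algebraMap Ah Ash))) := by
  have hfin : (minimalPrimes A).Finite := minimalPrimes.finite_of_isNoetherianRing _
  haveI : IsNoetherianRing Ash :=
    (isNoetherianRing_iff_of_isStrictHenselization A Ash).mp inferInstance
  have hne : Brnch.numGeomBranches A ≠ ⊤ := by
    rw [← GeomBranchCount.card_minimalPrimes_strictHenselization A Ash]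
    haveI : Finite (minimalPrimes Ash) :=
      (minimalPrimes.finite_of_isNoetherianRing Ash).to_subtype
    exact (ENat.card_lt_top.mpr inferInstance).ne
  rw [pow_mem_iff_subsingleton_emb A, subsingleton_emb_iff_card A hfin hne,
    forall_eq_map_comap_iff_card A Ah Ash]

end Groth.Agent.H14.HensProp.HhToHsh
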