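import Mathlib

/-!
# The essentially finitely generated subalgebra attached to a finite subset

For an `A`-algebra `D` and a finite subset `s` of `D`, `B₁ A D s` is the localization of `A[s]` at
the elements which are units of `D`; it is an essentially finite type `A`-algebra with an injective
`A`-algebra map `j` to `D` that reflects units.
-/

set_option autoImplicit false
set_option linter.style.haveILetI false
universe u

namespace Groth.Agent.H14.HensProp.LocSub

variable (A D : Type u) [CommRing A] [CommRing D] [Algebra A D] (s : Finset D)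

/-- the subalgebra generated by `s` -/
abbrev B₀ : Subalgebra A D := Algebra.adjoin A (s : Set D)

/-- the elements of `A[s]` which are units of `D` -/
def T₀ : Submonoid (B₀ A D s) := (IsUnit.submonoid D).comap (algebraMap (B₀ A D s) D)

theorem mem_T₀ (c : B₀ A D s) : c ∈ T₀ A D s ↔ IsUnit (c : D) := Iff.rfl

/-- the localization of `A[s]` at the units of `D` -/
abbrev B₁ : Type u := Localization (T₀ A D s)

/-- the canonical map to `D` -/
noncomputable def j : B₁ A D s →ₐ[A] D :=
  IsLocalization.liftAlgHom (M := T₀ A D s) (f := (B₀ A D s).val)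
    (fun y => (mem_T₀ A D s y).mp y.2)

theorem j_algebraMap (c : B₀ A D s) : j A D s (algebraMap (B₀ A D s) (B₁ A D s) c) = (c : D) := by
  simp [j]

theorem j_injective : Function.Injective (j A D s) := by
  change Function.Injective (j A D s).toRingHom
  rw [IsLocalization.injective_iff_map_algebraMap_eq (T₀ A D s)]
  intro x y
  constructor
  · intro h
    exact congrArg (j A D s) h
  · intro h
    change j A D s (algebraMap _ _ x) = j A D s (algebraMap _ _ y) at h
    rw [j_algebraMap, j_algebraMap] at h
    rw [Subtype.ext h]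

theorem isUnit_of_isUnit_j (b : B₁ A D s) (hb : IsUnit (j A D s b)) : IsUnit b := by
  obtain ⟨c, u, rfl⟩ := IsLocalization.exists_mk'_eq (T₀ A D s) b
  have h3 : j A D s (IsLocalization.mk' (B₁ A D s) c u) * ((u : B₀ A D s) : D) = (c : D) := by
    rw [← j_algebraMap, ← j_algebraMap A D s c, ← map_mul, IsLocalization.mk'_spec]
  have h4 : IsUnit (c : D) := by
    rw [← h3]
    exact hb.mul ((mem_T₀ A D s u).mp u.2)
  have h5 : IsUnit (algebraMap (B₀ A D s) (B₁ A D s) c) :=
    IsLocalization.map_units (B₁ A D s) (⟨c, (mem_T₀ A D s c).mpr h4⟩ : T₀ A D s)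
  have h6 : IsLocalization.mk' (B₁ A D s) c u * algebraMap (B₀ A D s) (B₁ A D s) u =
      algebraMap (B₀ A D s) (B₁ A D s) c := IsLocalization.mk'_spec _ _ _
  have h7 : IsUnit (algebraMap (B₀ A D s) (B₁ A D s) (u : B₀ A D s)) :=
    IsLocalization.map_units (B₁ A D s) u
  have h8 : IsUnit (IsLocalization.mk' (B₁ A D s) c u * algebraMap (B₀ A D s) (B₁ A D s) u) := by
    rw [h6]; exact h5
  exact (IsUnit.mul_iff.mp h8).1

theorem exists_j_eq (d : D) (hd : d ∈ B₀ A D s) : ∃ b : B₁ A D s, j A D s b = d :=
  ⟨algebraMap (B₀ A D s) (B₁ A D s) ⟨d, hd⟩, j_algebraMap A D s ⟨d, hd⟩⟩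

theorem exists_j_eq_of_mem (d : D) (hd : d ∈ s) : ∃ b : B₁ A D s, j A D s b = d :=
  exists_j_eq A D s d (Algebra.subset_adjoin (Finset.mem_coe.mpr hd))

instance : Algebra.FiniteType A (B₀ A D s) :=
  (Subalgebra.fg_iff_finiteType (B₀ A D s)).mp (Subalgebra.fg_adjoin_finset s)

instance : Algebra.EssFiniteType A (B₁ A D s) := Algebra.EssFiniteType.comp A (B₀ A D s) (B₁ A D s)

end Groth.Agent.H14.HensProp.LocSub
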