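import Mathlib
import Groth.Agent.H14.HensProp.LocSub

/-!
# Essential Artin–Tate

`A` Noetherian, `B ⊆ C` with `B` local, `C` integral over `B` and essentially of finite type over
`A`.  Then `B` is essentially of finite type over `A`.
-/

set_option autoImplicit false
set_option linter.style.haveILetI false
set_option linter.unusedSectionVars false
universe u

namespace Groth.Agent.H14.HensProp.EssAT

open IsLocalRing

/-- in an integral extension, an element which becomes a unit is a unit -/
theorem isUnit_of_isUnit_algebraMap {R S : Type u} [CommRing R] [CommRing S] [Algebra R S]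
    [Algebra.IsIntegral R S] (hinj : Function.Injective (algebraMap R S)) {t : R}
    (ht : IsUnit (algebraMap R S t)) : IsUnit t := by
  by_contra hnu
  obtain ⟨P, hP, htP⟩ := exists_max_ideal_of_mem_nonunits (mem_nonunits_iff.mpr hnu)
  haveI := hP
  have hker : RingHom.ker (algebraMap R S) ≤ P := by
    rw [(RingHom.injective_iff_ker_eq_bot _).mp hinj]
    exact bot_le
  obtain ⟨Q, hQ, hQP⟩ := Ideal.exists_ideal_over_maximal_of_isIntegral (S := S) P hker
  have h1 : algebraMap R S t ∈ Q := by
    have : t ∈ Q.comap (algebraMap R S) := by rw [hQP]; exact htP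
    exact this
  exact hQ.ne_top (Ideal.eq_top_of_isUnit_mem _ h1 ht)

section Finite

variable (A B C : Type u) [CommRing A] [CommRing B] [CommRing C]
  [Algebra A B] [Algebra B C] [Algebra A C] [IsScalarTower A B C]
  [Algebra.IsIntegral B C] [Algebra.EssFiniteType A C]

include A in
/-- an integral algebra which is essentially of finite type over a smaller ring is finite -/
theorem finite_of_isIntegral_of_essFiniteType : Module.Finite B C := by
  classical
  obtain ⟨σ, hσ⟩ := (Algebra.essFiniteType_iff A C).mp ‹Algebra.EssFiniteType A C›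
  let C₁ : Subalgebra B C := Algebra.adjoin B (σ : Set C)
  have hfg : C₁.toSubmodule.FG :=
    fg_adjoin_of_finite σ.finite_toSet (fun x _ => Algebra.IsIntegral.isIntegral x)
  have hle : ∀ x ∈ Algebra.adjoin A (σ : Set C), x ∈ C₁ := by
    intro x hx
    have h1 : Algebra.adjoin A (σ : Set C) ≤ C₁.restrictScalars A :=
      Algebra.adjoin_le (fun y hy => Algebra.subset_adjoin hy)
    exact h1 hx
  haveI : Algebra.IsIntegral C₁ C := Algebra.IsIntegral.tower_top (R := B)
  have htop : C₁ = ⊤ := by
    rw [eq_top_iff]
    intro x _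
    obtain ⟨t, ht, htu, hxt⟩ := hσ x
    have h1 : IsUnit (⟨t, hle t ht⟩ : C₁) :=
      isUnit_of_isUnit_algebraMap (R := C₁) (S := C) Subtype.val_injective htu
    obtain ⟨w, hw⟩ := h1.exists_right_inv
    have h2 : t * (w : C) = 1 := congrArg Subtype.val hw
    have h3 : x = (x * t) * (w : C) := by rw [mul_assoc, h2, mul_one]
    rw [h3]
    exact C₁.mul_mem (hle _ hxt) w.2
  have : (⊤ : Subalgebra B C).toSubmodule.FG := htop ▸ hfg
  rw [Algebra.top_toSubmodule] at this
  exact ⟨this⟩

end Finite

section MinGen

variable (B C : Type u) [CommRing B] [IsLocalRing B] [AddCommGroup C] [Module B C]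
  [Module.Finite B C]

/-- minimal generators of a finite module over a local ring -/
theorem exists_minimal_generators :
    ∃ (d : ℕ) (c : Fin d → C), Submodule.span B (Set.range c) = ⊤ ∧
      ∀ b : Fin d → B, ∑ i, b i • c i ∈ (maximalIdeal B • ⊤ : Submodule B C) →
        ∀ i, b i ∈ maximalIdeal B := by
  classical
  let m := maximalIdeal B
  let κ := B ⧸ m
  letI : Field κ := Ideal.Quotient.field m
  let V := C ⧸ (m • ⊤ : Submodule B C)
  haveI : Module.Finite κ V := Module.Finite.of_restrictScalars_finite B κ V
  let b := Module.finBasis κ V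
  have hsurj := Submodule.mkQ_surjective (m • ⊤ : Submodule B C)
  let c : Fin (Module.finrank κ V) → C := fun i => (hsurj (b i)).choose
  have hc : ∀ i, Submodule.mkQ (m • ⊤ : Submodule B C) (c i) = b i := fun i => (hsurj (b i)).choose_spec
  refine ⟨Module.finrank κ V, c, ?_, ?_⟩
  · rw [← IsLocalRing.map_mkQ_eq_top, Submodule.map_span, ← Set.range_comp]
    have h1 : (Submodule.mkQ (m • ⊤ : Submodule B C)) ∘ c = b := funext hc
    rw [h1, ← Submodule.restrictScalars_span B κ Ideal.Quotient.mk_surjective, b.span_eq]
    rfl
  · intro f hf i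
    have h1 : Submodule.mkQ (m • ⊤ : Submodule B C) (∑ i, f i • c i) = 0 := by
      rw [Submodule.mkQ_apply, Submodule.Quotient.mk_eq_zero]
      exact hf
    rw [map_sum] at h1
    have h2 : ∑ i, (Ideal.Quotient.mk m (f i)) • b i = 0 := by
      rw [← h1]
      refine Finset.sum_congr rfl fun i _ => ?_
      rw [map_smul, hc]
      rfl
    have h3 := Fintype.linearIndependent_iff.mp b.linearIndependent _ h2 i
    exact Ideal.Quotient.eq_zero_iff_mem.mp h3

end MinGen

end Groth.Agent.H14.HensProp.EssAT
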