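import Mathlib
import Groth.Agent.H14.HensProp.LocSub
import Groth.Agent.H14.HensProp.EssAT

/-!
# Essential Artin–Tate: main theorem
-/

set_option autoImplicit false
set_option linter.style.haveILetI false
set_option linter.unusedSectionVars false
universe u

namespace Groth.Agent.H14.HensProp.EssAT

open IsLocalRing

section Main

variable (A B C : Type u) [CommRing A] [CommRing B] [CommRing C]
  [IsNoetherianRing A] [IsLocalRing B] [Algebra A B] [Algebra B C] [Algebra A C]
  [IsScalarTower A B C] [Algebra.IsIntegral B C] [Algebra.EssFiniteType A C]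

theorem mul_mem_smul_top (w y : C) (hy : y ∈ (maximalIdeal B • ⊤ : Submodule B C)) :
    w * y ∈ (maximalIdeal B • ⊤ : Submodule B C) := by
  refine Submodule.smul_induction_on hy ?_ ?_
  · intro r hr n _
    rw [mul_smul_comm]
    exact Submodule.smul_mem_smul hr trivial
  · intro x y hx hy
    rw [mul_add]
    exact add_mem hx hy

/-- **Essential Artin–Tate.** -/
theorem essFiniteType_of_isIntegral (hinj : Function.Injective (algebraMap B C)) :
    Algebra.EssFiniteType A B := by
  classical
  haveI hfin : Module.Finite B C := finite_of_isIntegral_of_essFiniteType A B C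
  obtain ⟨σ, hσ⟩ := (Algebra.essFiniteType_iff A C).mp ‹_›
  obtain ⟨d, c, hspan, hindep⟩ := exists_minimal_generators B C
  have hcoef : ∀ x : C, ∃ f : Fin d → B, ∑ i, f i • c i = x := by
    intro x
    have : x ∈ Submodule.span B (Set.range c) := by rw [hspan]; trivial
    exact (Submodule.mem_span_range_iff_exists_fun B).mp this
  choose γ hγ using hcoef
  -- the finite set of coefficients
  let Sg1 : Finset B :=
    Finset.univ.image (fun q : (Fin d × Fin d) × Fin d => γ (c q.1.1 * c q.1.2) q.2)
  let Sg2 : Finset B := Finset.univ.image (γ 1)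
  let Sg3 : Finset B := σ.biUnion (fun x => Finset.univ.image (γ x))
  let Sg : Finset B := Sg1 ∪ Sg2 ∪ Sg3
  have hSg1 : ∀ i k l, γ (c i * c k) l ∈ Sg := fun i k l =>
    Finset.mem_union_left _ (Finset.mem_union_left _
      (Finset.mem_image.mpr ⟨((i, k), l), Finset.mem_univ _, rfl⟩))
  have hSg2 : ∀ l, γ 1 l ∈ Sg := fun l =>
    Finset.mem_union_left _ (Finset.mem_union_right _ (Finset.mem_image_of_mem _ (Finset.mem_univ l)))
  have hSg3 : ∀ x ∈ σ, ∀ l, γ x l ∈ Sg := fun x hx l =>
    Finset.mem_union_right _ (Finset.mem_biUnion.mpr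
      ⟨x, hx, Finset.mem_image_of_mem _ (Finset.mem_univ l)⟩)
  -- the essentially finite type local subring
  let B₁ := LocSub.B₁ A B Sg
  let j : B₁ →ₐ[A] B := LocSub.j A B Sg
  have hjinj : Function.Injective j := LocSub.j_injective A B Sg
  letI algB₁B : Algebra B₁ B := j.toRingHom.toAlgebra
  letI algB₁C : Algebra B₁ C := ((algebraMap B C).comp j.toRingHom).toAlgebra
  haveI : IsScalarTower B₁ B C := IsScalarTower.of_algebraMap_eq (fun _ => rfl)
  haveI : IsScalarTower A B₁ B := IsScalarTower.of_algebraMap_eq (fun a => (j.commutes a).symm)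
  have htow : ∀ a : A, algebraMap A C a = algebraMap B₁ C (algebraMap A B₁ a) := by
    intro a
    change algebraMap A C a = algebraMap B C (j (algebraMap A B₁ a))
    rw [j.commutes, ← IsScalarTower.algebraMap_apply]
  haveI : IsScalarTower A B₁ C := IsScalarTower.of_algebraMap_eq htow
  have hsmul : ∀ (b : B₁) (x : C), b • x = (j b) • x := by
    intro b x
    rw [Algebra.smul_def, Algebra.smul_def]
    rfl
  let C₂ : Submodule B₁ C := Submodule.span B₁ (Set.range c)
  have hmem : ∀ f : Fin d → B, (∀ i, ∃ b : B₁, j b = f i) → ∑ i, f i • c i ∈ C₂ := by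
    intro f hf
    choose b hb using hf
    have : ∑ i, f i • c i = ∑ i, b i • c i :=
      Finset.sum_congr rfl fun i _ => by rw [hsmul, hb]
    rw [this]
    exact Submodule.sum_mem _ fun i _ => Submodule.smul_mem _ _ (Submodule.subset_span ⟨i, rfl⟩)
  have h1 : (1 : C) ∈ C₂ := by
    rw [← hγ 1]
    exact hmem _ fun l => LocSub.exists_j_eq_of_mem A B Sg _ (hSg2 l)
  have hcc : ∀ i k, c i * c k ∈ C₂ := by
    intro i k
    rw [← hγ (c i * c k)]
    exact hmem _ fun l => LocSub.exists_j_eq_of_mem A B Sg _ (hSg1 i k l)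
  have hσC₂ : ∀ x ∈ σ, x ∈ C₂ := by
    intro x hx
    rw [← hγ x]
    exact hmem _ fun l => LocSub.exists_j_eq_of_mem A B Sg _ (hSg3 x hx l)
  have hmul : ∀ x y, x ∈ C₂ → y ∈ C₂ → x * y ∈ C₂ := by
    intro x y hx hy
    have h := Submodule.mul_mem_mul hx hy
    rw [Submodule.span_mul_span] at h
    refine (Submodule.span_le.mpr ?_) h
    rintro _ ⟨_, ⟨i, rfl⟩, _, ⟨k, rfl⟩, rfl⟩
    exact hcc i k
  let C₂alg : Subalgebra B₁ C := Submodule.toSubalgebra C₂ h1 hmul
  have hadjoin : ∀ x ∈ Algebra.adjoin A (σ : Set C), x ∈ C₂ := by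
    intro x hx
    have h2 : Algebra.adjoin A (σ : Set C) ≤ C₂alg.restrictScalars A :=
      Algebra.adjoin_le (fun y hy => hσC₂ y (Finset.mem_coe.mp hy))
    exact h2 hx
  -- units of `C` in `C₂` are units of `C₂`
  have hinv : ∀ t ∈ C₂, IsUnit t → ∃ w ∈ C₂, t * w = 1 := by
    intro t ht htu
    have hrow : ∀ i, ∃ f : Fin d → B₁, ∑ k, f k • c k = t * c i := fun i =>
      (Submodule.mem_span_range_iff_exists_fun B₁).mp
        (hmul _ _ ht (Submodule.subset_span ⟨i, rfl⟩))
    choose τ hτ using hrow
    let M : Matrix (Fin d) (Fin d) B₁ := Matrix.of τ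
    let MC : Matrix (Fin d) (Fin d) C := M.map (algebraMap B₁ C)
    have hMC : MC.mulVec c = fun i => t * c i := by
      funext i
      rw [← hτ i]
      simp only [Matrix.mulVec, dotProduct, MC, M, Matrix.map_apply, Matrix.of_apply,
        Algebra.smul_def]
    have hdet : IsUnit M.det := by
      apply LocSub.isUnit_of_isUnit_j A B Sg
      by_contra hnu
      have hm : j M.det ∈ maximalIdeal B := (mem_maximalIdeal _).mpr hnu
      let ρ : B₁ →+* ResidueField B := (residue B).comp j.toRingHom
      have hdet0 : (M.map ρ).det = 0 := by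
        have h0 : (M.map ρ).det = ρ M.det := (RingHom.map_det ρ M).symm
        rw [h0]
        exact (residue_eq_zero_iff _).mpr hm
      obtain ⟨v', hv'0, hv'⟩ := Matrix.exists_vecMul_eq_zero_iff.mpr hdet0
      have hlift : ∀ i, ∃ b : B, residue B b = v' i := fun i => residue_surjective (v' i)
      choose v hv using hlift
      have hx : t * ∑ i, v i • c i ∈ (maximalIdeal B • ⊤ : Submodule B C) := by
        have hcalc : t * ∑ i, v i • c i = ∑ k, (∑ i, v i * j (τ i k)) • c k := by
          rw [Finset.mul_sum]
          calc ∑ i, t * v i • c i = ∑ i, v i • ∑ k, τ i k • c k := by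
                refine Finset.sum_congr rfl fun i _ => ?_
                rw [mul_smul_comm, hτ]
            _ = ∑ i, ∑ k, (v i * j (τ i k)) • c k := by
                refine Finset.sum_congr rfl fun i _ => ?_
                rw [Finset.smul_sum]
                refine Finset.sum_congr rfl fun k _ => ?_
                rw [hsmul, mul_smul]
            _ = ∑ k, ∑ i, (v i * j (τ i k)) • c k := Finset.sum_comm
            _ = ∑ k, (∑ i, v i * j (τ i k)) • c k := by
                refine Finset.sum_congr rfl fun k _ => ?_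
                rw [Finset.sum_smul]
        rw [hcalc]
        refine Submodule.sum_mem _ fun k _ => Submodule.smul_mem_smul ?_ trivial
        rw [← residue_eq_zero_iff]
        have h3 := congrFun hv' k
        simp only [Matrix.vecMul, dotProduct, Matrix.map_apply, Pi.zero_apply] at h3
        rw [map_sum]
        rw [← h3]
        refine Finset.sum_congr rfl fun i _ => ?_
        rw [map_mul, hv]
        rfl
      have hx' : ∑ i, v i • c i ∈ (maximalIdeal B • ⊤ : Submodule B C) := by
        obtain ⟨w, hw⟩ := htu.exists_left_inv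
        have h4 : ∑ i, v i • c i = w * (t * ∑ i, v i • c i) := by rw [← mul_assoc, hw, one_mul]
        rw [h4]
        exact mul_mem_smul_top B C w _ hx
      have h5 := hindep v hx'
      apply hv'0
      funext i
      rw [← hv i]
      exact (residue_eq_zero_iff _).mpr (h5 i)
    have hadj : ∀ l, algebraMap B₁ C M.det * c l = t * (MC.adjugate.mulVec c) l := by
      intro l
      have h6 : MC.adjugate.mulVec (MC.mulVec c) = MC.det • c := by
        rw [Matrix.mulVec_mulVec, Matrix.adjugate_mul, Matrix.smul_mulVec, Matrix.one_mulVec]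
      have h7 : MC.det = algebraMap B₁ C M.det := (RingHom.map_det (algebraMap B₁ C) M).symm
      have h8 := congrFun h6 l
      rw [hMC, h7] at h8
      rw [Pi.smul_apply, smul_eq_mul] at h8
      rw [← h8]
      simp only [Matrix.mulVec, dotProduct, Finset.mul_sum]
      refine Finset.sum_congr rfl fun i _ => ?_
      ring
    have hadjmem : ∀ l, (MC.adjugate.mulVec c) l ∈ C₂ := by
      intro l
      simp only [Matrix.mulVec, dotProduct]
      refine Submodule.sum_mem _ fun i _ => ?_
      have h9 : MC.adjugate l i = algebraMap B₁ C (M.adjugate l i) := by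
        have h0 : (M.map (algebraMap B₁ C)).adjugate = M.adjugate.map (algebraMap B₁ C) :=
          (RingHom.map_adjugate (algebraMap B₁ C) M).symm
        change (M.map (algebraMap B₁ C)).adjugate l i = _
        rw [h0]
        rfl
      rw [h9, ← Algebra.smul_def]
      exact Submodule.smul_mem _ _ (Submodule.subset_span ⟨i, rfl⟩)
    obtain ⟨δ, hδ⟩ := hdet.exists_left_inv
    -- `1 = Sg u l • c l`
    obtain ⟨u, hu⟩ := (Submodule.mem_span_range_iff_exists_fun B₁).mp h1
    refine ⟨δ • ∑ l, u l • (MC.adjugate.mulVec c) l, ?_, ?_⟩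
    · exact Submodule.smul_mem _ _ (Submodule.sum_mem _ fun l _ =>
        Submodule.smul_mem _ _ (hadjmem l))
    · have h10 : t * ∑ l, u l • (MC.adjugate.mulVec c) l = algebraMap B₁ C M.det := by
        rw [Finset.mul_sum]
        calc ∑ l, t * u l • (MC.adjugate.mulVec c) l
            = ∑ l, u l • (algebraMap B₁ C M.det * c l) := by
              refine Finset.sum_congr rfl fun l _ => ?_
              rw [mul_smul_comm, hadj]
          _ = algebraMap B₁ C M.det * ∑ l, u l • c l := by
              rw [Finset.mul_sum]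
              refine Finset.sum_congr rfl fun l _ => ?_
              rw [mul_smul_comm]
          _ = algebraMap B₁ C M.det := by rw [hu, mul_one]
      rw [mul_smul_comm, h10, Algebra.smul_def, ← map_mul, hδ, map_one]
  have htop : C₂ = ⊤ := by
    rw [eq_top_iff]
    intro x _
    obtain ⟨t, ht, htu, hxt⟩ := hσ x
    obtain ⟨w, hw, htw⟩ := hinv t (hadjoin t ht) htu
    have h11 : x = (x * t) * w := by rw [mul_assoc, htw, mul_one]
    rw [h11]
    exact hmul _ _ (hadjoin _ hxt) hw
  haveI : Module.Finite B₁ C := ⟨by
    rw [← htop]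
    exact Submodule.fg_span (Set.finite_range c)⟩
  haveI : IsNoetherianRing B₁ := Algebra.EssFiniteType.isNoetherianRing A B₁
  haveI : IsNoetherian B₁ C := isNoetherian_of_isNoetherianRing_of_finite B₁ C
  haveI : Module.Finite B₁ B :=
    Module.Finite.of_injective (IsScalarTower.toAlgHom B₁ B C).toLinearMap hinj
  exact Algebra.EssFiniteType.comp A B₁ B

end Main

end Groth.Agent.H14.HensProp.EssAT
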