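import Mathlib
import Groth.Prelude.Def_Hensel
import Groth.Prelude.Def_EssEt
import Groth.Agent.H3.UnionEtale
import Groth.Agent.H3.EtaleLiftUnique
import Groth.Agent.H78.HensQF.Forward
import Groth.Agent.H67.HenselFinite

/-!
# Essentially étale local algebras over a henselian local ring, and their strict henselization
-/

set_option autoImplicit false
set_option linter.style.haveILetI false
universe u

namespace Groth.Agent.H14.HensProp.EssEtSH

open IsLocalRing Groth.Agent.H3.UnionEtale

section Basic

set_option linter.overlappingInstances false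

variable {A E : Type u} [CommRing A] [IsLocalRing A] [CommRing E] [Algebra A E]

/-- an essentially étale local algebra is a union of étale images -/
theorem isUnion (hE : EGA4loc.IsEssentiallyEtale A E) : IsUnion A E := by
  obtain ⟨C, _, _, q, hq, hEt, -, ⟨e⟩⟩ := hE
  have hU : IsUnion A (Localization.AtPrime q) := by
    intro x
    obtain ⟨c, s, rfl⟩ := IsLocalization.exists_mk'_eq q.primeCompl x
    have hc : ∀ c : C, algebraMap C (Localization.AtPrime q) c ∈
        imageAlg A (Localization.AtPrime q) := fun c =>
      ⟨C, _, _, hEt, IsScalarTower.toAlgHom A C (Localization.AtPrime q), by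
        rintro _ rfl
        exact ⟨c, rfl⟩⟩
    have hs : IsLocalization.mk' (Localization.AtPrime q) (1 : C) s ∈
        imageAlg A (Localization.AtPrime q) := by
      refine InImage.inv (hc s) _ ?_
      rw [← IsLocalization.mk'_one (M := q.primeCompl) (Localization.AtPrime q) (s : C),
        ← IsLocalization.mk'_mul, one_mul, mul_one]
      exact IsLocalization.mk'_self' _
    have : IsLocalization.mk' (Localization.AtPrime q) c s =
        algebraMap C (Localization.AtPrime q) c *
          IsLocalization.mk' (Localization.AtPrime q) (1 : C) s := by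
      rw [← IsLocalization.mk'_one (M := q.primeCompl) (Localization.AtPrime q) c,
        ← IsLocalization.mk'_mul, one_mul, mul_one]
    rw [this]
    exact mul_mem (hc c) hs
  intro x
  obtain ⟨A', _, _, hN, φ, hφ⟩ := hU (e x)
  refine ⟨A', _, _, hN, (e.symm : Localization.AtPrime q →ₐ[A] E).comp φ, ?_⟩
  rintro _ rfl
  obtain ⟨y, hy⟩ := hφ rfl
  exact ⟨y, by simp [hy]⟩

theorem essFiniteType (hE : EGA4loc.IsEssentiallyEtale A E) : Algebra.EssFiniteType A E := by
  obtain ⟨C, _, _, q, hq, hEt, -, ⟨e⟩⟩ := hE
  haveI : Algebra.EssFiniteType C (Localization.AtPrime q) :=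
    Algebra.EssFiniteType.of_isLocalization _ q.primeCompl
  haveI : Algebra.EssFiniteType A (Localization.AtPrime q) :=
    Algebra.EssFiniteType.comp A C _
  exact Algebra.EssFiniteType.of_surjective (e.symm : Localization.AtPrime q →ₐ[A] E)
    e.symm.surjective

theorem formallyUnramified (hE : EGA4loc.IsEssentiallyEtale A E) :
    Algebra.FormallyUnramified A E := by
  obtain ⟨C, _, _, q, hq, hEt, -, ⟨e⟩⟩ := hE
  haveI : Algebra.FormallyUnramified C (Localization.AtPrime q) :=
    Algebra.FormallyUnramified.of_isLocalization q.primeCompl
  haveI : Algebra.FormallyUnramified A (Localization.AtPrime q) :=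
    Algebra.FormallyUnramified.comp A C _
  exact Algebra.FormallyUnramified.of_equiv e.symm

theorem finite [HenselianLocalRing A] (hE : EGA4loc.IsEssentiallyEtale A E) :
    Module.Finite A E := by
  obtain ⟨C, _, _, q, hq, hEt, hqm, ⟨e⟩⟩ := hE
  haveI : q.LiesOver (maximalIdeal A) := ⟨hqm.symm⟩
  haveI : Module.Finite A (Localization.AtPrime q) :=
    Groth.Agent.H78.HensQF.finite_atPrime_of_henselian A C q
  exact Module.Finite.equiv e.symm.toLinearEquiv

end Basic

section Strict

/-- the strict henselization of `A` is a strict henselization of every intermediate local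
`A`-algebra which is essentially of finite type and unramified -/
theorem isStrictHenselization_of_tower
    (A S E : Type u) [CommRing A] [IsLocalRing A] [CommRing S] [IsLocalRing S] [Algebra A S]
    [IsLocalHom (algebraMap A S)] (hS : Hensel.IsStrictHenselization A S)
    [CommRing E] [IsLocalRing E] [Algebra A E] [IsLocalHom (algebraMap A E)]
    [Algebra.EssFiniteType A E] [Algebra.FormallyUnramified A E]
    [Algebra E S] [IsScalarTower A E S] [IsLocalHom (algebraMap E S)] :
    Hensel.IsStrictHenselization E S := by
  haveI : IsScalarTower (ResidueField A) (ResidueField E) (ResidueField S) := by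
    refine IsScalarTower.of_algebraMap_eq fun x => ?_
    obtain ⟨a, rfl⟩ := residue_surjective x
    change residue S (algebraMap A S a) = residue S (algebraMap E S (algebraMap A E a))
    rw [IsScalarTower.algebraMap_apply A E S]
  refine ⟨hS.henselian, ⟨hS.isSepClosure.sep_closed, ?_⟩, ?_⟩
  · haveI := hS.isSepClosure.separable
    exact Algebra.isSeparable_tower_top_of_isSeparable (ResidueField A) (ResidueField E)
      (ResidueField S)
  · intro T _ _ f hf τ hτ
    let fA : A →+* T := f.comp (algebraMap A E)
    haveI : IsLocalHom fA := RingHom.isLocalHom_comp _ _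
    have hτA : τ.comp (ResidueField.map (algebraMap A S)) = ResidueField.map fA := by
      have h1 : ResidueField.map (algebraMap A S) =
          (ResidueField.map (algebraMap E S)).comp (ResidueField.map (algebraMap A E)) := by
        rw [← ResidueField.map_comp]
        congr 1
        exact IsScalarTower.algebraMap_eq A E S
      rw [h1, ← RingHom.comp_assoc, hτ, ← ResidueField.map_comp]
    obtain ⟨g, ⟨hg1, hg2⟩, huniq⟩ := hS.universal T fA τ hτA
    letI : Algebra A T := fA.toAlgebra
    have hgE : g.comp (algebraMap E S) = f := by
      let τ₁ : E →ₐ[A] T := ⟨g.comp (algebraMap E S), fun a => by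
        change g (algebraMap E S (algebraMap A E a)) = fA a
        rw [← IsScalarTower.algebraMap_apply A E S, ← hg1]
        rfl⟩
      let τ₂ : E →ₐ[A] T := ⟨f, fun a => rfl⟩
      have h12 : τ₁ = τ₂ := by
        refine Groth.Agent.H3.EtaleLift.algHom_eq_of_unramified (maximalIdeal T)
          (IsLocalRing.jacobson_eq_maximalIdeal ⊥ bot_ne_top).ge τ₁ τ₂ (fun x => ?_)
        rw [← residue_eq_zero_iff, map_sub, sub_eq_zero]
        change residue T (g (algebraMap E S x)) = residue T (f x)
        rw [hg2]
        have h2 := congrArg (fun φ => φ (residue E x)) hτ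
        simp only [RingHom.comp_apply, ResidueField.map_residue] at h2
        exact h2
      exact congrArg (fun φ : E →ₐ[A] T => (φ : E →+* T)) h12
    refine ⟨g, ⟨hgE, hg2⟩, ?_⟩
    rintro g' ⟨hg'1, hg'2⟩
    refine huniq g' ⟨?_, hg'2⟩
    rw [IsScalarTower.algebraMap_eq A E S, ← RingHom.comp_assoc, hg'1]

end Strict

end Groth.Agent.H14.HensProp.EssEtSH
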