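import Mathlib
import Groth.Prelude.Def_Hensel

/-!
# Pure inseparability of the residue fields of `E ⊗ A'` and embeddings of the separable closure
-/

set_option autoImplicit false
set_option linter.style.haveILetI false
universe u

namespace Groth.Agent.H14.HensProp.EssEtSH

open IsLocalRing IntermediateField

section FieldTheory

variable {A E A' T : Type u} [CommRing A] [IsLocalRing A]
  [CommRing E] [IsLocalRing E] [Algebra A E] [IsLocalHom (algebraMap A E)]
  [CommRing A'] [IsLocalRing A'] [Algebra A A'] [IsLocalHom (algebraMap A A')]
  [CommRing T] (fE : E →+* T) (fA' : A' →+* T)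
  (hcomm : fE.comp (algebraMap A E) = fA'.comp (algebraMap A A'))
  (hintE : fE.IsIntegral) (hintA' : fA'.IsIntegral)

include hcomm hintE hintA' in
/-- if the separable closure `k^s` of `k` in `k'` has `[k^s : k]` embeddings into `κ(E)`, the
residue fields of `T = E ⊗ A'` are purely inseparable over `κ(E)` -/
theorem pow_mem_of_card [Algebra.IsAlgebraic (ResidueField A) (ResidueField A')]
    [FiniteDimensional (ResidueField A) (separableClosure (ResidueField A) (ResidueField A'))]
    (hcard : Nat.card (separableClosure (ResidueField A) (ResidueField A') →ₐ[ResidueField A]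
        ResidueField E) =
      Module.finrank (ResidueField A) (separableClosure (ResidueField A) (ResidueField A')))
    (hgen : ∀ (P : T → Prop), P 0 → (∀ e a, P (fE e * fA' a)) →
      (∀ t₁ t₂, P t₁ → P t₂ → P (t₁ + t₂)) → ∀ t, P t)
    (M : Ideal T) [M.IsMaximal] (x : T ⧸ M) :
    ∃ n : ℕ, x ^ (ringExpChar (T ⧸ M)) ^ n ∈ ((Ideal.Quotient.mk M).comp fE).range := by
  letI : Field (T ⧸ M) := Ideal.Quotient.field M
  have hME : M.comap fE = maximalIdeal E :=
    eq_maximalIdeal (Ideal.isMaximal_comap_of_isIntegral_of_isMaximal' fE hintE M)
  have hMA' : M.comap fA' = maximalIdeal A' :=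
    eq_maximalIdeal (Ideal.isMaximal_comap_of_isIntegral_of_isMaximal' fA' hintA' M)
  let ιL : ResidueField E →+* T ⧸ M :=
    Ideal.Quotient.lift (maximalIdeal E) ((Ideal.Quotient.mk M).comp fE) (fun e he => by
      rw [← hME] at he
      exact Ideal.Quotient.eq_zero_iff_mem.mpr he)
  let ιk' : ResidueField A' →+* T ⧸ M :=
    Ideal.Quotient.lift (maximalIdeal A') ((Ideal.Quotient.mk M).comp fA') (fun a ha => by
      rw [← hMA'] at ha
      exact Ideal.Quotient.eq_zero_iff_mem.mpr ha)
  have hιL : ∀ e : E, ιL (residue E e) = Ideal.Quotient.mk M (fE e) := fun e => rfl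
  have hιk' : ∀ a : A', ιk' (residue A' a) = Ideal.Quotient.mk M (fA' a) := fun a => rfl
  letI : Algebra (ResidueField A) (T ⧸ M) :=
    (ιL.comp (algebraMap (ResidueField A) (ResidueField E))).toAlgebra
  let ιLa : ResidueField E →ₐ[ResidueField A] T ⧸ M := ⟨ιL, fun _ => rfl⟩
  let ιk'a : ResidueField A' →ₐ[ResidueField A] T ⧸ M := ⟨ιk', fun c => by
    obtain ⟨a, rfl⟩ := residue_surjective c
    change ιk' (residue A' (algebraMap A A' a)) = ιL (residue E (algebraMap A E a))
    rw [hιk', hιL]
    exact congrArg (Ideal.Quotient.mk M) (congrArg (fun φ => φ a) hcomm).symm⟩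
  let τ : separableClosure (ResidueField A) (ResidueField A') →ₐ[ResidueField A] T ⧸ M :=
    ιk'a.comp (separableClosure (ResidueField A) (ResidueField A')).val
  let c : (separableClosure (ResidueField A) (ResidueField A') →ₐ[ResidueField A]
      ResidueField E) → (separableClosure (ResidueField A) (ResidueField A') →ₐ[ResidueField A]
      T ⧸ M) := fun σ => ιLa.comp σ
  have hc : Function.Injective c := by
    intro σ₁ σ₂ h
    ext y
    have := congrArg (fun φ => φ y) h
    exact ιL.injective this
  have hle : Nat.card (separableClosure (ResidueField A) (ResidueField A') →ₐ[ResidueField A]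
      T ⧸ M) ≤ Nat.card (separableClosure (ResidueField A) (ResidueField A') →ₐ[ResidueField A]
      ResidueField E) := by
    rw [hcard]
    exact card_algHom_le_finrank _ _ _
  obtain ⟨σ, hσ⟩ := (hc.bijective_of_nat_card_le hle).2 τ
  have hστ : ∀ y, ιL (σ y) = ιk' (y : ResidueField A') := fun y =>
    congrArg (fun φ => φ y) hσ
  -- characteristic exponents
  let q := ringExpChar (ResidueField A)
  haveI : ExpChar (ResidueField A) q := ringExpChar.expChar _
  haveI : ExpChar (T ⧸ M) q :=
    expChar_of_injective_algebraMap (algebraMap (ResidueField A) (T ⧸ M)).injective q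
  haveI : ExpChar (ResidueField A') q :=
    expChar_of_injective_algebraMap (algebraMap (ResidueField A) (ResidueField A')).injective q
  haveI : ExpChar (separableClosure (ResidueField A) (ResidueField A')) q :=
    expChar_of_injective_algebraMap (algebraMap (ResidueField A)
      (separableClosure (ResidueField A) (ResidueField A'))).injective q
  have hq : ringExpChar (T ⧸ M) = q := ringExpChar.eq _ q
  rw [hq]
  haveI : IsPurelyInseparable (separableClosure (ResidueField A) (ResidueField A'))
      (ResidueField A') := separableClosure.isPurelyInseparable _ _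
  obtain ⟨t, rfl⟩ := Ideal.Quotient.mk_surjective x
  refine hgen (fun t => ∃ n : ℕ, (Ideal.Quotient.mk M t) ^ q ^ n ∈
    ((Ideal.Quotient.mk M).comp fE).range) ?_ ?_ ?_ t
  · exact ⟨0, 0, by simp⟩
  · intro e a
    obtain ⟨n, y, hy⟩ := IsPurelyInseparable.pow_mem
      (separableClosure (ResidueField A) (ResidueField A')) q (residue A' a)
    obtain ⟨e', he'⟩ := residue_surjective (σ y)
    refine ⟨n, e ^ q ^ n * e', ?_⟩
    rw [RingHom.comp_apply, map_mul, map_mul, map_pow, map_pow, map_mul, mul_pow]
    congr 1
    rw [← hιL e', he', hστ y]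
    change ιk' (algebraMap _ (ResidueField A') y) = _
    rw [hy, map_pow, hιk']
  · rintro t₁ t₂ ⟨n₁, e₁, h₁⟩ ⟨n₂, e₂, h₂⟩
    refine ⟨n₁ + n₂, e₁ ^ q ^ n₂ + e₂ ^ q ^ n₁, ?_⟩
    rw [map_add (Ideal.Quotient.mk M) t₁ t₂, add_pow_expChar_pow, map_add, map_pow, map_pow, h₁, h₂,
      ← pow_mul, ← pow_mul, ← pow_add, ← pow_add, add_comm n₂ n₁]

include hintA' in
/-- conversely, if the residue fields of `T = E ⊗ A'` are purely inseparable over `κ(E)`, the
separable closure `k^s` of `k` in `k'` has `[k^s : k]` embeddings into `κ(E)` -/
theorem card_of_pow_mem [Algebra.IsAlgebraic (ResidueField A) (ResidueField A')]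
    [FiniteDimensional (ResidueField A) (separableClosure (ResidueField A) (ResidueField A'))]
    (hlift : ∀ (Ω : Type u) [Field Ω] (f : E →+* Ω) (g : A' →+* Ω),
      f.comp (algebraMap A E) = g.comp (algebraMap A A') →
        ∃ Φ : T →+* Ω, Φ.comp fE = f ∧ Φ.comp fA' = g)
    (hPI : ∀ (M : Ideal T) [M.IsMaximal] (x : T ⧸ M), ∃ n : ℕ,
      x ^ (ringExpChar (T ⧸ M)) ^ n ∈ ((Ideal.Quotient.mk M).comp fE).range) :
    Nat.card (separableClosure (ResidueField A) (ResidueField A') →ₐ[ResidueField A]
        ResidueField E) =
      Module.finrank (ResidueField A) (separableClosure (ResidueField A) (ResidueField A')) := by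
  have h1 : Nat.card (separableClosure (ResidueField A) (ResidueField A') →ₐ[ResidueField A]
      AlgebraicClosure (ResidueField E)) =
      Module.finrank (ResidueField A) (separableClosure (ResidueField A) (ResidueField A')) := by
    rw [← Field.finSepDegree_eq_of_isAlgClosed (ResidueField A)
      (separableClosure (ResidueField A) (ResidueField A')) (AlgebraicClosure (ResidueField E)),
      Field.finSepDegree_eq_finrank_of_isSeparable]
  rw [← h1]
  let c : (separableClosure (ResidueField A) (ResidueField A') →ₐ[ResidueField A]
      ResidueField E) → (separableClosure (ResidueField A) (ResidueField A') →ₐ[ResidueField A]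
      AlgebraicClosure (ResidueField E)) := fun σ =>
    (IsScalarTower.toAlgHom (ResidueField A) (ResidueField E)
      (AlgebraicClosure (ResidueField E))).comp σ
  have hc : Function.Injective c := by
    intro σ₁ σ₂ h
    ext y
    have := congrArg (fun φ => φ y) h
    exact (algebraMap (ResidueField E) (AlgebraicClosure (ResidueField E))).injective this
  have hsurj : Function.Surjective c := by
    intro τ
    letI : Algebra (separableClosure (ResidueField A) (ResidueField A'))
        (AlgebraicClosure (ResidueField E)) := τ.toRingHom.toAlgebra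
    haveI : Algebra.IsAlgebraic (separableClosure (ResidueField A) (ResidueField A'))
        (ResidueField A') := Algebra.IsAlgebraic.tower_top (K := ResidueField A) _
    let τ' : ResidueField A' →ₐ[separableClosure (ResidueField A) (ResidueField A')]
        AlgebraicClosure (ResidueField E) := IsAlgClosed.lift
    have hτ' : ∀ y : separableClosure (ResidueField A) (ResidueField A'),
        τ' (y : ResidueField A') = τ y := fun y => τ'.commutes y
    obtain ⟨Φ, hΦE, hΦA'⟩ := hlift (AlgebraicClosure (ResidueField E))
      ((algebraMap (ResidueField E) (AlgebraicClosure (ResidueField E))).comp (residue E))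
      (τ'.toRingHom.comp (residue A')) (by
        ext a
        simp only [RingHom.comp_apply]
        have e1 : residue E (algebraMap A E a) =
            algebraMap (ResidueField A) (ResidueField E) (residue A a) := rfl
        have e2 : residue A' (algebraMap A A' a) =
            ((algebraMap (ResidueField A) (separableClosure (ResidueField A) (ResidueField A'))
              (residue A a) : separableClosure (ResidueField A) (ResidueField A')) :
                ResidueField A') := rfl
        rw [e1, e2]
        change _ = τ' _
        rw [hτ', τ.commutes, ← IsScalarTower.algebraMap_apply])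
    have hΦE' : ∀ e, Φ (fE e) = algebraMap (ResidueField E) (AlgebraicClosure (ResidueField E))
        (residue E e) := fun e => congrArg (fun φ => φ e) hΦE
    have hΦA'' : ∀ a, Φ (fA' a) = τ' (residue A' a) := fun a => congrArg (fun φ => φ a) hΦA'
    haveI hMmax : (RingHom.ker Φ).IsMaximal := by
      haveI : (RingHom.ker Φ).IsPrime := RingHom.ker_isPrime Φ
      refine Ideal.isMaximal_of_isIntegral_of_isMaximal_comap' fA' hintA' _ ?_
      have : (RingHom.ker Φ).comap fA' = maximalIdeal A' := by
        ext a
        rw [Ideal.mem_comap, RingHom.mem_ker, hΦA'', map_eq_zero_iff τ' τ'.toRingHom.injective,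
          residue_eq_zero_iff]
      rw [this]
      exact maximalIdeal.isMaximal A'
    letI : Field (T ⧸ RingHom.ker Φ) := Ideal.Quotient.field _
    let q' := ringExpChar (T ⧸ RingHom.ker Φ)
    haveI : ExpChar (T ⧸ RingHom.ker Φ) q' := ringExpChar.expChar _
    haveI : ExpChar (AlgebraicClosure (ResidueField E)) q' :=
      expChar_of_injective_ringHom (RingHom.kerLift_injective Φ) q'
    haveI : ExpChar (ResidueField E) q' :=
      (algebraMap (ResidueField E) (AlgebraicClosure (ResidueField E))).expChar
        (algebraMap (ResidueField E) (AlgebraicClosure (ResidueField E))).injective q'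
    have key : ∀ y : separableClosure (ResidueField A) (ResidueField A'),
        τ y ∈ (IsScalarTower.toAlgHom (ResidueField A) (ResidueField E)
          (AlgebraicClosure (ResidueField E))).range := by
      intro y
      obtain ⟨a, ha⟩ := residue_surjective (y : ResidueField A')
      obtain ⟨n, e, he⟩ := hPI (RingHom.ker Φ) (Ideal.Quotient.mk _ (fA' a))
      have h2 : Φ (fE e) = Φ (fA' a) ^ q' ^ n := by
        rw [RingHom.comp_apply, ← map_pow, Ideal.Quotient.eq, RingHom.mem_ker, map_sub,
          sub_eq_zero, map_pow] at he
        exact he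
      rw [hΦE', hΦA'', ha, hτ'] at h2
      have hsep : IsSeparable (ResidueField E) (τ y) := by
        have h3 : IsSeparable (ResidueField A) y := Algebra.IsSeparable.isSeparable _ y
        have h4 : IsSeparable (ResidueField A) (τ y) := by
          unfold IsSeparable at h3 ⊢
          rwa [minpoly.algHom_eq τ τ.toRingHom.injective y]
        exact h4.tower_top (ResidueField E)
      haveI : Algebra.IsSeparable (ResidueField E) (ResidueField E)⟮τ y⟯ :=
        (IntermediateField.isSeparable_adjoin_simple_iff_isSeparable (ResidueField E)
          (AlgebraicClosure (ResidueField E))).mpr hsep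
      haveI : IsPurelyInseparable (ResidueField E) (ResidueField E)⟮τ y⟯ :=
        (IntermediateField.isPurelyInseparable_adjoin_simple_iff_pow_mem (ResidueField E)
          (AlgebraicClosure (ResidueField E)) q').mpr ⟨n, residue E e, h2⟩
      obtain ⟨l, hl⟩ := IsPurelyInseparable.surjective_algebraMap_of_isSeparable (ResidueField E)
        (ResidueField E)⟮τ y⟯ ⟨τ y, IntermediateField.mem_adjoin_simple_self _ _⟩
      exact ⟨l, congrArg Subtype.val hl⟩
    let ε := AlgEquiv.ofInjective (IsScalarTower.toAlgHom (ResidueField A) (ResidueField E)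
      (AlgebraicClosure (ResidueField E)))
      (algebraMap (ResidueField E) (AlgebraicClosure (ResidueField E))).injective
    refine ⟨(ε.symm : _ →ₐ[ResidueField A] ResidueField E).comp (τ.codRestrict _ key), ?_⟩
    ext y
    change (IsScalarTower.toAlgHom (ResidueField A) (ResidueField E)
      (AlgebraicClosure (ResidueField E))) (ε.symm (τ.codRestrict _ key y)) = τ y
    have := ε.apply_symm_apply (τ.codRestrict _ key y)
    exact congrArg Subtype.val this
  exact Nat.card_congr (Equiv.ofBijective c ⟨hc, hsurj⟩)

end FieldTheory

end Groth.Agent.H14.HensProp.EssEtSH
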