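import Mathlib
import Groth.Prelude.Def_Hensel
import Groth.Prelude.Def_EssEt
import Groth.Prelude.Def_EGA4b
import Groth.Agent.H14.HensProp.EssEtSH
import Groth.Agent.H14.HensProp.EssEtSH2
import Groth.Agent.H14.HensProp.HhToHsh2
import Groth.Agent.H14.HensProp.NormBC3
import Groth.Agent.H14.HensProp.TensorMaxGeom
import Groth.Agent.H14.GeomBC.SmoothReduced
import Groth.Agent.H3.HensQFFinite
import Groth.Agent.S2654

/-!
# Minimal primes of the strict henselization generated by their contractions to an essentially
étale local algebra (EGA IV 18.8.x), for an excellent henselian local domain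
-/

set_option autoImplicit false
set_option linter.style.haveILetI false
universe u

namespace Groth.Agent.H14.HensProp.EssEtSH

open IsLocalRing TensorProduct Groth.Agent.H3.UnionEtale

section Basic2

variable {A E : Type u} [CommRing A] [IsLocalRing A] [CommRing E] [Algebra A E]

theorem flat (hE : EGA4loc.IsEssentiallyEtale A E) : Module.Flat A E := by
  obtain ⟨C, _, _, q, hq, hEt, -, ⟨e⟩⟩ := hE
  haveI : Module.Flat C (Localization.AtPrime q) := IsLocalization.flat _ q.primeCompl
  haveI : Module.Flat A (Localization.AtPrime q) := Module.Flat.trans A C _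
  exact Module.Flat.of_linearEquiv e.toLinearEquiv

theorem isReduced [IsReduced A] (hE : EGA4loc.IsEssentiallyEtale A E) : IsReduced E := by
  obtain ⟨C, _, _, q, hq, hEt, -, ⟨e⟩⟩ := hE
  haveI : IsReduced C := Groth.Agent.H14.GeomBC.isReduced_of_smooth A C
  exact isReduced_of_injective e.toRingEquiv.toRingHom e.injective

end Basic2

section Main

/-- **S16437.** -/
theorem main
    (A S E : Type u) [CommRing A] [HenselianLocalRing A] [IsDomain A] (hA : EGA4.IsExcellent A)
    [IsLocalRing (integralClosure A (FractionRing A))]
    [IsLocalHom (algebraMap A (integralClosure A (FractionRing A)))]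
    [CommRing S] [IsLocalRing S] [Algebra A S] [IsLocalHom (algebraMap A S)]
    [Hensel.IsStrictHenselization A S]
    [CommRing E] [IsLocalRing E] [Algebra A E] [IsLocalHom (algebraMap A E)]
    (hE : EGA4loc.IsEssentiallyEtale A E) [Algebra E S] [IsScalarTower A E S] :
    (∀ Q ∈ minimalPrimes S, Q = Ideal.map (algebraMap E S) (Q.comap (algebraMap E S))) ↔
      Nat.card (separableClosure (ResidueField A)
          (ResidueField (integralClosure A (FractionRing A))) →ₐ[ResidueField A]
          ResidueField E) =
        Module.finrank (ResidueField A)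
          (separableClosure (ResidueField A)
            (ResidueField (integralClosure A (FractionRing A)))) := by
  have hN : CAlg.IsNagata A := Groth.Agent.S2654.result A ⟨hA.1, hA.2.2.1, hA.2.2.2⟩
  haveI hNoeth : IsNoetherianRing A := hA.1
  haveI hfin : Module.Finite A (integralClosure A (FractionRing A)) :=
    Groth.Agent.H38.finite_integralClosure fun p =>
      hN.2 p.1.asIdeal (Groth.Agent.H38.KK p) inferInstance
  haveI : Algebra.IsIntegral A (integralClosure A (FractionRing A)) :=
    Algebra.IsIntegral.of_finite A _
  -- properties of `E`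
  have hU : IsUnion A E := isUnion hE
  haveI : Algebra.EssFiniteType A E := essFiniteType hE
  haveI : Algebra.FormallyUnramified A E := formallyUnramified hE
  haveI : Module.Finite A E := finite hE
  haveI : Module.Flat A E := flat hE
  haveI : IsReduced E := isReduced hE
  haveI : Algebra.IsIntegral A E := Algebra.IsIntegral.of_finite A E
  haveI : IsNoetherianRing E := IsNoetherianRing.of_finite A E
  haveI : HenselianLocalRing E := Groth.Agent.H67.HenselFinite.henselian_of_finite A E
  haveI hloc : IsLocalHom (algebraMap E S) := by
    refine ((IsLocalRing.local_hom_TFAE (algebraMap E S)).out 0 4).mpr ?_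
    haveI : ((maximalIdeal S).comap (algebraMap E S)).IsPrime := Ideal.comap_isPrime _ _
    refine eq_maximalIdeal (Ideal.isMaximal_of_isIntegral_of_isMaximal_comap
      (R := A) ((maximalIdeal S).comap (algebraMap E S)) ?_)
    have h4 : (maximalIdeal S).comap (algebraMap A S) = maximalIdeal A :=
      ((IsLocalRing.local_hom_TFAE (algebraMap A S)).out 0 4).mp ‹IsLocalHom (algebraMap A S)›
    rw [Ideal.comap_comap, ← IsScalarTower.algebraMap_eq A E S, h4]
    exact maximalIdeal.isMaximal A
  haveI hSE : Hensel.IsStrictHenselization E S :=
    isStrictHenselization_of_tower A S E inferInstance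
  haveI : IsLocalHom (algebraMap E E) := ⟨fun a ha => ha⟩
  haveI : Hensel.IsHenselization E E := Groth.Agent.H3.HensQFFinite.isHenselization_self E
  rw [← HhToHsh.main E E S]
  have hnorm : ∀ (M : Ideal (E ⊗[A] (integralClosure A (FractionRing A)))) [M.IsMaximal],
      IsDomain (Localization.AtPrime M) ∧ IsIntegrallyClosed (Localization.AtPrime M) :=
    fun M _ => NormBC.normal_tensor_of_isUnion A E hU M
  obtain ⟨e, -⟩ := NormBC.exists_algEquiv A E hnorm
  let fA' : integralClosure A (FractionRing A) →+* E ⊗[A] (integralClosure A (FractionRing A)) :=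
    (Algebra.TensorProduct.includeRight :
      integralClosure A (FractionRing A) →ₐ[A] E ⊗[A] (integralClosure A (FractionRing A))).toRingHom
  have hfA' : ∀ a, fA' a = (1 : E) ⊗ₜ[A] a := fun a => rfl
  have hfE : ∀ x : E, algebraMap E (E ⊗[A] (integralClosure A (FractionRing A))) x =
      x ⊗ₜ[A] (1 : integralClosure A (FractionRing A)) := fun x => rfl
  have hcomm : (algebraMap E (E ⊗[A] (integralClosure A (FractionRing A)))).comp (algebraMap A E) =
      fA'.comp (algebraMap A (integralClosure A (FractionRing A))) := by
    ext a
    rw [RingHom.comp_apply, RingHom.comp_apply, hfA', hfE, Algebra.algebraMap_eq_smul_one,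
      Algebra.algebraMap_eq_smul_one, TensorProduct.smul_tmul]
  have hintE : (algebraMap E (E ⊗[A] (integralClosure A (FractionRing A)))).IsIntegral :=
    algebraMap_isIntegral_iff.mpr inferInstance
  have hintA' : fA'.IsIntegral :=
    TensorMax.isIntegral_includeRight A (integralClosure A (FractionRing A)) E
  constructor
  · intro h
    have h' := HhToHsh.transport_aux E (algebraMap E (integralClosure E (FractionRing E)))
      (algebraMap E (E ⊗[A] (integralClosure A (FractionRing A)))) e.symm.toRingEquiv
      (fun a => e.symm.commutes a) h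
    refine card_of_pow_mem (T := E ⊗[A] (integralClosure A (FractionRing A)))
      (algebraMap E (E ⊗[A] (integralClosure A (FractionRing A)))) fA' hintA' ?_ h'
    intro Ω _ f g hfg
    obtain ⟨Φ, h1, h2⟩ := TensorMaxGeom.exists_tensor_ringHom f g hfg
    refine ⟨Φ, ?_, ?_⟩
    · ext x
      rw [RingHom.comp_apply, hfE, h1]
    · ext a
      rw [RingHom.comp_apply, hfA', h2]
  · intro hcard
    have h' := pow_mem_of_card (T := E ⊗[A] (integralClosure A (FractionRing A)))
      (algebraMap E (E ⊗[A] (integralClosure A (FractionRing A)))) fA' hcomm hintE hintA' hcard ?_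
    · exact HhToHsh.transport_aux E _ _ e.toRingEquiv (fun a => e.commutes a) h'
    · intro P h0 hmul hadd t
      induction t using TensorProduct.induction_on with
      | zero => exact h0
      | tmul x a =>
        have := hmul x a
        rwa [hfE, hfA', Algebra.TensorProduct.tmul_mul_tmul, mul_one, one_mul] at this
      | add t₁ t₂ h₁ h₂ => exact hadd _ _ h₁ h₂

end Main

end Groth.Agent.H14.HensProp.EssEtSH
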