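import Mathlib
import Groth.Prelude.Def_CAlg2
import Groth.Agent.H14.HensProp.EtLoc

set_option autoImplicit false
set_option linter.style.haveILetI false
universe u

namespace Groth.Agent.H14.HensProp.UnramEt

open IsLocalRing TensorProduct Polynomial

section

variable (A C : Type u) [CommRing A] [IsDomain A] [CommRing C] [Algebra A C] [Algebra.Etale A C]

omit [IsDomain A] in
theorem includeRight_injective :
    Function.Injective
      (Algebra.TensorProduct.includeRight : C →ₐ[A] FractionRing A ⊗[A] C) :=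
  Algebra.TensorProduct.includeRight_injective (IsFractionRing.injective A (FractionRing A))

instance finite_fractionRing_tensor : Module.Finite (FractionRing A) (FractionRing A ⊗[A] C) :=
  Algebra.FormallyUnramified.finite_of_free (FractionRing A) (FractionRing A ⊗[A] C)

/-- elements of an étale algebra over a domain are algebraic -/
theorem isAlgebraic_of_etale (c : C) : IsAlgebraic A c := by
  rw [← isAlgebraic_algHom_iff _ (includeRight_injective A C)]
  rw [IsFractionRing.isAlgebraic_iff A (FractionRing A) (FractionRing A ⊗[A] C)]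
  exact (Algebra.IsIntegral.isIntegral (R := FractionRing A) _).isAlgebraic

include A in
/-- an ideal of an étale algebra over a domain which vanishes at a prime is killed by a single
element outside the prime -/
theorem exists_forall_mul_eq_zero (I : Ideal C) (q' : Ideal C) [q'.IsPrime]
    (h : ∀ x ∈ I, ∃ s ∉ q', s * x = 0) : ∃ s ∉ q', ∀ x ∈ I, s * x = 0 := by
  classical
  let ι : C →ₐ[A] FractionRing A ⊗[A] C := Algebra.TensorProduct.includeRight
  haveI : IsNoetherianRing (FractionRing A ⊗[A] C) :=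
    IsNoetherianRing.of_finite (FractionRing A) _
  have hfg : (Submodule.span (FractionRing A ⊗[A] C) (ι '' (I : Set C))).FG :=
    IsNoetherian.noetherian _
  obtain ⟨t, ht, hspan⟩ := (Submodule.fg_span_iff_fg_span_finset_subset _).mp hfg
  have hkill : ∀ y ∈ t, ∃ s ∉ q', (ι s) * y = 0 := by
    intro y hy
    obtain ⟨x, hx, rfl⟩ := ht hy
    obtain ⟨s, hs, hsx⟩ := h x hx
    exact ⟨s, hs, by rw [← map_mul, hsx, map_zero]⟩
  choose! σ hσ hσ0 using hkill
  refine ⟨∏ y ∈ t, σ y, ?_, ?_⟩
  · intro hmem
    obtain ⟨y, hy, hy'⟩ := (Ideal.IsPrime.prod_mem_iff).mp hmem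
    exact hσ y hy hy'
  · intro x hx
    apply includeRight_injective A C
    rw [map_mul, map_zero]
    have hx' : ι x ∈ Submodule.span (FractionRing A ⊗[A] C) (ι '' (I : Set C)) :=
      Submodule.subset_span ⟨x, hx, rfl⟩
    rw [hspan] at hx'
    refine Submodule.span_induction (p := fun z _ => ι (∏ y ∈ t, σ y) * z = 0) ?_ ?_ ?_ ?_ hx'
    · intro y hy
      have hy' : y ∈ t := hy
      rw [← Finset.mul_prod_erase t σ hy', map_mul, mul_right_comm, hσ0 y hy', zero_mul]
    · exact mul_zero _
    · intro a b _ _ ha hb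
      rw [mul_add, ha, hb, add_zero]
    · intro a b _ hb
      rw [smul_eq_mul, mul_left_comm, hb, mul_zero]

/-- Core step of EGA IV 18.10.1 -/
theorem exists_kills_ker (B' : Type u) [CommRing B'] [Algebra A B'] (φ : C →ₐ[A] B')
    (Q : Ideal B') [Q.IsPrime] [IsDomain (Localization.AtPrime (Q.comap φ))]
    (hinj : ∀ (a : A) (u : B'), u ∉ Q → algebraMap A B' a * u = 0 → a = 0) :
    ∃ s : C, φ s ∉ Q ∧ ∀ x ∈ RingHom.ker φ.toRingHom, s * x = 0 := by
  have key : ∀ x ∈ RingHom.ker φ.toRingHom, ∃ s ∉ Q.comap φ, s * x = 0 := by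
    intro x hx
    have hx0 : φ x = 0 := hx
    by_cases hk : algebraMap C (Localization.AtPrime (Q.comap φ)) x = 0
    · obtain ⟨m, hm⟩ := (IsLocalization.map_eq_zero_iff (Q.comap φ).primeCompl _ x).mp hk
      exact ⟨m, m.2, hm⟩
    · exfalso
      have halg : IsAlgebraic A (algebraMap C (Localization.AtPrime (Q.comap φ)) x) :=
        (isAlgebraic_of_etale A C x).algebraMap
      obtain ⟨G, hG0, hG⟩ := halg.exists_nonzero_coeff_and_aeval_eq_zero
        (mem_nonZeroDivisors_of_ne_zero hk)
      rw [Polynomial.aeval_algebraMap_apply] at hG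
      obtain ⟨m, hm⟩ := (IsLocalization.map_eq_zero_iff (Q.comap φ).primeCompl _ _).mp hG
      have h1 := congrArg φ hm
      rw [map_mul, map_zero, ← Polynomial.aeval_algHom_apply, hx0,
        ← Polynomial.coeff_zero_eq_aeval_zero', mul_comm] at h1
      exact hG0 (hinj _ _ m.2 h1)
  obtain ⟨s, hs, hs0⟩ := exists_forall_mul_eq_zero A C (RingHom.ker φ.toRingHom) (Q.comap φ) key
  exact ⟨s, hs, hs0⟩

omit [IsDomain A] [Algebra.Etale A C] in
/-- if `s` kills the kernel of a surjection `φ`, localizing at `s` gives an isomorphism -/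
theorem awayMap_bijective (B' : Type u) [CommRing B'] [Algebra A B'] (φ : C →ₐ[A] B')
    (hφ : Function.Surjective φ) (s : C) (hs : ∀ x ∈ RingHom.ker φ.toRingHom, s * x = 0) :
    Function.Bijective (Localization.awayMapₐ φ s) := by
  refine ⟨?_, IsLocalization.Away.mapₐ_surjective_of_surjective s hφ⟩
  rw [injective_iff_map_eq_zero]
  intro z hz
  obtain ⟨c, t, rfl⟩ := IsLocalization.exists_mk'_eq (Submonoid.powers s) z
  rw [IsLocalization.Away.mapₐ_apply, IsLocalization.Away.map, IsLocalization.map_mk',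
    IsLocalization.mk'_eq_zero_iff] at hz
  obtain ⟨⟨_, m, rfl⟩, hm⟩ := hz
  simp only [AlgHom.toRingHom_eq_coe, RingHom.coe_coe] at hm
  rw [← map_pow, ← map_mul] at hm
  have h1 := hs _ hm
  rw [IsLocalization.mk'_eq_zero_iff]
  refine ⟨⟨s ^ (m + 1), m + 1, rfl⟩, ?_⟩
  change s ^ (m + 1) * c = 0
  rw [pow_succ', mul_assoc]
  exact h1

omit [IsDomain A] in
theorem etale_away (B' : Type u) [CommRing B'] [Algebra A B'] (φ : C →ₐ[A] B')
    (hφ : Function.Surjective φ) (s : C) (hs : ∀ x ∈ RingHom.ker φ.toRingHom, s * x = 0) :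
    Algebra.Etale A (Localization.Away (φ s)) := by
  haveI : Algebra.Etale C (Localization.Away s) := Algebra.Etale.of_isLocalizationAway s
  haveI : Algebra.Etale A (Localization.Away s) := Algebra.Etale.comp A C _
  exact Algebra.Etale.of_equiv (AlgEquiv.ofBijective (Localization.awayMapₐ φ s)
    (awayMap_bijective A C B' φ hφ s hs))

end

end Groth.Agent.H14.HensProp.UnramEt
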