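import Mathlib
import Groth.Prelude.Def_CAlg2
import Groth.Agent.H14.HensProp.UnramEt

set_option autoImplicit false
set_option linter.style.haveILetI false
universe u

namespace Groth.Agent.H14.HensProp.UnramEt3

open IsLocalRing TensorProduct Polynomial Groth.Agent.H3.UnionEtale
open Groth.Agent.H14.HensProp.UnramEt

/-- Localizations of étale algebras over a ring whose localization `Ap` at `p` is reduced and
geometrically unibranch are domains (and geometrically unibranch); `Ap` is any model of the
localization. -/
theorem isDomain_and_isGeomUnibranch_atPrime' (A C : Type u) [CommRing A] [CommRing C]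
    [Algebra A C] [Algebra.Etale A C] (p : Ideal A) [p.IsPrime] (P : Ideal C) [P.IsPrime]
    (hPp : P.comap (algebraMap A C) = p) (Ap : Type u) [CommRing Ap] [Algebra A Ap]
    [IsLocalization.AtPrime Ap p] [IsLocalRing Ap] [IsReduced Ap]
    (hA : CAlg2.IsGeomUnibranch Ap) :
    IsDomain (Localization.AtPrime P) ∧ CAlg2.IsGeomUnibranch (Localization.AtPrime P) := by
  have hunits : ∀ y : p.primeCompl, IsUnit (algebraMap A (Localization.AtPrime P) y) := by
    intro y
    rw [IsScalarTower.algebraMap_apply A C (Localization.AtPrime P)]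
    refine IsLocalization.map_units (Localization.AtPrime P) (⟨algebraMap A C y, ?_⟩ : P.primeCompl)
    intro hy
    have : (y : A) ∈ P.comap (algebraMap A C) := hy
    rw [hPp] at this
    exact y.2 this
  letI alg : Algebra Ap (Localization.AtPrime P) :=
    (IsLocalization.lift (M := p.primeCompl) (S := Ap) hunits).toAlgebra
  haveI : IsScalarTower A Ap (Localization.AtPrime P) :=
    IsScalarTower.of_algebraMap_eq fun a => (IsLocalization.lift_eq hunits a).symm
  haveI : IsLocalHom (algebraMap Ap (Localization.AtPrime P)) := by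
    refine ⟨fun a ha => ?_⟩
    obtain ⟨a₀, s, rfl⟩ := IsLocalization.exists_mk'_eq p.primeCompl a
    rw [IsLocalization.AtPrime.isUnit_mk'_iff Ap p]
    intro ha₀
    have h1 : algebraMap Ap (Localization.AtPrime P) (IsLocalization.mk' Ap a₀ s) *
        algebraMap A (Localization.AtPrime P) s = algebraMap A (Localization.AtPrime P) a₀ := by
      rw [IsScalarTower.algebraMap_apply A Ap (Localization.AtPrime P) s, ← map_mul,
        IsLocalization.mk'_spec, ← IsScalarTower.algebraMap_apply]
    have h2 : IsUnit (algebraMap A (Localization.AtPrime P) a₀) := by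
      rw [← h1]
      exact ha.mul (hunits s)
    rw [IsScalarTower.algebraMap_apply A C (Localization.AtPrime P),
      IsLocalization.AtPrime.isUnit_to_map_iff (Localization.AtPrime P) P] at h2
    apply h2
    have : a₀ ∈ P.comap (algebraMap A C) := by rw [hPp]; exact ha₀
    exact this
  haveI : Module.Flat A (Localization.AtPrime P) := Module.Flat.trans A C _
  haveI : Module.Flat Ap (Localization.AtPrime P) :=
    (Module.flat_iff_of_isLocalization Ap p.primeCompl (Localization.AtPrime P)).mpr inferInstance
  have hU : IsUnion Ap (Localization.AtPrime P) :=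
    EtLoc.isUnion_of_isLocalization A Ap C (Localization.AtPrime P) P.primeCompl
  exact EtUni.isDomain_and_isGeomUnibranch Ap (Localization.AtPrime P) hA hU

/-- **EGA IV 18.10.1 (ring form), with an arbitrary model of the localization and the injectivity
hypothesis in elementary form.** -/
theorem exists_etale_away' {A B : Type u} [CommRing A] [IsDomain A] [CommRing B]
    [Algebra A B] (q : Ideal B) [q.IsPrime] (p : Ideal A) [p.IsPrime]
    (hqp : q.comap (algebraMap A B) = p) (Ap : Type u) [CommRing Ap] [Algebra A Ap]
    [IsLocalization.AtPrime Ap p] [IsLocalRing Ap] [IsReduced Ap]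
    (hA : CAlg2.IsGeomUnibranch Ap) [Algebra.FiniteType A B]
    [Algebra.IsUnramifiedAt A q]
    (hinjB : ∀ (a : A) (w : B), w ∉ q → algebraMap A B a * w = 0 → a = 0) :
    ∃ g : B, g ∉ q ∧ Algebra.Etale A (Localization.Away g) := by
  obtain ⟨f, hfq, P, φ, hφ⟩ := Algebra.IsUnramifiedAt.exists_hasStandardEtaleSurjectionOn (R := A) q
  have hdisj : Disjoint (Submonoid.powers f : Set B) (q : Set B) :=
    (Ideal.disjoint_powers_iff_notMem_of_isPrime _).mpr hfq
  haveI hQ : (q.map (algebraMap B (Localization.Away f))).IsPrime :=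
    IsLocalization.isPrime_of_isPrime_disjoint (.powers f) _ _ ‹_› hdisj
  have hQc : (q.map (algebraMap B (Localization.Away f))).comap (algebraMap B (Localization.Away f))
      = q := IsLocalization.under_map_of_isPrime_disjoint (.powers f) _ ‹_› hdisj
  have hover : ((q.map (algebraMap B (Localization.Away f))).comap φ).comap (algebraMap A P.Ring)
      = p := by
    ext a
    rw [Ideal.mem_comap, Ideal.mem_comap, AlgHom.commutes,
      IsScalarTower.algebraMap_apply A B (Localization.Away f), ← Ideal.mem_comap, hQc,
      ← hqp, Ideal.mem_comap]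
  set Q := q.map (algebraMap B (Localization.Away f)) with hQdef
  obtain ⟨hdomC, -⟩ := isDomain_and_isGeomUnibranch_atPrime' A P.Ring p (Q.comap φ) hover Ap hA
  haveI := hdomC
  have hinj' : ∀ (a : A) (u : Localization.Away f), u ∉ Q →
      algebraMap A (Localization.Away f) a * u = 0 → a = 0 := by
    intro a u hu hau
    obtain ⟨b, ⟨_, n, rfl⟩, rfl⟩ := IsLocalization.exists_mk'_eq (Submonoid.powers f) u
    have hb : b ∉ q := by
      intro hb
      apply hu
      rw [hQdef, IsLocalization.mk'_mem_map_algebraMap_iff]
      exact ⟨1, one_mem _, by rwa [one_mul]⟩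
    have h1 : algebraMap B (Localization.Away f) (algebraMap A B a * b) = 0 := by
      rw [map_mul, ← IsScalarTower.algebraMap_apply,
        ← IsLocalization.mk'_spec (Localization.Away f) b (⟨f ^ n, n, rfl⟩ : Submonoid.powers f), ← mul_assoc, hau,
        zero_mul]
    obtain ⟨⟨_, k, rfl⟩, hk⟩ := (IsLocalization.map_eq_zero_iff (Submonoid.powers f) _ _).mp h1
    simp only at hk
    refine hinjB a (f ^ k * b) ?_ ?_
    · exact fun h => (‹q.IsPrime›.mem_or_mem h).elim
        (fun h' => hfq (‹q.IsPrime›.mem_of_pow_mem _ h')) hb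
    · rw [mul_left_comm]
      exact hk
  obtain ⟨s, hsQ, hs0⟩ := exists_kills_ker A P.Ring (Localization.Away f) φ Q hinj'
  -- adjust `s` so that its image comes from `B`
  obtain ⟨b₀, ⟨_, n, rfl⟩, hb₀⟩ := IsLocalization.exists_mk'_eq (Submonoid.powers f) (φ s)
  obtain ⟨t, ht⟩ := hφ (algebraMap B (Localization.Away f) (f ^ n))
  have hst : φ (s * t) = algebraMap B (Localization.Away f) b₀ := by
    rw [map_mul, ht, ← hb₀]
    exact IsLocalization.mk'_spec (Localization.Away f) b₀ (⟨f ^ n, n, rfl⟩ : Submonoid.powers f)
  have hs0' : ∀ x ∈ RingHom.ker φ.toRingHom, (s * t) * x = 0 := by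
    intro x hx
    rw [mul_right_comm, hs0 x hx, zero_mul]
  have hb₀q : b₀ ∉ q := by
    intro hb
    apply hsQ
    rw [← hb₀, hQdef, IsLocalization.mk'_mem_map_algebraMap_iff]
    exact ⟨1, one_mem _, by rwa [one_mul]⟩
  haveI het := etale_away A P.Ring (Localization.Away f) φ hφ (s * t) hs0'
  have hloc : IsLocalization.Away (f * b₀) (Localization.Away (φ (s * t))) :=
    hst ▸ IsLocalization.Away.mul' (Localization.Away f) _ _ _
  refine ⟨f * b₀, fun h => (‹q.IsPrime›.mem_or_mem h).elim hfq hb₀q, ?_⟩
  exact Algebra.Etale.of_equiv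
    ((IsLocalization.algEquiv (Submonoid.powers (f * b₀)) (Localization.Away (φ (s * t)))
      (Localization.Away (f * b₀))).restrictScalars A)


end Groth.Agent.H14.HensProp.UnramEt3
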