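import Mathlib
import Groth.Agent.H53.FlatUnramEtale

/-!
# A flatness criterion via idempotents and lying over

`A → D → E` local, `D → R` integral injective, `R → T ← E`, `T` flat over `R`, `E` flat unramified
essentially of finite type over `A`, a section `σ : T → R ⊗[A] E` of the multiplication map, and
`R` generated modulo its Jacobson radical by `D` and elements on which `σ` is the obvious map.
Then `E` is flat over `D`.
-/

set_option autoImplicit false
set_option linter.style.haveILetI false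
set_option linter.unusedSectionVars false
universe u

namespace Groth.Agent.H14.HensProp.FlatCrit

open IsLocalRing TensorProduct

section Agree

variable (D R Q : Type u) [CommRing D] [CommRing R] [CommRing Q] [IsDomain Q] [IsLocalRing D]
  [Algebra D R] [Algebra.IsIntegral D R]

/-- two ring maps from `R` to a domain which kill `m_D`, agree on `D` and on a set `C` such that
`R` is generated by `C` and `D` modulo its Jacobson radical, are equal -/
theorem eq_of_agree (C : Set R)
    (hgen : ∀ r : R, ∃ y ∈ Subring.closure (C ∪ Set.range (algebraMap D R)),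
      r - y ∈ Ideal.jacobson (⊥ : Ideal R))
    (α β : R →+* Q) (hαD : ∀ d : D, d ∈ maximalIdeal D → α (algebraMap D R d) = 0)
    (hagC : ∀ c ∈ C, α c = β c) (hagD : ∀ d : D, α (algebraMap D R d) = β (algebraMap D R d)) :
    α = β := by
  have hkermax : ∀ γ : R →+* Q, (∀ d : D, d ∈ maximalIdeal D → γ (algebraMap D R d) = 0) →
      (RingHom.ker γ).IsMaximal := by
    intro γ hγ
    haveI : (RingHom.ker γ).IsPrime := RingHom.ker_isPrime γ
    have h1 : (RingHom.ker γ).comap (algebraMap D R) = maximalIdeal D := by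
      have hle : maximalIdeal D ≤ (RingHom.ker γ).comap (algebraMap D R) := fun d hd => hγ d hd
      have hne : (RingHom.ker γ).comap (algebraMap D R) ≠ ⊤ :=
        (Ideal.comap_isPrime (algebraMap D R) (RingHom.ker γ)).ne_top
      exact ((IsLocalRing.maximalIdeal.isMaximal D).eq_of_le hne hle).symm
    exact Ideal.isMaximal_of_isIntegral_of_isMaximal_comap (RingHom.ker γ)
      (h1 ▸ IsLocalRing.maximalIdeal.isMaximal D)
  have hαmax : (RingHom.ker α).IsMaximal := hkermax α hαD
  have hβmax : (RingHom.ker β).IsMaximal := by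
    apply hkermax β
    intro d hd
    rw [← hagD]
    exact hαD d hd
  have hjac : ∀ (γ : R →+* Q), (RingHom.ker γ).IsMaximal → ∀ r ∈ Ideal.jacobson (⊥ : Ideal R),
      γ r = 0 := by
    intro γ hγ r hr
    have h1 : Ideal.jacobson (⊥ : Ideal R) ≤ RingHom.ker γ := by
      calc Ideal.jacobson (⊥ : Ideal R) ≤ Ideal.jacobson (RingHom.ker γ) :=
            Ideal.jacobson_mono bot_le
        _ = RingHom.ker γ := Ideal.jacobson_eq_self_of_isMaximal
    exact h1 hr
  ext r
  obtain ⟨y, hy, hry⟩ := hgen r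
  have hle : Subring.closure (C ∪ Set.range (algebraMap D R)) ≤ RingHom.eqLocus α β := by
    rw [Subring.closure_le]
    rintro x (hx | ⟨d, rfl⟩)
    · exact hagC x hx
    · exact hagD d
  have h1 : α y = β y := hle hy
  have h2 : α (r - y) = 0 := hjac α hαmax _ hry
  have h3 : β (r - y) = 0 := hjac β hβmax _ hry
  have h4 : r = (r - y) + y := by ring
  rw [h4, map_add, map_add, h2, h3, h1]

end Agree

section Main

variable (A D E R T : Type u) [CommRing A] [CommRing D] [CommRing E] [CommRing R] [CommRing T]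
  [Algebra A D] [Algebra A E] [Algebra D E] [IsScalarTower A D E]
  [Algebra A R] [Algebra D R] [IsScalarTower A D R]
  [Algebra A T] [Algebra R T] [IsScalarTower A R T]
  [Algebra E T] [IsScalarTower A E T]

/-- the multiplication map `R ⊗[A] E → T` -/
noncomputable def mu₁ : R ⊗[A] E →ₐ[R] T :=
  Algebra.TensorProduct.lift (Algebra.ofId R T) (IsScalarTower.toAlgHom A E T)
    (fun _ _ => Commute.all _ _)

theorem mu₁_tmul (r : R) (e : E) : mu₁ A E R T (r ⊗ₜ[A] e) = algebraMap R T r * algebraMap E T e := by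
  simp [mu₁]

/-- the multiplication map `D ⊗[A] E → E` -/
noncomputable def mu₀ : D ⊗[A] E →ₐ[D] E :=
  Algebra.TensorProduct.lift (Algebra.ofId D E) (AlgHom.id A E) (fun _ _ => Commute.all _ _)

theorem mu₀_tmul (d : D) (e : E) : mu₀ A D E (d ⊗ₜ[A] e) = algebraMap D E d * e := by
  simp [mu₀]

/-- the base change map `D ⊗[A] E → R ⊗[A] E` -/
noncomputable def iota₀ : D ⊗[A] E →ₐ[A] R ⊗[A] E :=
  Algebra.TensorProduct.map (IsScalarTower.toAlgHom A D R) (AlgHom.id A E)

theorem iota₀_tmul (d : D) (e : E) : iota₀ A D E R (d ⊗ₜ[A] e) = algebraMap D R d ⊗ₜ[A] e := by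
  simp [iota₀]

theorem iota₀_injective [Module.Flat A E] (hinj : Function.Injective (algebraMap D R)) :
    Function.Injective (iota₀ A D E R) := by
  have h1 : Function.Injective ((IsScalarTower.toAlgHom A D R).toLinearMap.rTensor E) :=
    Module.Flat.rTensor_preserves_injective_linearMap _ hinj
  intro x y hxy
  apply h1
  exact hxy

theorem mu₁_iota₀
    (hDT : ∀ d : D, algebraMap R T (algebraMap D R d) = algebraMap E T (algebraMap D E d))
    (x : D ⊗[A] E) :
    mu₁ A E R T (iota₀ A D E R x) = algebraMap E T (mu₀ A D E x) := by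
  induction x using TensorProduct.induction_on with
  | zero => simp
  | tmul d e =>
    rw [iota₀_tmul, mu₁_tmul, mu₀_tmul, map_mul, hDT]
  | add x y hx hy => rw [map_add, map_add, hx, hy, map_add, map_add]

/-- `R ⊗[A] E` is integral over `D ⊗[A] E` -/
theorem iota₀_isIntegral [Algebra.IsIntegral D R] : (iota₀ A D E R).toRingHom.IsIntegral := by
  intro x
  induction x using TensorProduct.induction_on with
  | zero => exact (iota₀ A D E R).toRingHom.isIntegralElem_zero
  | tmul r e =>
    have h1 : (iota₀ A D E R).toRingHom.IsIntegralElem (r ⊗ₜ[A] (1 : E)) := by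
      obtain ⟨p, hp, hpr⟩ := Algebra.IsIntegral.isIntegral (R := D) r
      refine ⟨p.map (Algebra.TensorProduct.includeLeftRingHom : D →+* D ⊗[A] E), hp.map _, ?_⟩
      rw [Polynomial.eval₂_map]
      have hcomp : (iota₀ A D E R).toRingHom.comp
          (Algebra.TensorProduct.includeLeftRingHom : D →+* D ⊗[A] E) =
          (Algebra.TensorProduct.includeLeftRingHom : R →+* R ⊗[A] E).comp (algebraMap D R) := by
        ext d
        change iota₀ A D E R (d ⊗ₜ[A] 1) = algebraMap D R d ⊗ₜ[A] 1
        rw [iota₀_tmul]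
      rw [hcomp]
      have h2 : (r ⊗ₜ[A] (1 : E) : R ⊗[A] E) =
          (Algebra.TensorProduct.includeLeftRingHom : R →+* R ⊗[A] E) r := rfl
      rw [h2, ← Polynomial.hom_eval₂, hpr, map_zero]
    have h3 : (iota₀ A D E R).toRingHom.IsIntegralElem ((1 : R) ⊗ₜ[A] e) := by
      have : ((1 : R) ⊗ₜ[A] e : R ⊗[A] E) = (iota₀ A D E R).toRingHom ((1 : D) ⊗ₜ[A] e) := by
        change _ = iota₀ A D E R ((1 : D) ⊗ₜ[A] e)
        rw [iota₀_tmul, map_one]
      rw [this]
      exact (iota₀ A D E R).toRingHom.isIntegralElem_map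
    have h4 : (r ⊗ₜ[A] e : R ⊗[A] E) = (r ⊗ₜ[A] (1 : E)) * ((1 : R) ⊗ₜ[A] e) := by
      rw [Algebra.TensorProduct.tmul_mul_tmul, mul_one, one_mul]
    rw [h4]
    exact RingHom.IsIntegralElem.mul _ h1 h3
  | add x y hx hy => exact RingHom.IsIntegralElem.add _ hx hy

/-- the kernel of `R ⊗[A] E → T` is generated by an idempotent -/
theorem exists_idem [IsNoetherianRing R] [Algebra.EssFiniteType A E]
    [Algebra.FormallyUnramified A E] [Module.Flat R T]
    (hsurj : Function.Surjective (mu₁ A E R T)) :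
    ∃ ε : R ⊗[A] E, ε * ε = ε ∧ mu₁ A E R T ε = 0 ∧
      ∀ x : R ⊗[A] E, mu₁ A E R T x = 0 → x * ε = x := by
  classical
  haveI : Algebra.EssFiniteType R (R ⊗[A] E) := inferInstance
  haveI : Algebra.FormallyUnramified R (R ⊗[A] E) := inferInstance
  haveI : Algebra.EssFiniteType R T :=
    Algebra.EssFiniteType.of_surjective (R := R) (S := R ⊗[A] E) (T := T) (mu₁ A E R T) hsurj
  haveI : Algebra.FormallyUnramified R T :=
    Algebra.FormallyUnramified.of_surjective (mu₁ A E R T) hsurj
  haveI : Algebra.FormallyEtale R T :=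
    Groth.Agent.H53.formallyEtale_of_flat_of_formallyUnramified R T
  letI algPT : Algebra (R ⊗[A] E) T := (mu₁ A E R T).toRingHom.toAlgebra
  have halg : ∀ x : R ⊗[A] E, algebraMap (R ⊗[A] E) T x = mu₁ A E R T x := fun _ => rfl
  haveI : IsScalarTower R (R ⊗[A] E) T := IsScalarTower.of_algebraMap_eq (fun r => by
    rw [halg, Algebra.TensorProduct.algebraMap_apply, Algebra.algebraMap_self, RingHom.id_apply,
      mu₁_tmul, map_one, mul_one])
  haveI : Algebra.FormallyEtale (R ⊗[A] E) T :=
    Algebra.FormallyEtale.of_restrictScalars (R := R) (A := R ⊗[A] E) (B := T)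
  have hμsurj : Function.Surjective (algebraMap (R ⊗[A] E) T) := hsurj
  have hidem : IsIdempotentElem (RingHom.ker (algebraMap (R ⊗[A] E) T)) :=
    (Algebra.FormallyEtale.iff_of_surjective hμsurj).mp inferInstance
  haveI : IsNoetherianRing (R ⊗[A] E) := Algebra.EssFiniteType.isNoetherianRing R (R ⊗[A] E)
  obtain ⟨ε, hεidem, hker⟩ := (Ideal.isIdempotentElem_iff_of_fg _
    (IsNoetherian.noetherian (RingHom.ker (algebraMap (R ⊗[A] E) T)))).mp hidem
  refine ⟨ε, hεidem.eq, ?_, ?_⟩
  · have : ε ∈ RingHom.ker (algebraMap (R ⊗[A] E) T) := by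
      rw [hker]
      exact Ideal.mem_span_singleton_self ε
    exact this
  · intro x hx
    have : x ∈ RingHom.ker (algebraMap (R ⊗[A] E) T) := hx
    rw [hker, Ideal.mem_span_singleton'] at this
    obtain ⟨w, rfl⟩ := this
    rw [mul_assoc, hεidem.eq]

end Main

section Key

variable (A D E R T : Type u) [CommRing A] [CommRing D] [CommRing E] [CommRing R] [CommRing T]
  [Algebra A D] [Algebra A E] [Algebra D E] [IsScalarTower A D E]
  [Algebra A R] [Algebra D R] [IsScalarTower A D R]
  [Algebra A T] [Algebra R T] [IsScalarTower A R T]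
  [Algebra E T] [IsScalarTower A E T]
  (hDT : ∀ d : D, algebraMap R T (algebraMap D R d) = algebraMap E T (algebraMap D E d))
  [IsLocalRing D] [IsLocalRing E] [IsLocalHom (algebraMap D E)]
  [Algebra.IsIntegral D R] [Algebra.IsIntegral E T]
  (σ : T →+* R ⊗[A] E)
  (hσE : ∀ e : E, σ (algebraMap E T e) = (1 : R) ⊗ₜ[A] e)
  (C : Set R) (hC : ∀ c ∈ C, σ (algebraMap R T c) = c ⊗ₜ[A] (1 : E))
  (hgen : ∀ r : R, ∃ y ∈ Subring.closure (C ∪ Set.range (algebraMap D R)),
    r - y ∈ Ideal.jacobson (⊥ : Ideal R))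

include hDT hσE hC hgen in
/-- every prime of `R ⊗[A] E` over the distinguished maximal ideal of `D ⊗[A] E` contains the
kernel of the multiplication map -/
theorem ker_mu₁_le (P : Ideal (R ⊗[A] E)) [P.IsPrime]
    (hP : P.comap (iota₀ A D E R) = (maximalIdeal E).comap (mu₀ A D E)) :
    RingHom.ker (mu₁ A E R T) ≤ P := by
  classical
  let Q := (R ⊗[A] E) ⧸ P
  let α : R →+* Q := (Ideal.Quotient.mk P).comp
    (Algebra.TensorProduct.includeLeftRingHom : R →+* R ⊗[A] E)
  let β : T →+* Q := (Ideal.Quotient.mk P).comp σ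
  let βR : R →+* Q := β.comp (algebraMap R T)
  have hα : ∀ r : R, α r = Ideal.Quotient.mk P (r ⊗ₜ[A] (1 : E)) := fun _ => rfl
  have hβ : ∀ t : T, β t = Ideal.Quotient.mk P (σ t) := fun _ => rfl
  -- membership in `P` of elements coming from `D ⊗ E`
  have hmemP : ∀ x : D ⊗[A] E, mu₀ A D E x ∈ maximalIdeal E → iota₀ A D E R x ∈ P := by
    intro x hx
    have : x ∈ P.comap (iota₀ A D E R) := by rw [hP]; exact hx
    exact this
  -- `α` kills `m_D`
  have hαD : ∀ d : D, d ∈ maximalIdeal D → α (algebraMap D R d) = 0 := by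
    intro d hd
    rw [hα, Ideal.Quotient.eq_zero_iff_mem, ← iota₀_tmul]
    apply hmemP
    rw [mu₀_tmul, mul_one]
    exact map_nonunit (algebraMap D E) d hd
  -- `β` kills `m_E`
  have hβE : ∀ e : E, e ∈ maximalIdeal E → β (algebraMap E T e) = 0 := by
    intro e he
    rw [hβ, hσE, Ideal.Quotient.eq_zero_iff_mem]
    have : ((1 : R) ⊗ₜ[A] e : R ⊗[A] E) = iota₀ A D E R ((1 : D) ⊗ₜ[A] e) := by
      rw [iota₀_tmul, map_one]
    rw [this]
    apply hmemP
    rw [mu₀_tmul, map_one, one_mul]
    exact he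
  -- agreement on `D`
  have hagD : ∀ d : D, α (algebraMap D R d) = βR (algebraMap D R d) := by
    intro d
    change α (algebraMap D R d) = β (algebraMap R T (algebraMap D R d))
    rw [hDT, hβ, hσE, hα, Ideal.Quotient.eq]
    have : (algebraMap D R d ⊗ₜ[A] (1 : E) - (1 : R) ⊗ₜ[A] algebraMap D E d : R ⊗[A] E) =
        iota₀ A D E R (d ⊗ₜ[A] (1 : E) - (1 : D) ⊗ₜ[A] algebraMap D E d) := by
      rw [map_sub, iota₀_tmul, iota₀_tmul, map_one]
    rw [this]
    apply hmemP
    rw [map_sub, mu₀_tmul, mu₀_tmul, mul_one, map_one, one_mul, sub_self]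
    exact Ideal.zero_mem _
  -- agreement on `C`
  have hagC : ∀ c ∈ C, α c = βR c := by
    intro c hc
    change α c = β (algebraMap R T c)
    rw [hβ, hC c hc, hα]
  have hag' : α = βR := eq_of_agree D R Q C hgen α βR hαD hagC hagD
  have hag : ∀ r : R, α r = βR r := fun r => congrArg (fun f : R →+* Q => f r) hag'
  -- the two maps on `R ⊗ E`
  have hall : ∀ x : R ⊗[A] E, Ideal.Quotient.mk P x = β (mu₁ A E R T x) := by
    intro x
    induction x using TensorProduct.induction_on with
    | zero => simp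
    | tmul r e =>
      rw [mu₁_tmul, map_mul, hβ (algebraMap E T e), hσE]
      have h5 : β (algebraMap R T r) = α r := (hag r).symm
      rw [h5, hα, ← map_mul, Algebra.TensorProduct.tmul_mul_tmul, mul_one, one_mul]
    | add x y hx hy => rw [map_add, map_add, map_add, hx, hy]
  intro x hx
  have h6 : Ideal.Quotient.mk P x = 0 := by
    rw [hall x, (RingHom.mem_ker).mp hx, map_zero]
  exact Ideal.Quotient.eq_zero_iff_mem.mp h6

include hDT hσE hC hgen in
/-- **Flatness criterion.** -/
theorem flat [IsNoetherianRing R] [Algebra.EssFiniteType A E] [Algebra.FormallyUnramified A E]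
    [Module.Flat A E] [Module.Flat R T]
    (hinj : Function.Injective (algebraMap D R))
    (hσμ : ∀ t : T, mu₁ A E R T (σ t) = t) :
    Module.Flat D E := by
  classical
  have hsurj : Function.Surjective (mu₁ A E R T) := fun t => ⟨σ t, hσμ t⟩
  obtain ⟨ε, hεε, hμε, hεker⟩ := exists_idem A E R T hsurj
  have hι := iota₀_injective A D E R hinj
  let 𝔮 : Ideal (D ⊗[A] E) := (maximalIdeal E).comap (mu₀ A D E)
  haveI h𝔮 : 𝔮.IsPrime := Ideal.comap_isPrime _ _
  let I : Ideal (D ⊗[A] E) := (Ideal.span {1 - ε}).comap (iota₀ A D E R)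
  -- `I` is not contained in `𝔮`
  have hI : ¬ I ≤ 𝔮 := by
    intro hle
    letI alg : Algebra (D ⊗[A] E) (R ⊗[A] E) := (iota₀ A D E R).toRingHom.toAlgebra
    haveI : Algebra.IsIntegral (D ⊗[A] E) (R ⊗[A] E) := ⟨iota₀_isIntegral A D E R⟩
    obtain ⟨P, hIP, hPp, hPc⟩ := Ideal.exists_ideal_over_prime_of_isIntegral 𝔮
      (Ideal.span {1 - ε} : Ideal (R ⊗[A] E)) hle
    haveI := hPp
    have h1 : RingHom.ker (mu₁ A E R T) ≤ P :=
      ker_mu₁_le A D E R T hDT σ hσE C hC hgen P hPc
    have h2 : ε ∈ P := h1 hμε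
    have h3 : 1 - ε ∈ P := hIP (Ideal.mem_span_singleton_self _)
    have h4 : (1 : R ⊗[A] E) ∈ P := by
      have : (1 : R ⊗[A] E) = (1 - ε) + ε := by ring
      rw [this]
      exact P.add_mem h3 h2
    exact hPp.ne_top ((Ideal.eq_top_iff_one P).mpr h4)
  obtain ⟨t, htI, ht𝔮⟩ := Set.not_subset.mp hI
  have htunit : IsUnit (mu₀ A D E t) := by
    by_contra h
    exact ht𝔮 h
  obtain ⟨w, hw⟩ := Ideal.mem_span_singleton'.mp htI
  -- the key property
  have hkey : ∀ x : D ⊗[A] E, mu₀ A D E x = 0 → t * x = 0 := by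
    intro x hx
    apply hι
    rw [map_mul, map_zero]
    have h1 : mu₁ A E R T (iota₀ A D E R x) = 0 := by
      rw [mu₁_iota₀ A D E R T hDT, hx, map_zero]
    have h2 : iota₀ A D E R x * ε = iota₀ A D E R x := hεker _ h1
    rw [← hw, ← h2]
    have : w * (1 - ε) * (iota₀ A D E R x * ε) = w * iota₀ A D E R x * (ε - ε * ε) := by ring
    rw [this, hεε, sub_self, mul_zero]
  -- `E` is a localization of `D ⊗ E`
  let M : Submonoid (D ⊗[A] E) := (IsUnit.submonoid E).comap (mu₀ A D E)
  letI algPE : Algebra (D ⊗[A] E) E := (mu₀ A D E).toRingHom.toAlgebra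
  have halg : ∀ x : D ⊗[A] E, algebraMap (D ⊗[A] E) E x = mu₀ A D E x := fun _ => rfl
  haveI : IsScalarTower D (D ⊗[A] E) E := IsScalarTower.of_algebraMap_eq (fun d => by
    rw [halg, Algebra.TensorProduct.algebraMap_apply, Algebra.algebraMap_self, RingHom.id_apply,
      mu₀_tmul, mul_one])
  haveI : IsLocalization M E := by
    refine ⟨?_, ?_, ?_⟩
    · rintro ⟨y, hy⟩
      exact hy
    · intro e
      refine ⟨((1 : D) ⊗ₜ[A] e, 1), ?_⟩
      rw [halg, halg]
      simp [mu₀_tmul]
    · intro x y hxy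
      refine ⟨⟨t, htunit⟩, ?_⟩
      have h1 : mu₀ A D E (x - y) = 0 := by
        rw [map_sub, sub_eq_zero]
        exact hxy
      have h2 := hkey (x - y) h1
      rw [mul_sub, sub_eq_zero] at h2
      exact h2
  haveI : Module.Flat (D ⊗[A] E) E := IsLocalization.flat E M
  haveI : Module.Flat D (D ⊗[A] E) := inferInstance
  exact Module.Flat.trans D (D ⊗[A] E) E

include hDT hσE hC hgen in
/-- every maximal ideal of `R` is contracted from `T` -/
theorem exists_comap_eq [Algebra.IsAlgebraic (ResidueField D) (ResidueField E)]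
    (N : Ideal R) [hN : N.IsMaximal] :
    ∃ M : Ideal T, M.IsPrime ∧ M.comap (algebraMap R T) = N := by
  classical
  letI : Field (R ⧸ N) := Ideal.Quotient.field N
  let F := AlgebraicClosure (R ⧸ N)
  have hND : N.comap (algebraMap D R) = maximalIdeal D := by
    have h1 : (N.comap (algebraMap D R)).IsMaximal :=
      Ideal.isMaximal_comap_of_isIntegral_of_isMaximal N
    exact IsLocalRing.eq_maximalIdeal h1
  let α : R →+* F := (algebraMap (R ⧸ N) F).comp (Ideal.Quotient.mk N)
  have hαker : ∀ x : R, α x = 0 ↔ x ∈ N := by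
    intro x
    change algebraMap (R ⧸ N) F (Ideal.Quotient.mk N x) = 0 ↔ _
    rw [map_eq_zero_iff _ (algebraMap (R ⧸ N) F).injective, Ideal.Quotient.eq_zero_iff_mem]
  have hαD : ∀ d : D, d ∈ maximalIdeal D → α (algebraMap D R d) = 0 := by
    intro d hd
    rw [hαker]
    have : d ∈ N.comap (algebraMap D R) := by rw [hND]; exact hd
    exact this
  let κ : ResidueField D →+* F :=
    Ideal.Quotient.lift (maximalIdeal D) (α.comp (algebraMap D R)) (fun d hd => hαD d hd)
  have hκ : ∀ d : D, κ (residue D d) = α (algebraMap D R d) := fun d => rfl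
  letI algκ : Algebra (ResidueField D) F := κ.toAlgebra
  let l : ResidueField E →ₐ[ResidueField D] F := IsAlgClosed.lift
  let δ : E →+* F := l.toRingHom.comp (residue E)
  have hδD : ∀ d : D, δ (algebraMap D E d) = α (algebraMap D R d) := by
    intro d
    change l (residue E (algebraMap D E d)) = _
    rw [← IsLocalRing.ResidueField.algebraMap_residue, l.commutes]
    exact hκ d
  have hδE : ∀ e : E, e ∈ maximalIdeal E → δ e = 0 := by
    intro e he
    change l (residue E e) = 0
    rw [(IsLocalRing.residue_eq_zero_iff e).mpr he, map_zero]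
  letI algAF : Algebra A F := (α.comp (algebraMap A R)).toAlgebra
  let αA : R →ₐ[A] F := { α with commutes' := fun a => rfl }
  let δA : E →ₐ[A] F := { δ with
    commutes' := fun a => by
      change δ (algebraMap A E a) = α (algebraMap A R a)
      rw [IsScalarTower.algebraMap_apply A D E, hδD, ← IsScalarTower.algebraMap_apply A D R] }
  let γ : R ⊗[A] E →ₐ[A] F := Algebra.TensorProduct.lift αA δA (fun _ _ => Commute.all _ _)
  have hγ : ∀ (r : R) (e : E), γ (r ⊗ₜ[A] e) = α r * δ e := by
    intro r e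
    simp [γ, αA, δA]
  let β : T →+* F := γ.toRingHom.comp σ
  let βR : R →+* F := β.comp (algebraMap R T)
  have hagC : ∀ c ∈ C, α c = βR c := by
    intro c hc
    change α c = γ (σ (algebraMap R T c))
    rw [hC c hc, hγ, map_one, mul_one]
  have hagD : ∀ d : D, α (algebraMap D R d) = βR (algebraMap D R d) := by
    intro d
    change _ = γ (σ (algebraMap R T (algebraMap D R d)))
    rw [hDT, hσE, hγ, map_one, one_mul, hδD]
  have hag : α = βR := eq_of_agree D R F C hgen α βR hαD hagC hagD
  refine ⟨RingHom.ker β, RingHom.ker_isPrime β, ?_⟩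
  ext x
  rw [Ideal.mem_comap, RingHom.mem_ker, ← hαker, hag]
  rfl

end Key

end Groth.Agent.H14.HensProp.FlatCrit
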