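import Mathlib
import Groth.Agent.H78.TotFrac.Sub

/-!
# The total ring of fractions of a subalgebra of an essentially étale algebra

`A` reduced with finitely many minimal primes, `E` flat quasi-finite over `A`, `F = E[A⁰⁻¹]`,
`D ⊆ E` an `A`-subalgebra.  `KD` is the set of fractions `d / a`, an Artinian ring; the
nonzerodivisors of `D` are units of `F`.
-/

set_option autoImplicit false
set_option linter.style.haveILetI false
set_option linter.unusedSectionVars false
universe u

namespace Groth.Agent.H14.HensProp.TotFracSub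

variable (A E : Type u) [CommRing A] [CommRing E] [Algebra A E]
  (F : Type u) [CommRing F] [Algebra E F] [Algebra A F] [IsScalarTower A E F]
  (D : Subalgebra A E)

/-- the fractions `d / a` with `d ∈ D` and `a` a nonzerodivisor of `A` -/
def KD : Subalgebra A F where
  carrier := {x | ∃ a ∈ nonZeroDivisors A, ∃ d ∈ D, algebraMap A F a * x = algebraMap E F d}
  mul_mem' := by
    rintro x y ⟨a, ha, d, hd, h⟩ ⟨a', ha', d', hd', h'⟩
    refine ⟨a * a', mul_mem ha ha', d * d', D.mul_mem hd hd', ?_⟩
    rw [map_mul, map_mul, ← h, ← h']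
    ring
  add_mem' := by
    rintro x y ⟨a, ha, d, hd, h⟩ ⟨a', ha', d', hd', h'⟩
    refine ⟨a * a', mul_mem ha ha', algebraMap A E a' * d + algebraMap A E a * d',
      D.add_mem (D.mul_mem (D.algebraMap_mem a') hd) (D.mul_mem (D.algebraMap_mem a) hd'), ?_⟩
    rw [map_add, map_mul, map_mul, map_mul, ← h, ← h', ← IsScalarTower.algebraMap_apply,
      ← IsScalarTower.algebraMap_apply]
    ring
  one_mem' := ⟨1, one_mem _, 1, D.one_mem, by simp⟩
  zero_mem' := ⟨1, one_mem _, 0, D.zero_mem, by simp⟩
  algebraMap_mem' := fun r => ⟨1, one_mem _, algebraMap A E r, D.algebraMap_mem r, by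
    rw [map_one, one_mul, ← IsScalarTower.algebraMap_apply]⟩

theorem mem_KD (x : F) : x ∈ KD A E F D ↔
    ∃ a ∈ nonZeroDivisors A, ∃ d ∈ D, algebraMap A F a * x = algebraMap E F d := Iff.rfl

theorem algebraMap_mem_KD (d : E) (hd : d ∈ D) : algebraMap E F d ∈ KD A E F D :=
  ⟨1, one_mem _, d, hd, by rw [map_one, one_mul]⟩

section Artinian

variable [IsReduced A] (hmin : (minimalPrimes A).Finite) [Module.Flat A E]
  [Algebra.QuasiFinite A E] [IsLocalization ((nonZeroDivisors A).map (algebraMap A E)) F]

include hmin in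
/-- a nonzerodivisor of `D` is a unit of `F` -/
theorem isUnit_of_mem_nonZeroDivisors (hEF : Function.Injective (algebraMap E F))
    (d : D) (hd : d ∈ nonZeroDivisors D) : IsUnit (algebraMap E F (d : E)) := by
  classical
  set M : Submonoid E := (nonZeroDivisors A).map (algebraMap A E) with hMdef
  let K := FractionRing A
  have hg : ∀ y : nonZeroDivisors A, IsUnit (algebraMap A F y) := by
    intro y
    rw [IsScalarTower.algebraMap_apply A E F]
    exact IsLocalization.map_units F (⟨algebraMap A E y, ⟨y, y.2, rfl⟩⟩ : M)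
  letI : Algebra K F := (IsLocalization.lift hg).toAlgebra
  haveI : IsScalarTower A K F := IsScalarTower.of_algebraMap_eq' (IsLocalization.lift_comp hg).symm
  haveI : Algebra.QuasiFinite A F := Algebra.QuasiFinite.of_isLocalization M
  haveI : Algebra.QuasiFinite K F := Algebra.QuasiFinite.of_restrictScalars A K F
  haveI : IsArtinianRing K := Groth.Agent.H78.TotFrac.isArtinianRing_of_isLocalization hmin K
  haveI : Module.Finite K F := Module.Finite.of_quasiFinite
  haveI : IsNoetherianRing K := inferInstance
  haveI : IsNoetherian K F := isNoetherian_of_isNoetherianRing_of_finite K F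
  let L := KD A E F D
  have hKmem : ∀ k : K, algebraMap K F k ∈ L := by
    intro k
    obtain ⟨a, b, rfl⟩ := IsLocalization.exists_mk'_eq (nonZeroDivisors A) k
    refine ⟨b, b.2, algebraMap A E a, D.algebraMap_mem a, ?_⟩
    rw [IsScalarTower.algebraMap_apply A K F, ← map_mul, mul_comm, IsLocalization.mk'_spec,
      ← IsScalarTower.algebraMap_apply, ← IsScalarTower.algebraMap_apply]
  let LK : Subalgebra K F :=
    { carrier := L
      mul_mem' := fun ha hb => L.mul_mem ha hb
      add_mem' := fun ha hb => L.add_mem ha hb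
      algebraMap_mem' := hKmem }
  haveI : Module.Finite K LK := Module.Finite.of_injective LK.val.toLinearMap Subtype.val_injective
  haveI : IsArtinianRing LK := IsArtinianRing.of_finite K LK
  let x' : LK := ⟨algebraMap E F (d : E), algebraMap_mem_KD A E F D d d.2⟩
  have hx' : x' ∈ nonZeroDivisors LK := by
    rw [mem_nonZeroDivisors_iff_right]
    rintro ⟨z, a, ha, d', hd', hz⟩ hzx
    have h1 : z * algebraMap E F (d : E) = 0 := congrArg Subtype.val hzx
    have h2 : algebraMap E F (d' * (d : E)) = 0 := by
      rw [map_mul, ← hz, mul_assoc, h1, mul_zero]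
    have h3 : d' * (d : E) = 0 := hEF (by rw [h2, map_zero])
    have h4 : (⟨d', hd'⟩ : D) * d = 0 := Subtype.ext h3
    have h5 : (⟨d', hd'⟩ : D) = 0 := (mem_nonZeroDivisors_iff_right.mp hd) _ h4
    have h6 : d' = 0 := congrArg Subtype.val h5
    have h7 : algebraMap A F a * z = 0 := by rw [hz, h6, map_zero]
    have h8 : z = 0 := (hg ⟨a, ha⟩).mul_right_eq_zero.mp h7
    exact Subtype.ext h8
  have hu : IsUnit x' := IsArtinianRing.isUnit_of_mem_nonZeroDivisors hx'
  exact hu.map LK.val

include hmin in
/-- units of `F` in `KD` are units of `KD` -/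
theorem exists_inv_mem_KD (x : F) (hx : x ∈ KD A E F D) (hxu : IsUnit x) :
    ∃ y ∈ KD A E F D, x * y = 1 := by
  refine Groth.Agent.H78.TotFrac.exists_inv_mem A E hmin F (KD A E F D) ?_ x hx hxu
  intro s hs
  have hu : IsUnit (algebraMap A F s) := by
    rw [IsScalarTower.algebraMap_apply A E F]
    exact IsLocalization.map_units F
      (⟨algebraMap A E s, ⟨s, hs, rfl⟩⟩ : (nonZeroDivisors A).map (algebraMap A E))
  obtain ⟨y, hy⟩ := hu.exists_right_inv
  exact ⟨y, ⟨s, hs, 1, D.one_mem, by rw [hy, map_one]⟩, hy⟩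

end Artinian

end Groth.Agent.H14.HensProp.TotFracSub
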