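import Mathlib
import Groth.Agent.H14.HensProp.TotFracSub
import Groth.Agent.H38.TotalFrac3

/-!
# The normalization of a subalgebra of an essentially étale algebra, inside the total ring of
fractions of the big algebra
-/

set_option autoImplicit false
set_option linter.style.haveILetI false
set_option linter.unusedSectionVars false
universe u

namespace Groth.Agent.H14.HensProp.NormEquiv

open Groth.Agent.H14.HensProp.TotFracSub

section VNR

variable (R : Type u) [CommRing R] [IsReduced R] [Finite (Groth.Agent.H38.MinPrime R)]

/-- the total ring of fractions of a reduced ring with finitely many minimal primes is von Neumann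
regular -/
theorem exists_pseudoInv (z : FractionRing R) : ∃ y : FractionRing R, z * z * y = z := by
  classical
  let e := Groth.Agent.H38.totalFracEquiv (A := R)
  refine ⟨e.symm (fun p => (e z p)⁻¹), ?_⟩
  apply e.injective
  rw [map_mul, map_mul, AlgEquiv.apply_symm_apply]
  funext p
  exact mul_self_mul_inv (e z p)

end VNR

section MinPrimes

variable {D E : Type u} [CommRing D] [CommRing E] (f : D →+* E)

theorem finite_minPrime_of_injective (hf : Function.Injective f)
    (hE : (minimalPrimes E).Finite) : Finite (Groth.Agent.H38.MinPrime D) := by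
  have h1 : (minimalPrimes D).Finite := by
    have h2 : minimalPrimes D ⊆ Ideal.comap f '' minimalPrimes E := by
      have := Ideal.minimalPrimes_comap_subset f (⊥ : Ideal E)
      rwa [Ideal.comap_bot_of_injective f hf] at this
    exact (hE.image _).subset h2
  haveI : Finite ↥(minimalPrimes D) := h1
  exact Finite.of_injective
    (fun p : Groth.Agent.H38.MinPrime D => (⟨p.1.asIdeal, p.2⟩ : ↥(minimalPrimes D)))
    (fun p q h => Subtype.ext (PrimeSpectrum.ext (congrArg Subtype.val h)))

end MinPrimes

section Main

variable (A E : Type u) [CommRing A] [CommRing E] [Algebra A E]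
  (F : Type u) [CommRing F] [Algebra E F] [Algebra A F] [IsScalarTower A E F]
  (D : Subalgebra A E)
  [IsReduced A] (hmin : (minimalPrimes A).Finite) [Module.Flat A E]
  [Algebra.QuasiFinite A E] [IsLocalization ((nonZeroDivisors A).map (algebraMap A E)) F]
  (hEF : Function.Injective (algebraMap E F))

/-- the map from the total ring of fractions of `D` -/
noncomputable def phi : FractionRing D →ₐ[D] F :=
  IsLocalization.liftAlgHom (M := nonZeroDivisors D) (f := Algebra.ofId D F)
    (fun y => isUnit_of_mem_nonZeroDivisors A E F D hmin hEF y y.2)

theorem phi_algebraMap (d : D) :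
    phi A E F D hmin hEF (algebraMap D (FractionRing D) d) = algebraMap E F (d : E) := by
  rw [AlgHom.commutes]
  rfl

theorem phi_injective : Function.Injective (phi A E F D hmin hEF) := by
  change Function.Injective (phi A E F D hmin hEF).toRingHom
  rw [IsLocalization.injective_iff_map_algebraMap_eq (nonZeroDivisors D)]
  intro x y
  constructor
  · intro h
    exact congrArg (phi A E F D hmin hEF) h
  · intro h
    change phi A E F D hmin hEF (algebraMap _ _ x) = phi A E F D hmin hEF (algebraMap _ _ y) at h
    rw [phi_algebraMap, phi_algebraMap] at h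
    rw [Subtype.ext (hEF h)]

theorem phi_mem_KD (z : FractionRing D) : phi A E F D hmin hEF z ∈ KD A E F D := by
  obtain ⟨d, s, rfl⟩ := IsLocalization.exists_mk'_eq (nonZeroDivisors D) z
  have hu : IsUnit (algebraMap E F ((s : D) : E)) :=
    isUnit_of_mem_nonZeroDivisors A E F D hmin hEF s s.2
  obtain ⟨y, hy, hsy⟩ := exists_inv_mem_KD A E F D hmin _
    (algebraMap_mem_KD A E F D _ (s : D).2) hu
  have h1 : phi A E F D hmin hEF (IsLocalization.mk' (FractionRing D) d s) *
      algebraMap E F ((s : D) : E) = algebraMap E F (d : E) := by
    rw [← phi_algebraMap A E F D hmin hEF, ← map_mul, IsLocalization.mk'_spec, phi_algebraMap]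
  have h2 : phi A E F D hmin hEF (IsLocalization.mk' (FractionRing D) d s) =
      algebraMap E F (d : E) * y := by
    rw [← h1, mul_assoc, hsy, mul_one]
  rw [h2]
  exact (KD A E F D).mul_mem (algebraMap_mem_KD A E F D _ d.2) hy

theorem exists_phi_eq (x : F) (hx : x ∈ KD A E F D) : ∃ z, phi A E F D hmin hEF z = x := by
  obtain ⟨a, ha, d, hd, h⟩ := hx
  have hau : IsUnit (algebraMap A F a) := by
    rw [IsScalarTower.algebraMap_apply A E F]
    exact IsLocalization.map_units F
      (⟨algebraMap A E a, ⟨a, ha, rfl⟩⟩ : (nonZeroDivisors A).map (algebraMap A E))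
  -- `a` is a nonzerodivisor of `D`
  have haD : algebraMap A D a ∈ nonZeroDivisors D := by
    rw [mem_nonZeroDivisors_iff_right]
    intro z hz
    have h1 : algebraMap E F ((z : D) : E) * algebraMap A F a = 0 := by
      rw [IsScalarTower.algebraMap_apply A E F, ← map_mul]
      have : ((z : D) : E) * algebraMap A E a = 0 := congrArg Subtype.val hz
      rw [this, map_zero]
    have h2 : algebraMap E F ((z : D) : E) = 0 := hau.mul_left_eq_zero.mp h1
    have h2' : ((z : D) : E) = 0 := hEF (by rw [h2, map_zero])
    exact Subtype.ext h2'
  refine ⟨IsLocalization.mk' (FractionRing D) (⟨d, hd⟩ : D) ⟨algebraMap A D a, haD⟩, ?_⟩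
  have h3 : phi A E F D hmin hEF (IsLocalization.mk' (FractionRing D) (⟨d, hd⟩ : D)
      ⟨algebraMap A D a, haD⟩) * algebraMap A F a = algebraMap E F d := by
    have : algebraMap A F a = phi A E F D hmin hEF
        (algebraMap D (FractionRing D) (algebraMap A D a)) := by
      rw [phi_algebraMap]
      exact IsScalarTower.algebraMap_apply A E F a
    rw [this, ← map_mul, IsLocalization.mk'_spec, phi_algebraMap]
  apply hau.mul_left_cancel
  rw [h, ← h3, mul_comm]

variable (D' : Subalgebra A F)
  (hD' : ∀ x : F, x ∈ D' ↔ (IsIntegral D x ∧
      ∃ a ∈ nonZeroDivisors A, ∃ d ∈ D, algebraMap A F a * x = algebraMap E F d))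

/-- the comparison map from the abstract normalization to the normalization inside `F` -/
noncomputable def thetaHom : integralClosure D (FractionRing D) →+* D' where
  toFun z := ⟨phi A E F D hmin hEF z, (hD' _).mpr
    ⟨z.2.map (phi A E F D hmin hEF), phi_mem_KD A E F D hmin hEF z⟩⟩
  map_one' := Subtype.ext (by simp)
  map_mul' x y := Subtype.ext (by simp)
  map_zero' := Subtype.ext (by simp)
  map_add' x y := Subtype.ext (by simp)

theorem thetaHom_coe (z : integralClosure D (FractionRing D)) :
    (thetaHom A E F D hmin hEF D' hD' z : F) = phi A E F D hmin hEF z := rfl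

theorem thetaHom_bijective : Function.Bijective (thetaHom A E F D hmin hEF D' hD') := by
  constructor
  · intro x y h
    apply Subtype.ext
    apply phi_injective A E F D hmin hEF
    exact congrArg Subtype.val h
  · intro x
    obtain ⟨hint, hK⟩ := (hD' _).mp x.2
    obtain ⟨z, hz⟩ := exists_phi_eq A E F D hmin hEF x hK
    have hzint : IsIntegral D z := by
      rw [← isIntegral_algHom_iff (phi A E F D hmin hEF) (phi_injective A E F D hmin hEF), hz]
      exact hint
    exact ⟨⟨z, hzint⟩, Subtype.ext hz⟩

/-- the normalization inside `F` is isomorphic to the abstract normalization -/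
noncomputable def theta : integralClosure D (FractionRing D) ≃+* D' :=
  RingEquiv.ofBijective (thetaHom A E F D hmin hEF D' hD') (thetaHom_bijective A E F D hmin hEF D' hD')

theorem theta_coe (z : integralClosure D (FractionRing D)) :
    (theta A E F D hmin hEF D' hD' z : F) = phi A E F D hmin hEF z := rfl

variable [IsReduced E] (hEmin : (minimalPrimes E).Finite)

include D hD' hmin hEF hEmin in
/-- all localizations of the normalization are integrally closed domains -/
theorem normal_localization (N : Ideal D') [hN : N.IsPrime] :
    IsDomain (Localization.AtPrime N) ∧ IsIntegrallyClosed (Localization.AtPrime N) := by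
  haveI : IsReduced D := isReduced_of_injective D.val Subtype.val_injective
  haveI : Finite (Groth.Agent.H38.MinPrime D) :=
    finite_minPrime_of_injective D.val.toRingHom Subtype.val_injective hEmin
  exact Groth.Agent.H38.localization_isDomain_isIntegrallyClosed_of_equiv
    (theta A E F D hmin hEF D' hD').symm
    (fun P' => Groth.Agent.H38.localization_integralClosure (A := D) P') ⟨N, hN⟩

include D hD' hmin hEF hEmin in
/-- support idempotents -/
theorem exists_support_idem (x : D') :
    ∃ e : D', e * e = e ∧ e * x = x ∧ ∀ t : F, t * (x : F) = 0 → t * (e : F) = 0 := by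
  haveI : IsReduced D := isReduced_of_injective D.val Subtype.val_injective
  haveI : Finite (Groth.Agent.H38.MinPrime D) :=
    finite_minPrime_of_injective D.val.toRingHom Subtype.val_injective hEmin
  let θ := theta A E F D hmin hEF D' hD'
  let z : integralClosure D (FractionRing D) := θ.symm x
  obtain ⟨y, hy⟩ := exists_pseudoInv D (z : FractionRing D)
  have hidem : ((z : FractionRing D) * y) * ((z : FractionRing D) * y) = (z : FractionRing D) * y := by
    calc ((z : FractionRing D) * y) * ((z : FractionRing D) * y)
        = ((z : FractionRing D) * (z : FractionRing D) * y) * y := by ring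
      _ = (z : FractionRing D) * y := by rw [hy]
  have hint : IsIntegral D ((z : FractionRing D) * y) := by
    refine ⟨Polynomial.X ^ 2 - Polynomial.X, Polynomial.monic_X_pow_sub
      (lt_of_le_of_lt Polynomial.degree_X_le (by norm_num)), ?_⟩
    simp only [Polynomial.eval₂_sub, Polynomial.eval₂_pow, Polynomial.eval₂_X]
    rw [pow_two, hidem, sub_self]
  let e'' : integralClosure D (FractionRing D) := ⟨(z : FractionRing D) * y, hint⟩
  have he''z : e'' * z = z := by
    apply Subtype.ext
    change (z : FractionRing D) * y * (z : FractionRing D) = z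
    calc (z : FractionRing D) * y * (z : FractionRing D)
        = (z : FractionRing D) * (z : FractionRing D) * y := by ring
      _ = z := hy
  refine ⟨θ e'', ?_, ?_, ?_⟩
  · rw [← map_mul]
    congr 1
    exact Subtype.ext hidem
  · have hx : x = θ z := (θ.apply_symm_apply x).symm
    rw [hx, ← map_mul, he''z]
  · intro t ht
    have hx : (x : F) = phi A E F D hmin hEF (z : FractionRing D) := by
      have : x = θ z := (θ.apply_symm_apply x).symm
      rw [this]
      rfl
    have he : ((θ e'' : D') : F) = phi A E F D hmin hEF (z : FractionRing D) *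
        phi A E F D hmin hEF y := by
      change phi A E F D hmin hEF ((z : FractionRing D) * y) = _
      rw [map_mul]
    rw [he, ← mul_assoc, ← hx, ht, zero_mul]

end Main

end Groth.Agent.H14.HensProp.NormEquiv
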