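import Mathlib
import Groth.Agent.H14.HensProp.UnramFlat
import Groth.Agent.H14.GeomUnibranchNormal

/-!
# Flatness of an unramified algebra over a normal ring

`A₀ → R → T` with `T` essentially of finite type and formally unramified over `A₀`, all
localizations of `R` at primes integrally closed domains, and `R → T` "locally injective".
Then `T` is flat over `R`.
-/

set_option autoImplicit false
set_option linter.style.haveILetI false
set_option linter.unusedSectionVars false
universe u

namespace Groth.Agent.H14.HensProp.NormalFlat

open IsLocalRing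

variable (A₀ R T : Type u) [CommRing A₀] [CommRing R] [CommRing T]
  [Algebra A₀ R] [Algebra R T] [Algebra A₀ T] [IsScalarTower A₀ R T]
  [Algebra.EssFiniteType A₀ T] [Algebra.FormallyUnramified A₀ T]

include A₀ in
/-- local flatness -/
theorem flat_localization (M : Ideal T) [M.IsPrime]
    (hnorm : IsDomain (Localization.AtPrime (M.comap (algebraMap R T))) ∧
      IsIntegrallyClosed (Localization.AtPrime (M.comap (algebraMap R T))))
    (hker : ∀ (x : R) (t : T), t ∉ M → t * algebraMap R T x = 0 →
      ∃ s : R, s ∉ M.comap (algebraMap R T) ∧ s * x = 0) :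
    Module.Flat R (Localization.AtPrime M) := by
  let N : Ideal R := M.comap (algebraMap R T)
  haveI hN : N.IsPrime := Ideal.comap_isPrime _ _
  let RN := Localization.AtPrime N
  let TM := Localization.AtPrime M
  obtain ⟨hdom, hic⟩ := hnorm
  haveI : IsDomain RN := hdom
  haveI : IsIntegrallyClosed RN := hic
  let φ : RN →+* TM := Localization.localRingHom N M (algebraMap R T) rfl
  letI algRT : Algebra RN TM := φ.toAlgebra
  have hφ : ∀ r : R, φ (algebraMap R RN r) = algebraMap T TM (algebraMap R T r) :=
    fun r => Localization.localRingHom_to_map N M (algebraMap R T) rfl r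
  haveI : IsLocalHom (algebraMap RN TM) := Localization.isLocalHom_localRingHom N M _ rfl
  haveI tow1 : IsScalarTower R RN TM := IsScalarTower.of_algebraMap_eq (fun r => by
    rw [IsScalarTower.algebraMap_apply R T TM]
    exact (hφ r).symm)
  haveI tow2 : IsScalarTower A₀ RN TM := IsScalarTower.of_algebraMap_eq (fun a => by
    rw [IsScalarTower.algebraMap_apply A₀ R RN, IsScalarTower.algebraMap_apply A₀ T TM,
      IsScalarTower.algebraMap_apply A₀ R T]
    exact (hφ _).symm)
  haveI : Algebra.EssFiniteType A₀ TM := Algebra.EssFiniteType.comp A₀ T TM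
  haveI : Algebra.EssFiniteType RN TM := Algebra.EssFiniteType.of_comp A₀ RN TM
  haveI : Algebra.FormallyUnramified T TM := Algebra.FormallyUnramified.of_isLocalization M.primeCompl
  haveI : Algebra.FormallyUnramified A₀ TM := Algebra.FormallyUnramified.comp A₀ T TM
  haveI : Algebra.FormallyUnramified RN TM := Algebra.FormallyUnramified.of_restrictScalars A₀ RN TM
  have hinj : Function.Injective (algebraMap RN TM) := by
    rw [injective_iff_map_eq_zero]
    intro y hy
    obtain ⟨x, s, rfl⟩ := IsLocalization.exists_mk'_eq N.primeCompl y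
    change φ (IsLocalization.mk' RN x s) = 0 at hy
    rw [Localization.localRingHom_mk', IsLocalization.mk'_eq_zero_iff] at hy
    obtain ⟨t, ht⟩ := hy
    obtain ⟨s', hs', hs'x⟩ := hker x t t.2 ht
    rw [IsLocalization.mk'_eq_zero_iff]
    exact ⟨⟨s', hs'⟩, hs'x⟩
  have hgu : CAlg2.IsGeomUnibranch RN := Groth.Agent.H14.isGeomUnibranch_of_isIntegrallyClosed RN
  haveI : Module.Flat RN TM := UnramFlat.flat_of_unramified_of_injective RN TM hgu hinj
  exact Module.Flat.trans R RN TM

include A₀ in
/-- global flatness -/
theorem flat_of_normal_of_unramified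
    (hnorm : ∀ (N : Ideal R) [N.IsPrime],
      IsDomain (Localization.AtPrime N) ∧ IsIntegrallyClosed (Localization.AtPrime N))
    (hker : ∀ (M : Ideal T) [M.IsMaximal] (x : R) (t : T), t ∉ M → t * algebraMap R T x = 0 →
      ∃ s : R, s ∉ M.comap (algebraMap R T) ∧ s * x = 0) :
    Module.Flat R T := by
  apply Module.flat_of_isLocalized_maximal T T (fun P => Localization.AtPrime P)
    (fun P => Algebra.linearMap T _)
  intro P hP
  haveI : (P.comap (algebraMap R T)).IsPrime := Ideal.comap_isPrime _ _
  exact flat_localization A₀ R T P (hnorm _) (hker P)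

end Groth.Agent.H14.HensProp.NormalFlat
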