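import Mathlib
import Groth.Agent.H53.FlatUnramEtale

/-!
# Descent of essential finiteness along a flat local map into an unramified algebra

`A → D → E` with `D`, `E` local, `D → E` local and flat, `D` Noetherian, and `E` flat, essentially
of finite type and formally unramified over `A`.  Then `D` is essentially of finite type over `A`.

Idea: `E` is formally étale over `D`, so the kernel of `D ⊗[A] E → E` is generated by an
idempotent `ε`, which is defined over an essentially finite type local subalgebra `B₁` of `D`;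
then `E` is flat over `B₁` and `E ⊗[B₁] D = E`, whence `B₁ = D` by faithful flatness.
-/

set_option autoImplicit false
set_option linter.style.haveILetI false
universe u

namespace Groth.Agent.H14.HensProp.FlatSub

open IsLocalRing TensorProduct

section Finset

variable (A D E : Type u) [CommRing A] [CommRing D] [CommRing E] [Algebra A D] [Algebra A E]

/-- every element of `D ⊗[A] E` comes from `B ⊗[A] E` for a finitely generated subalgebra `B` -/
theorem exists_finset_mem_range (x : D ⊗[A] E) :
    ∃ (s : Finset D) (y : (Algebra.adjoin A (s : Set D)) ⊗[A] E),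
      Algebra.TensorProduct.map (Algebra.adjoin A (s : Set D)).val (AlgHom.id A E) y = x := by
  classical
  obtain ⟨k, d, e, rfl⟩ := TensorProduct.exists_sum_tmul_eq x
  let s : Finset D := Finset.univ.image d
  have hd : ∀ i, d i ∈ Algebra.adjoin A (s : Set D) := fun i =>
    Algebra.subset_adjoin (Finset.mem_coe.mpr (Finset.mem_image_of_mem d (Finset.mem_univ i)))
  refine ⟨s, ∑ i, (⟨d i, hd i⟩ : Algebra.adjoin A (s : Set D)) ⊗ₜ[A] e i, ?_⟩
  rw [map_sum]
  refine Finset.sum_congr rfl fun i _ => ?_
  rw [Algebra.TensorProduct.map_tmul]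
  rfl

end Finset

section Idem

variable (A D E : Type u) [CommRing A] [CommRing D] [CommRing E]
  [Algebra A D] [Algebra D E] [Algebra A E] [IsScalarTower A D E]

/-- the multiplication map `D ⊗[A] E → E` -/
noncomputable def mulMap : D ⊗[A] E →ₐ[D] E :=
  Algebra.TensorProduct.lift (Algebra.ofId D E) (AlgHom.id A E) (fun _ _ => Commute.all _ _)

theorem mulMap_tmul (d : D) (e : E) : mulMap A D E (d ⊗ₜ[A] e) = algebraMap D E d * e := by
  simp [mulMap]

/-- the kernel of the multiplication map is generated by an idempotent, when `E` is flat,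
essentially of finite type and unramified over the Noetherian ring `D` -/
theorem exists_idem [IsNoetherianRing D] [Algebra.EssFiniteType A E]
    [Algebra.FormallyUnramified A E] [Module.Flat D E] :
    ∃ ε : D ⊗[A] E, ε * ε = ε ∧ mulMap A D E ε = 0 ∧
      ∀ x : D ⊗[A] E, mulMap A D E x = 0 → x * ε = x := by
  classical
  haveI : Algebra.EssFiniteType D E := Algebra.EssFiniteType.of_comp A D E
  haveI : Algebra.FormallyUnramified D E := Algebra.FormallyUnramified.of_restrictScalars A D E
  haveI : Algebra.FormallyEtale D E := Groth.Agent.H53.formallyEtale_of_flat_of_formallyUnramified D E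
  letI algPE : Algebra (D ⊗[A] E) E := (mulMap A D E).toRingHom.toAlgebra
  have halgPE : ∀ x : D ⊗[A] E, algebraMap (D ⊗[A] E) E x = mulMap A D E x := fun _ => rfl
  haveI : IsScalarTower D (D ⊗[A] E) E := IsScalarTower.of_algebraMap_eq (fun d => by
    rw [halgPE, Algebra.TensorProduct.algebraMap_apply, Algebra.algebraMap_self, RingHom.id_apply,
      mulMap_tmul, mul_one])
  haveI : Algebra.FormallyUnramified D (D ⊗[A] E) := inferInstance
  haveI : Algebra.FormallyEtale (D ⊗[A] E) E :=
    Algebra.FormallyEtale.of_restrictScalars (R := D) (A := D ⊗[A] E) (B := E)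
  have hμsurj : Function.Surjective (algebraMap (D ⊗[A] E) E) := by
    intro e
    refine ⟨1 ⊗ₜ[A] e, ?_⟩
    rw [halgPE, mulMap_tmul, map_one, one_mul]
  have hidem : IsIdempotentElem (RingHom.ker (algebraMap (D ⊗[A] E) E)) :=
    (Algebra.FormallyEtale.iff_of_surjective hμsurj).mp inferInstance
  haveI : Algebra.EssFiniteType D (D ⊗[A] E) := inferInstance
  haveI : IsNoetherianRing (D ⊗[A] E) := Algebra.EssFiniteType.isNoetherianRing D (D ⊗[A] E)
  obtain ⟨ε, hεidem, hker⟩ := (Ideal.isIdempotentElem_iff_of_fg _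
    (IsNoetherian.noetherian (RingHom.ker (algebraMap (D ⊗[A] E) E)))).mp hidem
  refine ⟨ε, hεidem.eq, ?_, ?_⟩
  · have : ε ∈ RingHom.ker (algebraMap (D ⊗[A] E) E) := by
      rw [hker]
      exact Ideal.mem_span_singleton_self ε
    exact this
  · intro x hx
    have : x ∈ RingHom.ker (algebraMap (D ⊗[A] E) E) := hx
    rw [hker, Ideal.mem_span_singleton'] at this
    obtain ⟨w, rfl⟩ := this
    rw [mul_assoc, hεidem.eq]

end Idem

section Descent

variable (A B D E : Type u) [CommRing A] [CommRing B] [CommRing D] [CommRing E]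
  [IsLocalRing B] [IsLocalRing E] [Algebra A B] [Algebra A D] [Algebra A E] [Algebra B D]
  [Algebra B E] [Algebra D E] [IsScalarTower A B D] [IsScalarTower A D E] [IsScalarTower B D E]
  [IsScalarTower A B E] [IsLocalHom (algebraMap B E)] [Module.Flat A E]

/-- if the idempotent generating the kernel of `D ⊗[A] E → E` is defined over the local subring
`B` of `D`, then `B = D` -/
theorem surjective_of_idem (hinj : Function.Injective (algebraMap B D))
    (ε : D ⊗[A] E) (_hεidem : ε * ε = ε) (hμε : mulMap A D E ε = 0)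
    (hkermul : ∀ x : D ⊗[A] E, mulMap A D E x = 0 → x * ε = x)
    (ε₁ : B ⊗[A] E)
    (hε₁ : Algebra.TensorProduct.map (IsScalarTower.toAlgHom A B D) (AlgHom.id A E) ε₁ = ε) :
    Function.Surjective (algebraMap B D) := by
  classical
  let j : B →ₐ[A] D := IsScalarTower.toAlgHom A B D
  have hjb : ∀ b : B, j b = algebraMap B D b := fun _ => rfl
  let J1 : B ⊗[A] E →ₐ[A] D ⊗[A] E := Algebra.TensorProduct.map j (AlgHom.id A E)
  have hJ1tmul : ∀ (b : B) (e : E), J1 (b ⊗ₜ[A] e) = (algebraMap B D b) ⊗ₜ[A] e := by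
    intro b e
    simp [J1, j]
  have hJ1ε : J1 ε₁ = ε := hε₁
  have hJ1inj : Function.Injective J1 := by
    have h1 : Function.Injective (j.toLinearMap.rTensor E) :=
      Module.Flat.rTensor_preserves_injective_linearMap (M := E) j.toLinearMap hinj
    have h2 : ∀ z, J1 z = j.toLinearMap.rTensor E z := by
      intro z
      induction z using TensorProduct.induction_on with
      | zero => simp
      | add x y hx hy => simp only [map_add, hx, hy]
      | tmul b e => rw [hJ1tmul]; rfl
    intro x y hxy
    apply h1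
    rw [← h2, ← h2, hxy]
  have hμJ : ∀ z : B ⊗[A] E, mulMap A D E (J1 z) = mulMap A B E z := by
    intro z
    induction z using TensorProduct.induction_on with
    | zero => simp
    | add x y hx hy => simp only [map_add, hx, hy]
    | tmul b e =>
      rw [hJ1tmul, mulMap_tmul, mulMap_tmul, ← IsScalarTower.algebraMap_apply]
  have hμ₁ε : mulMap A B E ε₁ = 0 := by rw [← hμJ, hJ1ε, hμε]
  have key3 : ∀ z : B ⊗[A] E, mulMap A B E z = 0 → z * ε₁ = z := by
    intro z hz
    apply hJ1inj
    rw [map_mul, hJ1ε]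
    apply hkermul
    rw [hμJ, hz]
  -- `E` is flat over `B`
  haveI : Module.Flat B (B ⊗[A] E) := inferInstance
  let ι : E →ₗ[B] B ⊗[A] E :=
    { toFun := fun e => ((1 : B) ⊗ₜ[A] e) * (1 - ε₁)
      map_add' := fun e e' => by rw [TensorProduct.tmul_add, add_mul]
      map_smul' := fun b e => by
        rw [RingHom.id_apply, ← smul_mul_assoc, TensorProduct.smul_tmul', smul_eq_mul, mul_one,
          Algebra.smul_def]
        have hz : mulMap A B E ((1 : B) ⊗ₜ[A] (algebraMap B E b * e) - b ⊗ₜ[A] e) = 0 := by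
          rw [map_sub, mulMap_tmul, mulMap_tmul, map_one, one_mul, sub_self]
        have h3 := key3 _ hz
        rw [← sub_eq_zero]
        have h4 : (1 : B) ⊗ₜ[A] ((algebraMap B E) b * e) * (1 - ε₁) - b ⊗ₜ[A] e * (1 - ε₁) =
            ((1 : B) ⊗ₜ[A] ((algebraMap B E) b * e) - b ⊗ₜ[A] e) -
              ((1 : B) ⊗ₜ[A] ((algebraMap B E) b * e) - b ⊗ₜ[A] e) * ε₁ := by ring
        rw [h4, h3, sub_self] }
  have hιe : ∀ e : E, ι e = ((1 : B) ⊗ₜ[A] e) * (1 - ε₁) := fun _ => rfl
  have hretr : (mulMap A B E).toLinearMap.comp ι = LinearMap.id := by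
    apply LinearMap.ext
    intro e
    rw [LinearMap.comp_apply, hιe, AlgHom.toLinearMap_apply, map_mul, map_sub, map_one, hμ₁ε,
      sub_zero, mul_one, mulMap_tmul, map_one, one_mul, LinearMap.id_apply]
  haveI : Module.Flat B E := Module.Flat.of_retract ι (mulMap A B E).toLinearMap hretr
  haveI : Module.FaithfullyFlat B E := Module.FaithfullyFlat.of_flat_of_isLocalHom
  -- the quotient map to `E ⊗[B] D`
  let fD : D →ₐ[A] E ⊗[B] D :=
    (Algebra.TensorProduct.includeRight : D →ₐ[B] E ⊗[B] D).restrictScalars A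
  let fE : E →ₐ[A] E ⊗[B] D :=
    (Algebra.TensorProduct.includeLeft : E →ₐ[B] E ⊗[B] D).restrictScalars A
  let θ : D ⊗[A] E →ₐ[A] E ⊗[B] D :=
    Algebra.TensorProduct.lift fD fE (fun _ _ => Commute.all _ _)
  have hθ : ∀ (d : D) (e : E), θ (d ⊗ₜ[A] e) = e ⊗ₜ[B] d := by
    intro d e
    simp [θ, fD, fE]
  have hθJ : ∀ z : B ⊗[A] E, θ (J1 z) = (mulMap A B E z) ⊗ₜ[B] (1 : D) := by
    intro z
    induction z using TensorProduct.induction_on with
    | zero => simp
    | add x y hx hy => simp only [map_add, hx, hy, TensorProduct.add_tmul]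
    | tmul b e =>
      rw [hJ1tmul, hθ, mulMap_tmul]
      have h2 : algebraMap B D b = b • (1 : D) := by
        rw [Algebra.smul_def, mul_one]
      rw [h2, ← TensorProduct.smul_tmul, Algebra.smul_def]
  have hθε : θ ε = 0 := by
    rw [← hJ1ε, hθJ, hμ₁ε, TensorProduct.zero_tmul]
  have hswap : ∀ d : D, ((1 : E) ⊗ₜ[B] d : E ⊗[B] D) = (algebraMap D E d) ⊗ₜ[B] (1 : D) := by
    intro d
    have hx : mulMap A D E (d ⊗ₜ[A] (1 : E) - (1 : D) ⊗ₜ[A] (algebraMap D E d)) = 0 := by
      rw [map_sub, mulMap_tmul, mulMap_tmul, map_one, one_mul, mul_one, sub_self]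
    have h1 := hkermul _ hx
    have h2 : θ (d ⊗ₜ[A] (1 : E) - (1 : D) ⊗ₜ[A] (algebraMap D E d)) = 0 := by
      rw [← h1, map_mul, hθε, mul_zero]
    rw [map_sub, hθ, hθ, sub_eq_zero] at h2
    exact h2
  -- surjectivity
  have hsurjT : Function.Surjective ((Algebra.linearMap B D).lTensor E) := by
    intro x
    induction x using TensorProduct.induction_on with
    | zero => exact ⟨0, map_zero _⟩
    | add x y hx hy =>
      obtain ⟨x', rfl⟩ := hx
      obtain ⟨y', rfl⟩ := hy
      exact ⟨x' + y', map_add _ _ _⟩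
    | tmul e d =>
      refine ⟨(e * algebraMap D E d) ⊗ₜ[B] (1 : B), ?_⟩
      rw [LinearMap.lTensor_tmul, Algebra.linearMap_apply, map_one]
      have : (e ⊗ₜ[B] d : E ⊗[B] D) = (e ⊗ₜ[B] (1 : D)) * ((1 : E) ⊗ₜ[B] d) := by
        rw [Algebra.TensorProduct.tmul_mul_tmul, mul_one, one_mul]
      rw [this, hswap, Algebra.TensorProduct.tmul_mul_tmul, mul_one]
  exact (Module.FaithfullyFlat.lTensor_surjective_iff_surjective B E (Algebra.linearMap B D)).mp
    hsurjT

end Descent

section Main

theorem essFiniteType_of_flat (A D E : Type u) [CommRing A] [CommRing D] [CommRing E]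
    [IsLocalRing D] [IsLocalRing E]
    [IsNoetherianRing D] [Algebra A D] [Algebra D E] [Algebra A E] [IsScalarTower A D E]
    [IsLocalHom (algebraMap D E)] [Module.Flat A E] [Algebra.EssFiniteType A E]
    [Algebra.FormallyUnramified A E] [Module.Flat D E] : Algebra.EssFiniteType A D := by
  classical
  obtain ⟨ε, hεidem, hμε, hkermul⟩ := exists_idem A D E
  obtain ⟨s, ε₀, hε₀⟩ := exists_finset_mem_range A D E ε
  let B₀ : Subalgebra A D := Algebra.adjoin A (s : Set D)
  haveI : Algebra.FiniteType A B₀ :=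
    (Subalgebra.fg_iff_finiteType B₀).mp (Subalgebra.fg_adjoin_finset s)
  let n : Ideal B₀ := (maximalIdeal D).comap (algebraMap B₀ D)
  haveI hnp : n.IsPrime := Ideal.comap_isPrime _ _
  have hn : ∀ c : B₀, c ∉ n ↔ IsUnit (c : D) := by
    intro c
    rw [Ideal.mem_comap, mem_maximalIdeal, mem_nonunits_iff, not_not]
    rfl
  let B₁ := Localization.AtPrime n
  let j : B₁ →ₐ[A] D := IsLocalization.liftAlgHom (M := n.primeCompl) (f := B₀.val)
    (fun y => (hn y).mp y.2)
  have hj : ∀ c : B₀, j (algebraMap B₀ B₁ c) = (c : D) := by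
    intro c
    simp [j]
  have hjinj : Function.Injective j := by
    change Function.Injective j.toRingHom
    rw [IsLocalization.injective_iff_map_algebraMap_eq n.primeCompl]
    intro x y
    constructor
    · intro h
      exact congrArg j h
    · intro h
      change j (algebraMap B₀ B₁ x) = j (algebraMap B₀ B₁ y) at h
      rw [hj, hj] at h
      rw [Subtype.ext h]
  letI algB₁D : Algebra B₁ D := j.toRingHom.toAlgebra
  have halgB₁D : ∀ b : B₁, algebraMap B₁ D b = j b := fun _ => rfl
  haveI : IsScalarTower A B₁ D := IsScalarTower.of_algebraMap_eq'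
    (RingHom.ext fun a => (j.commutes a).symm)
  haveI : IsLocalHom (algebraMap B₁ D) := by
    constructor
    intro x hx
    obtain ⟨c, u, rfl⟩ := IsLocalization.exists_mk'_eq n.primeCompl x
    have h3 : j (IsLocalization.mk' B₁ c u) * ((u : B₀) : D) = (c : D) := by
      rw [← hj, ← hj c, ← map_mul, IsLocalization.mk'_spec]
    have h4 : IsUnit (c : D) := by
      rw [← h3]
      exact hx.mul ((hn u).mp u.2)
    exact (IsLocalization.AtPrime.isUnit_mk'_iff B₁ n c u).mpr ((hn c).mpr h4)
  letI algB₁E : Algebra B₁ E := ((algebraMap D E).comp (algebraMap B₁ D)).toAlgebra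
  haveI : IsScalarTower B₁ D E := IsScalarTower.of_algebraMap_eq' rfl
  haveI : IsScalarTower A B₁ E := IsScalarTower.of_algebraMap_eq (fun a => by
    change algebraMap A E a = algebraMap D E (j (algebraMap A B₁ a))
    rw [j.commutes, ← IsScalarTower.algebraMap_apply])
  haveI : IsLocalHom (algebraMap B₁ E) :=
    RingHom.isLocalHom_comp (algebraMap D E) (algebraMap B₁ D)
  haveI : Algebra.EssFiniteType A B₁ := Algebra.EssFiniteType.comp A B₀ B₁
  let ε₁ : B₁ ⊗[A] E :=
    Algebra.TensorProduct.map (IsScalarTower.toAlgHom A B₀ B₁) (AlgHom.id A E) ε₀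
  have hε₁ : Algebra.TensorProduct.map (IsScalarTower.toAlgHom A B₁ D) (AlgHom.id A E) ε₁ = ε := by
    rw [← hε₀]
    change ((Algebra.TensorProduct.map (IsScalarTower.toAlgHom A B₁ D) (AlgHom.id A E)).comp
      (Algebra.TensorProduct.map (IsScalarTower.toAlgHom A B₀ B₁) (AlgHom.id A E))) ε₀ = _
    rw [← Algebra.TensorProduct.map_comp]
    have h1 : (IsScalarTower.toAlgHom A B₁ D).comp (IsScalarTower.toAlgHom A B₀ B₁) = B₀.val :=
      AlgHom.ext fun c => hj c
    rw [h1, AlgHom.comp_id]
  have hsurj : Function.Surjective (algebraMap B₁ D) :=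
    surjective_of_idem A B₁ D E hjinj ε hεidem hμε hkermul ε₁ hε₁
  exact Algebra.EssFiniteType.of_surjective (R := A) (S := B₁) (T := D)
    (IsScalarTower.toAlgHom A B₁ D) hsurj

end Main

end Groth.Agent.H14.HensProp.FlatSub
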