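import Mathlib
import Groth.Agent.H14.HensProp.FlatSub2
import Groth.Agent.H14.HensProp.LocSub

/-!
# Descent of essential finiteness along a faithfully flat map from a semilocal ring

`A → D → E` with `D` Noetherian with finitely many maximal ideals, `E` faithfully flat over `D`,
and `E` flat, essentially of finite type and formally unramified over `A`.  Then `D` is essentially
of finite type over `A`.  (Semilocal version of `FlatSub.essFiniteType_of_flat`.)
-/

set_option autoImplicit false
set_option linter.style.haveILetI false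
set_option linter.unusedSectionVars false
universe u

namespace Groth.Agent.H14.HensProp.SemiDescent

open TensorProduct Groth.Agent.H14.HensProp.FlatSub

section Descent

variable (A B D E : Type u) [CommRing A] [CommRing B] [CommRing D] [CommRing E]
  [Algebra A B] [Algebra A D] [Algebra A E] [Algebra B D]
  [Algebra B E] [Algebra D E] [IsScalarTower A B D] [IsScalarTower A D E] [IsScalarTower B D E]
  [IsScalarTower A B E] [Module.Flat A E]

/-- if the idempotent generating the kernel of `D ⊗[A] E → E` is defined over the subring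
`B` of `D`, and flatness of `E` over `B` implies faithful flatness, then `B = D` -/
theorem surjective_of_idem' (hff : Module.Flat B E → Module.FaithfullyFlat B E)
    (hinj : Function.Injective (algebraMap B D))
    (ε : D ⊗[A] E) (_hεidem : ε * ε = ε) (hμε : mulMap A D E ε = 0)
    (hkermul : ∀ x : D ⊗[A] E, mulMap A D E x = 0 → x * ε = x)
    (ε₁ : B ⊗[A] E)
    (hε₁ : Algebra.TensorProduct.map (IsScalarTower.toAlgHom A B D) (AlgHom.id A E) ε₁ = ε) :
    Function.Surjective (algebraMap B D) := by
  classical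
  let j : B →ₐ[A] D := IsScalarTower.toAlgHom A B D
  have hjb : ∀ b : B, j b = algebraMap B D b := fun _ => rfl
  let J1 : B ⊗[A] E →ₐ[A] D ⊗[A] E := Algebra.TensorProduct.map j (AlgHom.id A E)
  have hJ1tmul : ∀ (b : B) (e : E), J1 (b ⊗ₜ[A] e) = (algebraMap B D b) ⊗ₜ[A] e := by
    intro b e
    simp [J1, j]
  have hJ1ε : J1 ε₁ = ε := hε₁
  have hJ1inj : Function.Injective J1 := by
    have h1 : Function.Injective (j.toLinearMap.rTensor E) :=
      Module.Flat.rTensor_preserves_injective_linearMap (M := E) j.toLinearMap hinj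
    have h2 : ∀ z, J1 z = j.toLinearMap.rTensor E z := by
      intro z
      induction z using TensorProduct.induction_on with
      | zero => simp
      | add x y hx hy => simp only [map_add, hx, hy]
      | tmul b e => rw [hJ1tmul]; rfl
    intro x y hxy
    apply h1
    rw [← h2, ← h2, hxy]
  have hμJ : ∀ z : B ⊗[A] E, mulMap A D E (J1 z) = mulMap A B E z := by
    intro z
    induction z using TensorProduct.induction_on with
    | zero => simp
    | add x y hx hy => simp only [map_add, hx, hy]
    | tmul b e =>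
      rw [hJ1tmul, mulMap_tmul, mulMap_tmul, ← IsScalarTower.algebraMap_apply]
  have hμ₁ε : mulMap A B E ε₁ = 0 := by rw [← hμJ, hJ1ε, hμε]
  have key3 : ∀ z : B ⊗[A] E, mulMap A B E z = 0 → z * ε₁ = z := by
    intro z hz
    apply hJ1inj
    rw [map_mul, hJ1ε]
    apply hkermul
    rw [hμJ, hz]
  -- `E` is flat over `B`
  haveI : Module.Flat B (B ⊗[A] E) := inferInstance
  let ι : E →ₗ[B] B ⊗[A] E :=
    { toFun := fun e => ((1 : B) ⊗ₜ[A] e) * (1 - ε₁)
      map_add' := fun e e' => by rw [TensorProduct.tmul_add, add_mul]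
      map_smul' := fun b e => by
        rw [RingHom.id_apply, ← smul_mul_assoc, TensorProduct.smul_tmul', smul_eq_mul, mul_one,
          Algebra.smul_def]
        have hz : mulMap A B E ((1 : B) ⊗ₜ[A] (algebraMap B E b * e) - b ⊗ₜ[A] e) = 0 := by
          rw [map_sub, mulMap_tmul, mulMap_tmul, map_one, one_mul, sub_self]
        have h3 := key3 _ hz
        rw [← sub_eq_zero]
        have h4 : (1 : B) ⊗ₜ[A] ((algebraMap B E) b * e) * (1 - ε₁) - b ⊗ₜ[A] e * (1 - ε₁) =
            ((1 : B) ⊗ₜ[A] ((algebraMap B E) b * e) - b ⊗ₜ[A] e) -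
              ((1 : B) ⊗ₜ[A] ((algebraMap B E) b * e) - b ⊗ₜ[A] e) * ε₁ := by ring
        rw [h4, h3, sub_self] }
  have hιe : ∀ e : E, ι e = ((1 : B) ⊗ₜ[A] e) * (1 - ε₁) := fun _ => rfl
  have hretr : (mulMap A B E).toLinearMap.comp ι = LinearMap.id := by
    apply LinearMap.ext
    intro e
    rw [LinearMap.comp_apply, hιe, AlgHom.toLinearMap_apply, map_mul, map_sub, map_one, hμ₁ε,
      sub_zero, mul_one, mulMap_tmul, map_one, one_mul, LinearMap.id_apply]
  haveI hflatBE : Module.Flat B E := Module.Flat.of_retract ι (mulMap A B E).toLinearMap hretr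
  haveI : Module.FaithfullyFlat B E := hff hflatBE
  -- the quotient map to `E ⊗[B] D`
  let fD : D →ₐ[A] E ⊗[B] D :=
    (Algebra.TensorProduct.includeRight : D →ₐ[B] E ⊗[B] D).restrictScalars A
  let fE : E →ₐ[A] E ⊗[B] D :=
    (Algebra.TensorProduct.includeLeft : E →ₐ[B] E ⊗[B] D).restrictScalars A
  let θ : D ⊗[A] E →ₐ[A] E ⊗[B] D :=
    Algebra.TensorProduct.lift fD fE (fun _ _ => Commute.all _ _)
  have hθ : ∀ (d : D) (e : E), θ (d ⊗ₜ[A] e) = e ⊗ₜ[B] d := by
    intro d e
    simp [θ, fD, fE]
  have hθJ : ∀ z : B ⊗[A] E, θ (J1 z) = (mulMap A B E z) ⊗ₜ[B] (1 : D) := by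
    intro z
    induction z using TensorProduct.induction_on with
    | zero => simp
    | add x y hx hy => simp only [map_add, hx, hy, TensorProduct.add_tmul]
    | tmul b e =>
      rw [hJ1tmul, hθ, mulMap_tmul]
      have h2 : algebraMap B D b = b • (1 : D) := by
        rw [Algebra.smul_def, mul_one]
      rw [h2, ← TensorProduct.smul_tmul, Algebra.smul_def]
  have hθε : θ ε = 0 := by
    rw [← hJ1ε, hθJ, hμ₁ε, TensorProduct.zero_tmul]
  have hswap : ∀ d : D, ((1 : E) ⊗ₜ[B] d : E ⊗[B] D) = (algebraMap D E d) ⊗ₜ[B] (1 : D) := by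
    intro d
    have hx : mulMap A D E (d ⊗ₜ[A] (1 : E) - (1 : D) ⊗ₜ[A] (algebraMap D E d)) = 0 := by
      rw [map_sub, mulMap_tmul, mulMap_tmul, map_one, one_mul, mul_one, sub_self]
    have h1 := hkermul _ hx
    have h2 : θ (d ⊗ₜ[A] (1 : E) - (1 : D) ⊗ₜ[A] (algebraMap D E d)) = 0 := by
      rw [← h1, map_mul, hθε, mul_zero]
    rw [map_sub, hθ, hθ, sub_eq_zero] at h2
    exact h2
  -- surjectivity
  have hsurjT : Function.Surjective ((Algebra.linearMap B D).lTensor E) := by
    intro x
    induction x using TensorProduct.induction_on with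
    | zero => exact ⟨0, map_zero _⟩
    | add x y hx hy =>
      obtain ⟨x', rfl⟩ := hx
      obtain ⟨y', rfl⟩ := hy
      exact ⟨x' + y', map_add _ _ _⟩
    | tmul e d =>
      refine ⟨(e * algebraMap D E d) ⊗ₜ[B] (1 : B), ?_⟩
      rw [LinearMap.lTensor_tmul, Algebra.linearMap_apply, map_one]
      have : (e ⊗ₜ[B] d : E ⊗[B] D) = (e ⊗ₜ[B] (1 : D)) * ((1 : E) ⊗ₜ[B] d) := by
        rw [Algebra.TensorProduct.tmul_mul_tmul, mul_one, one_mul]
      rw [this, hswap, Algebra.TensorProduct.tmul_mul_tmul, mul_one]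
  exact (Module.FaithfullyFlat.lTensor_surjective_iff_surjective B E (Algebra.linearMap B D)).mp
    hsurjT

end Descent

section Main

/-- **Semilocal descent of essential finiteness.** -/
theorem essFiniteType_of_faithfullyFlat (A D E : Type u) [CommRing A] [CommRing D] [CommRing E]
    [IsNoetherianRing D] [Algebra A D] [Algebra D E] [Algebra A E] [IsScalarTower A D E]
    (hfin : {N : Ideal D | N.IsMaximal}.Finite)
    [Module.Flat A E] [Algebra.EssFiniteType A E]
    [Algebra.FormallyUnramified A E] [Module.FaithfullyFlat D E] : Algebra.EssFiniteType A D := by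
  classical
  obtain ⟨ε, hεidem, hμε, hkermul⟩ := exists_idem A D E
  obtain ⟨s, ε₀, hε₀⟩ := exists_finset_mem_range A D E ε
  let B₀ : Subalgebra A D := LocSub.B₀ A D s
  let B₁ := LocSub.B₁ A D s
  let j : B₁ →ₐ[A] D := LocSub.j A D s
  have hj : ∀ c : B₀, j (algebraMap B₀ B₁ c) = (c : D) := LocSub.j_algebraMap A D s
  have hjinj : Function.Injective j := LocSub.j_injective A D s
  letI algB₁D : Algebra B₁ D := j.toRingHom.toAlgebra
  have halgB₁D : ∀ b : B₁, algebraMap B₁ D b = j b := fun _ => rfl
  haveI : IsScalarTower A B₁ D := IsScalarTower.of_algebraMap_eq'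
    (RingHom.ext fun a => (j.commutes a).symm)
  letI algB₁E : Algebra B₁ E := ((algebraMap D E).comp (algebraMap B₁ D)).toAlgebra
  haveI : IsScalarTower B₁ D E := IsScalarTower.of_algebraMap_eq' rfl
  have htow : ∀ a : A, algebraMap A E a = algebraMap B₁ E (algebraMap A B₁ a) := by
    intro a
    change algebraMap A E a = algebraMap D E (j (algebraMap A B₁ a))
    rw [j.commutes, ← IsScalarTower.algebraMap_apply]
  haveI : IsScalarTower A B₁ E := IsScalarTower.of_algebraMap_eq htow
  -- faithful flatness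
  have hff : Module.Flat B₁ E → Module.FaithfullyFlat B₁ E := by
    intro hflat
    refine ⟨fun 𝔫 h𝔫 => ?_⟩
    -- every element of `𝔫` is a nonunit of `D`
    have hnonunit : ∀ x ∈ 𝔫, ¬ IsUnit (j x) := by
      intro x hx hu
      exact h𝔫.ne_top (Ideal.eq_top_of_isUnit_mem _ hx (LocSub.isUnit_of_isUnit_j A D s x hu))
    have hcover : (𝔫 : Set B₁) ⊆ ⋃ N ∈ (hfin.toFinset : Set (Ideal D)), (N.comap j.toRingHom : Ideal B₁) := by
      intro x hx
      obtain ⟨N, hN, hxN⟩ := exists_max_ideal_of_mem_nonunits (mem_nonunits_iff.mpr (hnonunit x hx))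
      simp only [Set.mem_iUnion]
      exact ⟨N, by simpa using hN, hxN⟩
    have hprime : ∀ N ∈ hfin.toFinset, (N.comap j.toRingHom : Ideal B₁).IsPrime := by
      intro N hN
      have hNmax : N.IsMaximal := by simpa using hN
      haveI := hNmax.isPrime
      exact Ideal.comap_isPrime _ _
    obtain ⟨N, hN, h𝔫N⟩ := (Ideal.subset_union_prime (s := hfin.toFinset)
      (f := fun N : Ideal D => (N.comap j.toRingHom : Ideal B₁)) ⊥ ⊥
      (fun N hN _ _ => hprime N hN)).mp hcover
    have hNmax : N.IsMaximal := by simpa using hN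
    have h1 : N • (⊤ : Submodule D E) ≠ ⊤ := Module.FaithfullyFlat.submodule_ne_top hNmax
    intro htop
    apply h1
    rw [Ideal.smul_top_eq_map] at htop ⊢
    rw [Submodule.restrictScalars_eq_top_iff] at htop ⊢
    rw [eq_top_iff, ← htop]
    have h2 : 𝔫.map (algebraMap B₁ E) = (𝔫.map (algebraMap B₁ D)).map (algebraMap D E) := by
      rw [Ideal.map_map]
      rfl
    rw [h2]
    exact Ideal.map_mono (Ideal.map_le_iff_le_comap.mpr h𝔫N)
  let ε₁ : B₁ ⊗[A] E :=
    Algebra.TensorProduct.map (IsScalarTower.toAlgHom A B₀ B₁) (AlgHom.id A E) ε₀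
  have hε₁ : Algebra.TensorProduct.map (IsScalarTower.toAlgHom A B₁ D) (AlgHom.id A E) ε₁ = ε := by
    rw [← hε₀]
    change ((Algebra.TensorProduct.map (IsScalarTower.toAlgHom A B₁ D) (AlgHom.id A E)).comp
      (Algebra.TensorProduct.map (IsScalarTower.toAlgHom A B₀ B₁) (AlgHom.id A E))) ε₀ = _
    rw [← Algebra.TensorProduct.map_comp]
    have h1 : (IsScalarTower.toAlgHom A B₁ D).comp (IsScalarTower.toAlgHom A B₀ B₁) = B₀.val :=
      AlgHom.ext fun c => hj c
    rw [h1, AlgHom.comp_id]
  have hsurj : Function.Surjective (algebraMap B₁ D) :=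
    surjective_of_idem' A B₁ D E hff hjinj ε hεidem hμε hkermul ε₁ hε₁
  exact Algebra.EssFiniteType.of_surjective (R := A) (S := B₁) (T := D)
    (IsScalarTower.toAlgHom A B₁ D) hsurj

end Main

end Groth.Agent.H14.HensProp.SemiDescent
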