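import Mathlib
import Groth.Agent.H14.HensProp.NormalFlat
import Groth.Agent.H14.HensProp.SemiDescent
import Groth.Agent.H14.RkDescent

/-!
# A normal semilocal ring dominated by an unramified flat algebra is essentially of finite type
-/

set_option autoImplicit false
set_option linter.style.haveILetI false
set_option linter.unusedSectionVars false
universe u

namespace Groth.Agent.H14.HensProp.NormalSemilocal

/-- `A' → R → T` with `T` flat, essentially of finite type and unramified over the Noetherian ring
`A'`, `R` a normal ring with finitely many maximal ideals, all of them contracted from `T`, and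
"support idempotents" in `R`.  Then `R` is essentially of finite type over `A'`. -/
theorem essFiniteType_of_normal_semilocal (A' R T : Type u) [CommRing A'] [CommRing R]
    [CommRing T] [IsNoetherianRing A'] [Algebra A' R] [Algebra R T] [Algebra A' T]
    [IsScalarTower A' R T]
    [Module.Flat A' T] [Algebra.EssFiniteType A' T] [Algebra.FormallyUnramified A' T]
    (hnorm : ∀ (N : Ideal R) [N.IsPrime],
      IsDomain (Localization.AtPrime N) ∧ IsIntegrallyClosed (Localization.AtPrime N))
    (hsupp : ∀ x : R, ∃ e : R, e * e = e ∧ e * x = x ∧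
      ∀ t : T, t * algebraMap R T x = 0 → t * algebraMap R T e = 0)
    (hfin : {N : Ideal R | N.IsMaximal}.Finite)
    (hsurj : ∀ N : Ideal R, N.IsMaximal →
      ∃ M : Ideal T, M.IsPrime ∧ M.comap (algebraMap R T) = N) :
    Algebra.EssFiniteType A' R := by
  have hker : ∀ (M : Ideal T) [M.IsMaximal] (x : R) (t : T), t ∉ M →
      t * algebraMap R T x = 0 → ∃ s : R, s ∉ M.comap (algebraMap R T) ∧ s * x = 0 := by
    intro M hM x t htM htx
    obtain ⟨e, _, hex, het⟩ := hsupp x
    have h1 : t * algebraMap R T e = 0 := het t htx
    have h2 : algebraMap R T e ∈ M :=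
      (hM.isPrime.mem_or_mem (h1 ▸ M.zero_mem)).resolve_left htM
    refine ⟨1 - e, ?_, ?_⟩
    · intro h
      have h3 : algebraMap R T (1 - e) ∈ M := h
      have h4 : (1 : T) ∈ M := by
        have : (1 : T) = algebraMap R T (1 - e) + algebraMap R T e := by
          rw [← map_add, sub_add_cancel, map_one]
        rw [this]
        exact M.add_mem h3 h2
      exact hM.ne_top ((Ideal.eq_top_iff_one M).mpr h4)
    · rw [sub_mul, one_mul, hex, sub_self]
  haveI : Module.Flat R T := NormalFlat.flat_of_normal_of_unramified A' R T hnorm hker
  haveI : Module.FaithfullyFlat R T := by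
    refine ⟨fun N hN => ?_⟩
    obtain ⟨M, hM, hMN⟩ := hsurj N hN
    rw [Ideal.smul_top_eq_map]
    intro htop
    rw [Submodule.restrictScalars_eq_top_iff] at htop
    have h1 : N.map (algebraMap R T) ≤ M := by
      rw [Ideal.map_le_iff_le_comap, hMN]
    exact hM.ne_top (top_le_iff.mp (htop ▸ h1))
  haveI : IsNoetherianRing T := Algebra.EssFiniteType.isNoetherianRing A' T
  haveI : IsNoetherianRing R := Groth.Agent.H14.isNoetherianRing_of_faithfullyFlat' R T
  exact SemiDescent.essFiniteType_of_faithfullyFlat A' R T hfin

end Groth.Agent.H14.HensProp.NormalSemilocal
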