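import Mathlib
import Groth.Prelude.Def_EssEt
import Groth.Prelude.Def_EGA4b
import Groth.Agent.H14.HensProp.NormEquiv
import Groth.Agent.H14.HensProp.NormalSemilocal
import Groth.Agent.H14.HensProp.EssAT2
import Groth.Agent.H14.HensProp.EssEtSH3
import Groth.Agent.H14.HensProp.NormBC3
import Groth.Agent.H14.HensProp.FlatCrit
import Groth.Agent.H78.NormSemilocal.Main
import Groth.Agent.S2654

/-!
# An intermediate local ring whose normalization is generated modulo its radical by the
normalization of `A` and `D` is unramified and essentially of finite type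
-/

set_option autoImplicit false
set_option linter.style.haveILetI false
set_option linter.unusedSectionVars false
universe u

namespace Groth.Agent.H14.HensProp.EtaleCritE

open TensorProduct IsLocalRing

/-- residue fields of a quasi-finite local algebra are finite -/
theorem finite_residueField_of_quasiFinite (A E : Type u) [CommRing A] [IsLocalRing A]
    [CommRing E] [IsLocalRing E] [Algebra A E] [IsLocalHom (algebraMap A E)]
    [Algebra.QuasiFinite A E] : Module.Finite (ResidueField A) (ResidueField E) := by
  haveI : Algebra.QuasiFinite (ResidueField A) ((ResidueField A) ⊗[A] E) := inferInstance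
  haveI : Module.Finite (ResidueField A) ((ResidueField A) ⊗[A] E) :=
    Module.Finite.of_quasiFinite
  let g : (ResidueField A) ⊗[A] E →ₐ[ResidueField A] ResidueField E :=
    Algebra.TensorProduct.lift (Algebra.ofId (ResidueField A) (ResidueField E))
      (IsScalarTower.toAlgHom A E (ResidueField E)) (fun _ _ => Commute.all _ _)
  have hg : Function.Surjective g := by
    intro x
    obtain ⟨e, rfl⟩ := residue_surjective x
    refine ⟨1 ⊗ₜ[A] e, ?_⟩
    simp [g]
  exact Module.Finite.of_surjective g.toLinearMap hg

/-- **Main theorem at the level of an essentially étale over-ring.** -/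
theorem main
    (A E : Type u) [CommRing A] [IsLocalRing A] [IsReduced A] (hA : EGA4.IsExcellent A)
    [CommRing E] [IsLocalRing E] [Algebra A E] [IsLocalHom (algebraMap A E)]
    (hE : EGA4loc.IsEssentiallyEtale A E)
    (D : Subalgebra A E) [IsLocalRing D] [IsLocalHom (algebraMap D E)]
    (D' : Subalgebra A (FractionRing E))
    (hD' : ∀ x : (FractionRing E), x ∈ D' ↔ (IsIntegral D x ∧
      ∃ a ∈ nonZeroDivisors A, ∃ d ∈ D, algebraMap A (FractionRing E) a * x = algebraMap E (FractionRing E) d))
    (hfin : {N : Ideal D' | N.IsMaximal}.Finite)
    (hgen : ∀ x : D', ∃ y ∈ Subring.closure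
        ({z : D' | IsIntegral A (z : FractionRing E) ∧ ∃ a ∈ nonZeroDivisors A, ∃ b : A,
            algebraMap A (FractionRing E) a * (z : FractionRing E) =
              algebraMap A (FractionRing E) b} ∪
         {z : D' | ∃ d ∈ D, (z : FractionRing E) = algebraMap E (FractionRing E) d}),
        x - y ∈ Ideal.jacobson (⊥ : Ideal D')) :
    Algebra.EssFiniteType A D ∧
      Ideal.map (algebraMap A D) (maximalIdeal A) = maximalIdeal D := by
  classical
  haveI : IsNoetherianRing A := hA.1
  have hN : CAlg.IsNagata A := Groth.Agent.S2654.result A ⟨hA.1, hA.2.2.1, hA.2.2.2⟩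
  have hmin : (minimalPrimes A).Finite := minimalPrimes.finite_of_isNoetherianRing A
  obtain ⟨hflat, hqf⟩ := Groth.Agent.H78.TotFrac.flat_quasiFinite_of_isEssentiallyEtale A E hE
  obtain ⟨hEN, hER⟩ := Groth.Agent.H78.NormSemilocal.noetherian_reduced_of_isEssentiallyEtale A E hE
  haveI hloc : IsLocalization ((nonZeroDivisors A).map (algebraMap A E)) (FractionRing E) :=
    (Groth.Agent.H78.TotFrac.main_abstract A E hmin).1
  have hEF : Function.Injective (algebraMap E (FractionRing E)) :=
    IsFractionRing.injective E (FractionRing E)
  have hEmin : (minimalPrimes E).Finite := minimalPrimes.finite_of_isNoetherianRing E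
  -- the normalization of `A`
  haveI hfinA' : Module.Finite A (integralClosure A (FractionRing A)) :=
    Groth.Agent.H38.finite_integralClosure fun p =>
      hN.2 p.1.asIdeal (Groth.Agent.H38.KK p) inferInstance
  haveI : IsNoetherianRing (integralClosure A (FractionRing A)) := IsNoetherianRing.of_finite A _
  -- properties of `E`
  have hU := EssEtSH.isUnion hE
  haveI : Algebra.EssFiniteType A E := EssEtSH.essFiniteType hE
  haveI : Algebra.FormallyUnramified A E := EssEtSH.formallyUnramified hE
  have hnormT : ∀ (M : Ideal (E ⊗[A] (integralClosure A (FractionRing A)))) [M.IsMaximal],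
      IsDomain (Localization.AtPrime M) ∧ IsIntegrallyClosed (Localization.AtPrime M) :=
    fun M _ => NormBC.normal_tensor_of_isUnion A E hU M
  obtain ⟨e₀, he₀⟩ := NormBC.exists_algEquiv A E hnormT
  -- `D' ≤ E'`
  have hle : D' ≤ ((integralClosure E (FractionRing E)).restrictScalars A) := by
    intro x hx
    obtain ⟨hxi, -⟩ := (hD' x).mp hx
    change IsIntegral E x
    obtain ⟨p, hp, hpx⟩ := hxi
    refine ⟨p.map (algebraMap D E), hp.map _, ?_⟩
    rw [Polynomial.eval₂_map]
    exact hpx
  -- the map `A' → D'`
  have hψmem : ∀ x : integralClosure A (FractionRing A),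
      ((NormBC.fracMap A E).comp (integralClosure A (FractionRing A)).val) x ∈ D' := by
    intro x
    rw [hD']
    constructor
    · have h1 : IsIntegral A (NormBC.fracMap A E (x : FractionRing A)) :=
        x.2.map (NormBC.fracMap A E)
      exact h1.tower_top
    · obtain ⟨⟨b, a⟩, hab⟩ := IsLocalization.surj (nonZeroDivisors A) (x : FractionRing A)
      refine ⟨a, a.2, algebraMap A E b, D.algebraMap_mem b, ?_⟩
      change algebraMap A (FractionRing E) a * NormBC.fracMap A E (x : FractionRing A) = _
      rw [← (NormBC.fracMap A E).commutes, ← map_mul, mul_comm, hab, AlgHom.commutes,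
        ← IsScalarTower.algebraMap_apply]
  let ψ : integralClosure A (FractionRing A) →ₐ[A] D' :=
    AlgHom.codRestrict ((NormBC.fracMap A E).comp (integralClosure A (FractionRing A)).val) D' hψmem
  have hψcoe : ∀ x, ((ψ x : D') : FractionRing E) = NormBC.fracMap A E (x : FractionRing A) :=
    fun _ => rfl
  letI algA'D' : Algebra (integralClosure A (FractionRing A)) D' := ψ.toRingHom.toAlgebra
  haveI : IsScalarTower A (integralClosure A (FractionRing A)) D' :=
    IsScalarTower.of_algebraMap_eq (fun a => (ψ.commutes a).symm)
  letI algD'T : Algebra D' ((integralClosure E (FractionRing E)).restrictScalars A) :=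
    (Subalgebra.inclusion hle).toRingHom.toAlgebra
  letI algA'T : Algebra (integralClosure A (FractionRing A))
      ((integralClosure E (FractionRing E)).restrictScalars A) :=
    ((algebraMap D' ((integralClosure E (FractionRing E)).restrictScalars A)).comp
      (algebraMap (integralClosure A (FractionRing A)) D')).toAlgebra
  haveI : IsScalarTower (integralClosure A (FractionRing A)) D'
      ((integralClosure E (FractionRing E)).restrictScalars A) := IsScalarTower.of_algebraMap_eq' rfl
  -- `E' ≅ A' ⊗ E` over `A'`
  let Φr : (integralClosure A (FractionRing A)) ⊗[A] E ≃+*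
      ((integralClosure E (FractionRing E)).restrictScalars A) :=
    (Algebra.TensorProduct.comm A (integralClosure A (FractionRing A)) E).toRingEquiv.trans
      e₀.toRingEquiv
  have hΦtmul : ∀ (x : integralClosure A (FractionRing A)) (e : E),
      ((Φr (x ⊗ₜ[A] e) : (integralClosure E (FractionRing E)).restrictScalars A) :
        FractionRing E) =
      algebraMap E (FractionRing E) e * NormBC.fracMap A E (x : FractionRing A) := by
    intro x e
    change ((e₀ (e ⊗ₜ[A] x) : integralClosure E (FractionRing E)) : FractionRing E) = _
    rw [he₀, NormBC.toFrac_tmul]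
  have hΦr : ∀ x : integralClosure A (FractionRing A),
      Φr (algebraMap (integralClosure A (FractionRing A))
        ((integralClosure A (FractionRing A)) ⊗[A] E) x) =
      algebraMap (integralClosure A (FractionRing A))
        ((integralClosure E (FractionRing E)).restrictScalars A) x := by
    intro x
    apply Subtype.ext
    change ((e₀ ((1 : E) ⊗ₜ[A] x) : integralClosure E (FractionRing E)) : FractionRing E) =
      NormBC.fracMap A E (x : FractionRing A)
    rw [he₀, NormBC.toFrac_tmul, map_one, one_mul]
  let Φ : (integralClosure A (FractionRing A)) ⊗[A] E ≃ₐ[integralClosure A (FractionRing A)]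
      ((integralClosure E (FractionRing E)).restrictScalars A) := AlgEquiv.ofRingEquiv hΦr
  haveI : Module.Flat (integralClosure A (FractionRing A))
      ((integralClosure E (FractionRing E)).restrictScalars A) :=
    Module.Flat.of_linearEquiv Φ.symm.toLinearEquiv
  haveI : Algebra.EssFiniteType (integralClosure A (FractionRing A))
      ((integralClosure E (FractionRing E)).restrictScalars A) :=
    Algebra.EssFiniteType.of_surjective (R := integralClosure A (FractionRing A))
      (S := (integralClosure A (FractionRing A)) ⊗[A] E)
      (T := ((integralClosure E (FractionRing E)).restrictScalars A)) Φ.toAlgHom Φ.surjective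
  haveI : Algebra.FormallyUnramified (integralClosure A (FractionRing A))
      ((integralClosure E (FractionRing E)).restrictScalars A) :=
    Algebra.FormallyUnramified.of_equiv (A := (integralClosure A (FractionRing A)) ⊗[A] E) Φ
  -- normality and support idempotents of `D'`
  have hnorm : ∀ (N : Ideal D') [N.IsPrime],
      IsDomain (Localization.AtPrime N) ∧ IsIntegrallyClosed (Localization.AtPrime N) :=
    fun N _ => NormEquiv.normal_localization A E (FractionRing E) D hmin hEF D' hD' hEmin N
  have hsupp : ∀ x : D', ∃ e : D', e * e = e ∧ e * x = x ∧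
      ∀ t : ((integralClosure E (FractionRing E)).restrictScalars A),
        t * algebraMap D' ((integralClosure E (FractionRing E)).restrictScalars A) x = 0 →
        t * algebraMap D' ((integralClosure E (FractionRing E)).restrictScalars A) e = 0 := by
    intro x
    obtain ⟨e, he1, he2, he3⟩ :=
      NormEquiv.exists_support_idem A E (FractionRing E) D hmin hEF D' hD' hEmin x
    refine ⟨e, he1, he2, fun t ht => ?_⟩
    apply Subtype.ext
    exact he3 (t : FractionRing E) (congrArg Subtype.val ht)
  -- `D → D'`
  have hιmem : ∀ d : D, ((IsScalarTower.toAlgHom A E (FractionRing E)).comp D.val) d ∈ D' := by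
    intro d
    rw [hD']
    refine ⟨isIntegral_algebraMap, 1, one_mem _, d, d.2, ?_⟩
    rw [map_one, one_mul]
    rfl
  let ι : D →ₐ[A] D' :=
    AlgHom.codRestrict ((IsScalarTower.toAlgHom A E (FractionRing E)).comp D.val) D' hιmem
  letI algDD' : Algebra D D' := ι.toRingHom.toAlgebra
  haveI : IsScalarTower A D D' := IsScalarTower.of_algebraMap_eq (fun a => (ι.commutes a).symm)
  have hinj : Function.Injective (algebraMap D D') := by
    intro x y hxy
    have h3 : algebraMap E (FractionRing E) (x : E) = algebraMap E (FractionRing E) (y : E) :=
      congrArg Subtype.val hxy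
    exact Subtype.ext (hEF h3)
  let valD : D' →ₐ[D] FractionRing E :=
    { D'.val.toRingHom with commutes' := fun d => rfl }
  haveI : Algebra.IsIntegral D D' := by
    refine ⟨fun x => ?_⟩
    rw [← isIntegral_algHom_iff valD Subtype.val_injective]
    exact ((hD' _).mp x.2).1
  -- `E → E'`
  have hEmem : ∀ e : E, (IsScalarTower.toAlgHom A E (FractionRing E)) e ∈
      ((integralClosure E (FractionRing E)).restrictScalars A) := by
    intro e
    change IsIntegral E (algebraMap E (FractionRing E) e)
    exact isIntegral_algebraMap
  let ιE : E →ₐ[A] ((integralClosure E (FractionRing E)).restrictScalars A) :=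
    AlgHom.codRestrict (IsScalarTower.toAlgHom A E (FractionRing E)) _ hEmem
  letI algET : Algebra E ((integralClosure E (FractionRing E)).restrictScalars A) :=
    ιE.toRingHom.toAlgebra
  haveI : IsScalarTower A E ((integralClosure E (FractionRing E)).restrictScalars A) :=
    IsScalarTower.of_algebraMap_eq (fun a => (ιE.commutes a).symm)
  haveI : IsScalarTower A D' ((integralClosure E (FractionRing E)).restrictScalars A) :=
    IsScalarTower.of_algebraMap_eq (fun a => ((Subalgebra.inclusion hle).commutes a).symm)
  have hDT : ∀ d : D, algebraMap D' ((integralClosure E (FractionRing E)).restrictScalars A)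
      (algebraMap D D' d) =
      algebraMap E ((integralClosure E (FractionRing E)).restrictScalars A) (algebraMap D E d) :=
    fun d => rfl
  haveI : Algebra.IsIntegral E ((integralClosure E (FractionRing E)).restrictScalars A) := by
    refine ⟨fun t => ?_⟩
    have h1 : IsIntegral E (t : FractionRing E) := t.2
    obtain ⟨p, hp, hpt⟩ := h1
    refine ⟨p, hp, ?_⟩
    apply Subtype.ext
    have h2 : ∀ q : Polynomial E, ((Polynomial.eval₂
        (algebraMap E ((integralClosure E (FractionRing E)).restrictScalars A)) t q :
        (integralClosure E (FractionRing E)).restrictScalars A) : FractionRing E) =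
        Polynomial.eval₂ (algebraMap E (FractionRing E)) (t : FractionRing E) q := by
      intro q
      induction q using Polynomial.induction_on with
      | C a => simp only [Polynomial.eval₂_C]; rfl
      | add p q hp hq =>
        rw [Polynomial.eval₂_add, Polynomial.eval₂_add, ← hp, ← hq]; rfl
      | monomial n a _ =>
        simp only [Polynomial.eval₂_mul, Polynomial.eval₂_C, Polynomial.eval₂_pow,
          Polynomial.eval₂_X]
        rfl
    rw [h2 p, hpt]
    rfl
  -- the section `σ`
  let σ : ((integralClosure E (FractionRing E)).restrictScalars A) →+* D' ⊗[A] E :=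
    (Algebra.TensorProduct.map ψ (AlgHom.id A E)).toRingHom.comp Φr.symm.toRingHom
  have hσΦ : ∀ z, σ (Φr z) = Algebra.TensorProduct.map ψ (AlgHom.id A E) z := by
    intro z
    change Algebra.TensorProduct.map ψ (AlgHom.id A E) (Φr.symm (Φr z)) = _
    rw [RingEquiv.symm_apply_apply]
  have hσE : ∀ e : E, σ (algebraMap E ((integralClosure E (FractionRing E)).restrictScalars A) e) =
      (1 : D') ⊗ₜ[A] e := by
    intro e
    have h1 : algebraMap E ((integralClosure E (FractionRing E)).restrictScalars A) e =
        Φr ((1 : integralClosure A (FractionRing A)) ⊗ₜ[A] e) := by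
      apply Subtype.ext
      rw [hΦtmul, OneMemClass.coe_one, map_one, mul_one]
      rfl
    rw [h1, hσΦ, Algebra.TensorProduct.map_tmul, map_one]
    rfl
  have hC : ∀ c ∈ Set.range ψ,
      σ (algebraMap D' ((integralClosure E (FractionRing E)).restrictScalars A) c) =
      c ⊗ₜ[A] (1 : E) := by
    rintro _ ⟨x, rfl⟩
    have h1 : algebraMap D' ((integralClosure E (FractionRing E)).restrictScalars A) (ψ x) =
        Φr (x ⊗ₜ[A] (1 : E)) := by
      apply Subtype.ext
      rw [hΦtmul, map_one, one_mul]
      rfl
    rw [h1, hσΦ, Algebra.TensorProduct.map_tmul]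
    rfl
  have hσμ : ∀ t, FlatCrit.mu₁ A E D' ((integralClosure E (FractionRing E)).restrictScalars A)
      (σ t) = t := by
    intro t
    obtain ⟨z, rfl⟩ := Φr.surjective t
    rw [hσΦ]
    induction z using TensorProduct.induction_on with
    | zero => simp
    | tmul x e =>
      rw [Algebra.TensorProduct.map_tmul, FlatCrit.mu₁_tmul]
      apply Subtype.ext
      rw [hΦtmul, mul_comm]
      rfl
    | add x y hx hy => rw [map_add, map_add, hx, hy, map_add]
  -- injectivity of `A → E` and of `fracMap`
  haveI : Module.FaithfullyFlat A E := Module.FaithfullyFlat.of_flat_of_isLocalHom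
  have hAE : Function.Injective (algebraMap A E) := FaithfulSMul.algebraMap_injective A E
  have hfracinj : Function.Injective (NormBC.fracMap A E) := by
    rw [injective_iff_map_eq_zero]
    intro w hw
    obtain ⟨b, a, rfl⟩ := IsLocalization.exists_mk'_eq (nonZeroDivisors A) w
    have h1 : NormBC.fracMap A E (IsLocalization.mk' (FractionRing A) b a) *
        NormBC.fracMap A E (algebraMap A (FractionRing A) (a : A)) =
        NormBC.fracMap A E (algebraMap A (FractionRing A) b) := by
      rw [← map_mul, IsLocalization.mk'_spec]
    rw [hw, zero_mul, AlgHom.commutes, IsScalarTower.algebraMap_apply A E (FractionRing E)] at h1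
    have h2 : algebraMap A E b = 0 := hEF (by rw [← h1, map_zero])
    have h3 : b = 0 := hAE (by rw [h2, map_zero])
    rw [h3, IsLocalization.mk'_zero]
  -- the generation hypothesis
  have hgen' : ∀ r : D', ∃ y ∈ Subring.closure (Set.range ψ ∪ Set.range (algebraMap D D')),
      r - y ∈ Ideal.jacobson (⊥ : Ideal D') := by
    intro r
    obtain ⟨y, hy, hry⟩ := hgen r
    refine ⟨y, ?_, hry⟩
    refine Subring.closure_mono ?_ hy
    rintro z (⟨hzi, a, ha, b, hab⟩ | ⟨d, hd, hzd⟩)
    · left
      have hau : IsUnit (algebraMap A (FractionRing E) a) := by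
        rw [IsScalarTower.algebraMap_apply A E (FractionRing E)]
        exact IsLocalization.map_units (FractionRing E)
          (⟨algebraMap A E a, ⟨a, ha, rfl⟩⟩ : (nonZeroDivisors A).map (algebraMap A E))
      let w : FractionRing A := IsLocalization.mk' (FractionRing A) b (⟨a, ha⟩ : nonZeroDivisors A)
      have hw : NormBC.fracMap A E w = (z : FractionRing E) := by
        apply hau.mul_left_cancel
        rw [hab, ← (NormBC.fracMap A E).commutes a, ← map_mul, mul_comm]
        change NormBC.fracMap A E (IsLocalization.mk' (FractionRing A) b
          (⟨a, ha⟩ : nonZeroDivisors A) * algebraMap A (FractionRing A)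
            ((⟨a, ha⟩ : nonZeroDivisors A) : A)) = _
        rw [IsLocalization.mk'_spec, AlgHom.commutes]
      have hwi : IsIntegral A w := by
        rw [← isIntegral_algHom_iff (NormBC.fracMap A E) hfracinj, hw]
        exact hzi
      exact ⟨⟨w, hwi⟩, Subtype.ext hw⟩
    · right
      exact ⟨⟨d, hd⟩, Subtype.ext hzd.symm⟩
  -- residue fields
  haveI := hqf
  haveI : Module.Finite (ResidueField A) (ResidueField E) :=
    finite_residueField_of_quasiFinite A E
  haveI : Algebra.IsAlgebraic (ResidueField A) (ResidueField E) :=
    Algebra.IsAlgebraic.of_finite _ _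
  haveI : IsLocalHom (algebraMap A D) := by
    constructor
    intro a ha
    have h1 : IsUnit (algebraMap D E (algebraMap A D a)) := ha.map _
    rw [← IsScalarTower.algebraMap_apply] at h1
    exact isUnit_of_map_unit (algebraMap A E) a h1
  haveI : IsScalarTower (ResidueField A) (ResidueField D) (ResidueField E) :=
    IsScalarTower.of_algebraMap_eq (by
      intro x
      obtain ⟨a, rfl⟩ := residue_surjective x
      rfl)
  haveI : Algebra.IsAlgebraic (ResidueField D) (ResidueField E) :=
    Algebra.IsAlgebraic.tower_top (K := ResidueField A) (ResidueField D)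
  -- maximal ideals of `D'` are contracted from `E'`
  have hsurj' : ∀ N : Ideal D', N.IsMaximal →
      ∃ M : Ideal ((integralClosure E (FractionRing E)).restrictScalars A), M.IsPrime ∧
        M.comap (algebraMap D' ((integralClosure E (FractionRing E)).restrictScalars A)) = N := by
    intro N hN
    haveI := hN
    exact FlatCrit.exists_comap_eq A D E D' ((integralClosure E (FractionRing E)).restrictScalars A)
      hDT σ hσE (Set.range ψ) hC hgen' N
  haveI h1 : Algebra.EssFiniteType (integralClosure A (FractionRing A)) D' :=
    NormalSemilocal.essFiniteType_of_normal_semilocal (integralClosure A (FractionRing A)) D'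
      ((integralClosure E (FractionRing E)).restrictScalars A) hnorm hsupp hfin hsurj'
  haveI h2 : Algebra.EssFiniteType A D' :=
    Algebra.EssFiniteType.comp A (integralClosure A (FractionRing A)) D'
  haveI : IsNoetherianRing D' := Algebra.EssFiniteType.isNoetherianRing A D'
  have hker : ∀ (M : Ideal ((integralClosure E (FractionRing E)).restrictScalars A)) [M.IsMaximal]
      (x : D') (t : ((integralClosure E (FractionRing E)).restrictScalars A)), t ∉ M →
      t * algebraMap D' ((integralClosure E (FractionRing E)).restrictScalars A) x = 0 →
      ∃ s : D', s ∉ M.comap (algebraMap D' ((integralClosure E (FractionRing E)).restrictScalars A))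
        ∧ s * x = 0 := by
    intro M hM x t htM htx
    obtain ⟨e, _, hex, het⟩ := hsupp x
    have h1 : t * algebraMap D' ((integralClosure E (FractionRing E)).restrictScalars A) e = 0 :=
      het t htx
    have h2 : algebraMap D' ((integralClosure E (FractionRing E)).restrictScalars A) e ∈ M :=
      (hM.isPrime.mem_or_mem (h1 ▸ M.zero_mem)).resolve_left htM
    refine ⟨1 - e, ?_, ?_⟩
    · intro h
      have h3 : algebraMap D' ((integralClosure E (FractionRing E)).restrictScalars A) (1 - e) ∈ M :=
        h
      have h4 : (1 : ((integralClosure E (FractionRing E)).restrictScalars A)) ∈ M := by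
        have : (1 : ((integralClosure E (FractionRing E)).restrictScalars A)) =
            algebraMap D' ((integralClosure E (FractionRing E)).restrictScalars A) (1 - e) +
            algebraMap D' ((integralClosure E (FractionRing E)).restrictScalars A) e := by
          rw [← map_add, sub_add_cancel, map_one]
        rw [this]
        exact M.add_mem h3 h2
      exact hM.ne_top ((Ideal.eq_top_iff_one M).mpr h4)
    · rw [sub_mul, one_mul, hex, sub_self]
  haveI : Module.Flat D' ((integralClosure E (FractionRing E)).restrictScalars A) :=
    NormalFlat.flat_of_normal_of_unramified (integralClosure A (FractionRing A)) D'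
      ((integralClosure E (FractionRing E)).restrictScalars A) hnorm hker
  haveI hDft : Algebra.EssFiniteType A D := EssAT.essFiniteType_of_isIntegral A D D' hinj
  haveI : Module.Flat D E :=
    FlatCrit.flat A D E D' ((integralClosure E (FractionRing E)).restrictScalars A)
      hDT σ hσE (Set.range ψ) hC hgen' hinj hσμ
  refine ⟨hDft, ?_⟩
  haveI : Module.FaithfullyFlat D E := Module.FaithfullyFlat.of_flat_of_isLocalHom
  have hmE : (maximalIdeal A).map (algebraMap A E) = maximalIdeal E :=
    Algebra.FormallyUnramified.map_maximalIdeal
  apply le_antisymm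
  · rw [Ideal.map_le_iff_le_comap]
    intro a ha
    exact map_nonunit (algebraMap A D) a ha
  · intro x hx
    have h3 : algebraMap D E x ∈ maximalIdeal E := map_nonunit (algebraMap D E) x hx
    rw [← hmE, IsScalarTower.algebraMap_eq A D E, ← Ideal.map_map] at h3
    have h4 : x ∈ (((maximalIdeal A).map (algebraMap A D)).map (algebraMap D E)).comap
        (algebraMap D E) := h3
    rwa [Ideal.comap_map_eq_self_of_faithfullyFlat] at h4

end Groth.Agent.H14.HensProp.EtaleCritE
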