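import Mathlib
import Groth.Agent.H14.HensProp.FlatCrit

/-!
# The flatness criterion of `FlatCrit` with a pure kernel instead of an idempotent one
-/

set_option autoImplicit false
set_option linter.style.haveILetI false
set_option linter.unusedSectionVars false
universe u

namespace Groth.Agent.H14.HensProp.FlatCritP

open IsLocalRing TensorProduct Groth.Agent.H14.HensProp.FlatCrit

variable (A D E R T : Type u) [CommRing A] [CommRing D] [CommRing E] [CommRing R] [CommRing T]
  [Algebra A D] [Algebra A E] [Algebra D E] [IsScalarTower A D E]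
  [Algebra A R] [Algebra D R] [IsScalarTower A D R]
  [Algebra A T] [Algebra R T] [IsScalarTower A R T]
  [Algebra E T] [IsScalarTower A E T]
  (hDT : ∀ d : D, algebraMap R T (algebraMap D R d) = algebraMap E T (algebraMap D E d))
  [IsLocalRing D] [IsLocalRing E] [IsLocalHom (algebraMap D E)]
  [Algebra.IsIntegral D R] [Algebra.IsIntegral E T]
  (σ : T →+* R ⊗[A] E)
  (hσE : ∀ e : E, σ (algebraMap E T e) = (1 : R) ⊗ₜ[A] e)
  (C : Set R) (hC : ∀ c ∈ C, σ (algebraMap R T c) = c ⊗ₜ[A] (1 : E))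
  (hgen : ∀ r : R, ∃ y ∈ Subring.closure (C ∪ Set.range (algebraMap D R)),
    r - y ∈ Ideal.jacobson (⊥ : Ideal R))

include hDT hσE hC hgen in
/-- **Flatness criterion, pure version.** -/
theorem flat [Module.Flat A E]
    (hinj : Function.Injective (algebraMap D R))
    (hpure : ∀ x : R ⊗[A] E, mu₁ A E R T x = 0 →
      ∃ y : R ⊗[A] E, mu₁ A E R T y = 0 ∧ x = x * y) :
    Module.Flat D E := by
  classical
  have hι := iota₀_injective A D E R hinj
  let 𝔮 : Ideal (D ⊗[A] E) := (maximalIdeal E).comap (mu₀ A D E)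
  haveI h𝔮 : 𝔮.IsPrime := Ideal.comap_isPrime _ _
  -- the key property
  have hkey : ∀ x : D ⊗[A] E, mu₀ A D E x = 0 → ∃ t : D ⊗[A] E, IsUnit (mu₀ A D E t) ∧
      t * x = 0 := by
    intro x hx
    have h1 : mu₁ A E R T (iota₀ A D E R x) = 0 := by
      rw [mu₁_iota₀ A D E R T hDT, hx, map_zero]
    obtain ⟨y, hy0, hxy⟩ := hpure _ h1
    let I : Ideal (D ⊗[A] E) := (Ideal.span {1 - y}).comap (iota₀ A D E R)
    have hI : ¬ I ≤ 𝔮 := by
      intro hle
      letI alg : Algebra (D ⊗[A] E) (R ⊗[A] E) := (iota₀ A D E R).toRingHom.toAlgebra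
      haveI : Algebra.IsIntegral (D ⊗[A] E) (R ⊗[A] E) := ⟨iota₀_isIntegral A D E R⟩
      obtain ⟨P, hIP, hPp, hPc⟩ := Ideal.exists_ideal_over_prime_of_isIntegral 𝔮
        (Ideal.span {1 - y} : Ideal (R ⊗[A] E)) hle
      haveI := hPp
      have h1 : RingHom.ker (mu₁ A E R T) ≤ P :=
        ker_mu₁_le A D E R T hDT σ hσE C hC hgen P hPc
      have h2 : y ∈ P := h1 hy0
      have h3 : 1 - y ∈ P := hIP (Ideal.mem_span_singleton_self _)
      have h4 : (1 : R ⊗[A] E) ∈ P := by
        have : (1 : R ⊗[A] E) = (1 - y) + y := by ring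
        rw [this]
        exact P.add_mem h3 h2
      exact hPp.ne_top ((Ideal.eq_top_iff_one P).mpr h4)
    obtain ⟨t, htI, ht𝔮⟩ := Set.not_subset.mp hI
    have htunit : IsUnit (mu₀ A D E t) := by
      by_contra h
      exact ht𝔮 h
    obtain ⟨w, hw⟩ := Ideal.mem_span_singleton'.mp htI
    refine ⟨t, htunit, ?_⟩
    apply hι
    rw [map_mul, map_zero, ← hw]
    have : w * (1 - y) * iota₀ A D E R x =
        w * (iota₀ A D E R x - iota₀ A D E R x * y) := by ring
    rw [this, ← hxy, sub_self, mul_zero]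
  -- `E` is a localization of `D ⊗ E`
  let M : Submonoid (D ⊗[A] E) := (IsUnit.submonoid E).comap (mu₀ A D E)
  letI algPE : Algebra (D ⊗[A] E) E := (mu₀ A D E).toRingHom.toAlgebra
  have halg : ∀ x : D ⊗[A] E, algebraMap (D ⊗[A] E) E x = mu₀ A D E x := fun _ => rfl
  haveI : IsScalarTower D (D ⊗[A] E) E := IsScalarTower.of_algebraMap_eq (fun d => by
    rw [halg, Algebra.TensorProduct.algebraMap_apply, Algebra.algebraMap_self, RingHom.id_apply,
      mu₀_tmul, mul_one])
  haveI : IsLocalization M E := by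
    refine ⟨?_, ?_, ?_⟩
    · rintro ⟨y, hy⟩
      exact hy
    · intro e
      refine ⟨((1 : D) ⊗ₜ[A] e, 1), ?_⟩
      rw [halg, halg]
      simp [mu₀_tmul]
    · intro x y hxy
      have h1 : mu₀ A D E (x - y) = 0 := by
        rw [map_sub, sub_eq_zero]
        exact hxy
      obtain ⟨t, htunit, h2⟩ := hkey (x - y) h1
      refine ⟨⟨t, htunit⟩, ?_⟩
      rw [mul_sub, sub_eq_zero] at h2
      exact h2
  haveI : Module.Flat (D ⊗[A] E) E := IsLocalization.flat E M
  haveI : Module.Flat D (D ⊗[A] E) := inferInstance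
  exact Module.Flat.trans D (D ⊗[A] E) E

end Groth.Agent.H14.HensProp.FlatCritP
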