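import Mathlib
import Groth.Agent.H14.HensProp.FlatCrit
import Groth.Agent.H14.HensProp.NormalFlat
import Groth.Agent.H3.FlatOfEtale
import Groth.Agent.H3.UnionEtale

/-!
# Purity of the kernel of the multiplication map `R ⊗[A] E → T` for an ind-étale `E`
-/

set_option autoImplicit false
set_option linter.style.haveILetI false
set_option linter.unusedSectionVars false
universe u

namespace Groth.Agent.H14.HensProp.PureKer

open IsLocalRing TensorProduct Groth.Agent.H14.HensProp.FlatCrit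

section Gen

/-- the kernel of a surjection from an étale algebra onto a flat algebra is pure -/
theorem exists_eq_mul_of_etale_of_flat (R P T₀ : Type u) [CommRing R] [CommRing P] [CommRing T₀]
    [Algebra R P] [Algebra.Etale R P] [Algebra R T₀] [Module.Flat R T₀] (f : P →ₐ[R] T₀)
    (hf : Function.Surjective f) (x : P) (hx : f x = 0) : ∃ y : P, f y = 0 ∧ x = x * y := by
  letI algPT : Algebra P T₀ := f.toRingHom.toAlgebra
  have halg : ∀ p : P, algebraMap P T₀ p = f p := fun _ => rfl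
  haveI : IsScalarTower R P T₀ := IsScalarTower.of_algebraMap_eq (fun r => by
    rw [halg, f.commutes])
  haveI : Module.Flat P T₀ := Groth.Agent.H3.FlatOfEtale.flat_of_etale R P T₀
  have hsurj : Function.Surjective (Algebra.ofId P T₀) := hf
  let e : (P ⧸ RingHom.ker (Algebra.ofId P T₀)) ≃ₐ[P] T₀ :=
    Ideal.quotientKerAlgEquivOfSurjective hsurj
  haveI : (RingHom.ker (Algebra.ofId P T₀)).Pure :=
    Module.Flat.of_linearEquiv e.toLinearEquiv
  have hxI : x ∈ RingHom.ker (Algebra.ofId P T₀) := hx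
  obtain ⟨y, hy, hxy⟩ := Ideal.exists_eq_mul_of_pure hxI
  exact ⟨y, hy, hxy⟩

end Gen

section Main

open Groth.Agent.H3.UnionEtale

variable (A E R T : Type u) [CommRing A] [CommRing E] [CommRing R] [CommRing T]
  [Algebra A E] [Algebra A R] [Algebra A T] [Algebra R T] [IsScalarTower A R T]
  [Algebra E T] [IsScalarTower A E T]

/-- every element of `R ⊗[A] E` comes from `R ⊗[A] C₀` for an étale `A`-algebra `C₀` -/
theorem exists_etale_lift (hU : IsUnion A E) (x : R ⊗[A] E) :
    ∃ (C₀ : Type u) (_ : CommRing C₀) (_ : Algebra A C₀) (_ : Algebra.Etale A C₀)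
      (φ : C₀ →ₐ[A] E) (x₀ : R ⊗[A] C₀),
      Algebra.TensorProduct.map (AlgHom.id R R) φ x₀ = x := by
  classical
  obtain ⟨Sx, hSx⟩ := TensorProduct.exists_finset x
  obtain ⟨C₀, _, _, hC₀, φ, hφ⟩ := hU.finset (Sx.image Prod.snd)
  refine ⟨C₀, inferInstance, inferInstance, hC₀, φ, ?_⟩
  have hmem : ∀ mn ∈ Sx, ∃ c : C₀, φ c = mn.2 := by
    intro mn hmn
    exact hφ (Finset.mem_coe.mpr (Finset.mem_image.mpr ⟨mn, hmn, rfl⟩))
  let g : R × E → C₀ := fun mn => if h : ∃ c : C₀, φ c = mn.2 then h.choose else 0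
  have hg : ∀ mn ∈ Sx, φ (g mn) = mn.2 := by
    intro mn hmn
    have h := hmem mn hmn
    simp only [g, dif_pos h]
    exact h.choose_spec
  refine ⟨Sx.sum fun mn => mn.1 ⊗ₜ[A] g mn, ?_⟩
  rw [map_sum, hSx]
  refine Finset.sum_congr rfl fun mn hmn => ?_
  rw [Algebra.TensorProduct.map_tmul, hg mn hmn]
  rfl

/-- the kernel of `R ⊗[A] E → T` is pure, for `E` a union of étale images, `R` normal with support
idempotents relative to `T` -/
theorem exists_eq_mul (hU : IsUnion A E)
    (hnorm : ∀ (N : Ideal R) [N.IsPrime],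
      IsDomain (Localization.AtPrime N) ∧ IsIntegrallyClosed (Localization.AtPrime N))
    (hsupp : ∀ x : R, ∃ e : R, e * e = e ∧ e * x = x ∧
      ∀ t : T, t * algebraMap R T x = 0 → t * algebraMap R T e = 0)
    (x : R ⊗[A] E) (hx : mu₁ A E R T x = 0) :
    ∃ y : R ⊗[A] E, mu₁ A E R T y = 0 ∧ x = x * y := by
  classical
  obtain ⟨C₀, _, _, hC₀, φ, x₀, hx₀⟩ := exists_etale_lift A E R hU x
  let ν : R ⊗[A] C₀ →ₐ[R] T :=
    (mu₁ A E R T).comp (Algebra.TensorProduct.map (AlgHom.id R R) φ)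
  let T₀ : Subalgebra R T := ν.range
  let ν' : R ⊗[A] C₀ →ₐ[R] T₀ := ν.rangeRestrict
  have hν' : Function.Surjective ν' := ν.rangeRestrict_surjective
  haveI : Algebra.Etale R (R ⊗[A] C₀) := inferInstance
  haveI : Algebra.EssFiniteType R T₀ :=
    Algebra.EssFiniteType.of_surjective (R := R) (S := R ⊗[A] C₀) (T := T₀) ν' hν'
  haveI : Algebra.FormallyUnramified R T₀ :=
    Algebra.FormallyUnramified.of_surjective ν' hν'
  have hker : ∀ (M : Ideal T₀) [M.IsMaximal] (x : R) (t : T₀), t ∉ M →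
      t * algebraMap R T₀ x = 0 → ∃ s : R, s ∉ M.comap (algebraMap R T₀) ∧ s * x = 0 := by
    intro M hM x t htM htx
    obtain ⟨e, _, hex, het⟩ := hsupp x
    have h0 : (t : T) * algebraMap R T x = 0 := congrArg Subtype.val htx
    have h1 : t * algebraMap R T₀ e = 0 := Subtype.ext (het (t : T) h0)
    have h2 : algebraMap R T₀ e ∈ M :=
      (hM.isPrime.mem_or_mem (h1 ▸ M.zero_mem)).resolve_left htM
    refine ⟨1 - e, ?_, ?_⟩
    · intro h
      have h3 : algebraMap R T₀ (1 - e) ∈ M := h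
      have h4 : (1 : T₀) ∈ M := by
        have : (1 : T₀) = algebraMap R T₀ (1 - e) + algebraMap R T₀ e := by
          rw [← map_add, sub_add_cancel, map_one]
        rw [this]
        exact M.add_mem h3 h2
      exact hM.ne_top ((Ideal.eq_top_iff_one M).mpr h4)
    · rw [sub_mul, one_mul, hex, sub_self]
  haveI : Module.Flat R T₀ := NormalFlat.flat_of_normal_of_unramified R R T₀ hnorm hker
  have hνx₀ : ν' x₀ = 0 := by
    apply Subtype.ext
    change mu₁ A E R T (Algebra.TensorProduct.map (AlgHom.id R R) φ x₀) = 0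
    rw [hx₀, hx]
  obtain ⟨y₀, hy₀, hxy₀⟩ := exists_eq_mul_of_etale_of_flat R (R ⊗[A] C₀) T₀ ν' hν' x₀ hνx₀
  refine ⟨Algebra.TensorProduct.map (AlgHom.id R R) φ y₀, ?_, ?_⟩
  · have : ((ν' y₀ : T₀) : T) = 0 := by rw [hy₀]; rfl
    exact this
  · rw [← hx₀, ← map_mul, ← hxy₀]

end Main

end Groth.Agent.H14.HensProp.PureKer
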