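import Mathlib
import Groth.Prelude.Def_EssEt
import Groth.Prelude.Def_Hensel
import Groth.Agent.H78.EssEtSub
import Groth.Agent.H78.TotFrac.EssEt
import Groth.Agent.H78.TotFrac.Sub
import Groth.Agent.H78.NormSemilocal.Main
import Groth.Agent.H14.HensProp.EssEtSH3

/-!
# The total ring of fractions of a strict henselization
-/

set_option autoImplicit false
set_option linter.style.haveILetI false
set_option linter.unusedSectionVars false
universe u

namespace Groth.Agent.H14.HensProp.SHFrac

open IsLocalRing

variable (A S : Type u) [CommRing A] [IsLocalRing A]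
  [CommRing S] [IsLocalRing S] [Algebra A S] [IsLocalHom (algebraMap A S)]
  [Hensel.IsStrictHenselization A S]

/-- every finite subset of a strict henselization lies in an essentially étale local subalgebra -/
theorem exists_essEtale_finset (s : Finset S) :
    ∃ E : Subalgebra A S, (s : Set S) ⊆ (E : Set S) ∧
      ∃ _ : IsLocalRing E, EGA4loc.IsEssentiallyEtale A E := by
  classical
  have hs' : Groth.Agent.H14.HensProp.InEtImage A S (s : Set S) :=
    Groth.Agent.H14.HensProp.InEtImage.finset s fun x _ =>
      Groth.Agent.H14.HensProp.inEtImage_of_isStrictHenselization A S x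
  obtain ⟨C, _, _, hCet, φ, hφ⟩ := hs'
  obtain ⟨q, hqp, ψ, hq, hqA, hψ, hinj⟩ := Groth.Agent.H78.EssEtSub.exists_essEtale_of_algHom A S φ
  let e : Localization.AtPrime q ≃ₐ[A] ψ.range := AlgEquiv.ofInjective ψ hinj
  haveI : IsLocalRing ψ.range := RingEquiv.isLocalRing e.toRingEquiv
  refine ⟨ψ.range, ?_, inferInstance, ⟨C, inferInstance, inferInstance, q, hqp, hCet, hqA,
    ⟨e.symm⟩⟩⟩
  intro x hx
  obtain ⟨c, hc⟩ := hφ hx
  exact ⟨algebraMap C (Localization.AtPrime q) c, by rw [← hc]; exact hψ c⟩

section Frac

variable [IsReduced A] (hmin : (minimalPrimes A).Finite)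

include hmin in
/-- a nonzerodivisor of `S` divides a nonzerodivisor of `A` -/
theorem exists_mul_eq_algebraMap (t : S) (ht : t ∈ nonZeroDivisors S) :
    ∃ e : S, ∃ a ∈ nonZeroDivisors A, t * e = algebraMap A S a := by
  classical
  obtain ⟨E, hsE, hEloc, hE⟩ := exists_essEtale_finset A S {t}
  have htE : t ∈ E := hsE (by simp)
  obtain ⟨hflat, hqf⟩ := Groth.Agent.H78.TotFrac.flat_quasiFinite_of_isEssentiallyEtale A E hE
  haveI := hflat
  haveI := hqf
  haveI hloc : IsLocalization ((nonZeroDivisors A).map (algebraMap A E)) (FractionRing E) :=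
    (Groth.Agent.H78.TotFrac.main_abstract A E hmin).1
  have hEF : Function.Injective (algebraMap E (FractionRing E)) :=
    IsFractionRing.injective E (FractionRing E)
  let t' : E := ⟨t, htE⟩
  have ht' : t' ∈ nonZeroDivisors E := by
    rw [mem_nonZeroDivisors_iff_right]
    intro z hz
    have h1 : (z : S) * t = 0 := congrArg Subtype.val hz
    exact Subtype.ext ((mem_nonZeroDivisors_iff_right.mp ht) _ h1)
  have hu : IsUnit (algebraMap E (FractionRing E) t') :=
    IsLocalization.map_units (FractionRing E) (⟨t', ht'⟩ : nonZeroDivisors E)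
  obtain ⟨y, hy⟩ := hu.exists_right_inv
  obtain ⟨e, m, rfl⟩ := IsLocalization.exists_mk'_eq ((nonZeroDivisors A).map (algebraMap A E)) y
  obtain ⟨a, ha, ham⟩ := m.2
  have h1 : algebraMap E (FractionRing E) (t' * e) = algebraMap E (FractionRing E) (m : E) := by
    rw [map_mul]
    have h2 : algebraMap E (FractionRing E) e =
        IsLocalization.mk' (FractionRing E) e m * algebraMap E (FractionRing E) (m : E) :=
      (IsLocalization.mk'_spec _ e m).symm
    rw [h2, ← mul_assoc, hy, one_mul]
  have h3 : t' * e = (m : E) := hEF h1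
  refine ⟨(e : S), a, ha, ?_⟩
  have h4 : ((t' * e : E) : S) = ((m : E) : S) := congrArg Subtype.val h3
  rw [← ham] at h4
  exact h4

include hmin in
/-- the total ring of fractions of `S` is the localization at the nonzerodivisors of `A` -/
theorem isLocalization_fractionRing :
    IsLocalization ((nonZeroDivisors A).map (algebraMap A S)) (FractionRing S) := by
  classical
  have hS : Hensel.IsStrictHenselization A S := inferInstance
  haveI : Module.FaithfullyFlat A S := Groth.Agent.H3.SH.faithfullyFlat A hS
  set M : Submonoid S := (nonZeroDivisors A).map (algebraMap A S) with hMdef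
  let L := Localization M
  have hML : M ≤ nonZeroDivisors S := Groth.Agent.H78.TotFrac.map_nonZeroDivisors_le_of_flat A S
  have hunits : ∀ s ∈ nonZeroDivisors S, IsUnit (algebraMap S L s) := by
    intro s hs
    obtain ⟨e, a, ha, hse⟩ := exists_mul_eq_algebraMap A S hmin s hs
    have h1 : IsUnit (algebraMap S L (s * e)) := by
      rw [hse]
      exact IsLocalization.map_units L (⟨algebraMap A S a, ⟨a, ha, rfl⟩⟩ : M)
    rw [map_mul] at h1
    exact isUnit_of_mul_isUnit_left h1
  haveI : IsLocalization (nonZeroDivisors S) L :=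
    IsLocalization.of_le (M := M) (nonZeroDivisors S) hML hunits
  let θ : L ≃ₐ[S] FractionRing S := IsLocalization.algEquiv (nonZeroDivisors S) L (FractionRing S)
  exact IsLocalization.isLocalization_of_algEquiv M θ

include hmin in
/-- every element of `S` has a multiple by a nonzerodivisor of `A` which is integral over `A` -/
theorem exists_isIntegral_mul (s : S) :
    ∃ a ∈ nonZeroDivisors A, IsIntegral A (algebraMap A S a * s) := by
  classical
  obtain ⟨E, hsE, hEloc, hE⟩ := exists_essEtale_finset A S {s}
  have hsE' : s ∈ E := hsE (by simp)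
  obtain ⟨hflat, hqf⟩ := Groth.Agent.H78.TotFrac.flat_quasiFinite_of_isEssentiallyEtale A E hE
  haveI := hflat
  haveI := hqf
  haveI hloc : IsLocalization ((nonZeroDivisors A).map (algebraMap A E)) (FractionRing E) :=
    (Groth.Agent.H78.TotFrac.main_abstract A E hmin).1
  have hEF : Function.Injective (algebraMap E (FractionRing E)) :=
    IsFractionRing.injective E (FractionRing E)
  set M : Submonoid E := (nonZeroDivisors A).map (algebraMap A E) with hMdef
  let K := FractionRing A
  let F := FractionRing E
  have hg : ∀ y : nonZeroDivisors A, IsUnit (algebraMap A F y) := by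
    intro y
    rw [IsScalarTower.algebraMap_apply A E F]
    exact IsLocalization.map_units F (⟨algebraMap A E y, ⟨y, y.2, rfl⟩⟩ : M)
  letI : Algebra K F := (IsLocalization.lift hg).toAlgebra
  haveI : IsScalarTower A K F := IsScalarTower.of_algebraMap_eq' (IsLocalization.lift_comp hg).symm
  haveI : Algebra.QuasiFinite A F := Algebra.QuasiFinite.of_isLocalization M
  haveI : Algebra.QuasiFinite K F := Algebra.QuasiFinite.of_restrictScalars A K F
  haveI : IsArtinianRing K := Groth.Agent.H78.TotFrac.isArtinianRing_of_isLocalization hmin K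
  haveI : Module.Finite K F := Module.Finite.of_quasiFinite
  have hint : IsIntegral K (algebraMap E F ⟨s, hsE'⟩) := Algebra.IsIntegral.isIntegral _
  obtain ⟨m, hm⟩ := IsIntegral.exists_multiple_integral_of_isLocalization (nonZeroDivisors A)
    (Rₘ := K) _ hint
  refine ⟨m, m.2, ?_⟩
  have h1 : m • algebraMap E F ⟨s, hsE'⟩ =
      (IsScalarTower.toAlgHom A E F) (algebraMap A E m * ⟨s, hsE'⟩) := by
    rw [Submonoid.smul_def, Algebra.smul_def, map_mul]
    congr 1
  rw [h1, isIntegral_algHom_iff (IsScalarTower.toAlgHom A E F) hEF] at hm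
  exact hm.map E.val

end Frac

end Groth.Agent.H14.HensProp.SHFrac
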