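import Mathlib
import Groth.Agent.H14.HensProp.NormEquiv

/-!
# The total ring of fractions of a subalgebra of an ind-étale algebra

A variant of `TotFracSub` and `NormEquiv` where quasi-finiteness of `E` over `A` is replaced by:
every element of `E` has a multiple by a nonzerodivisor of `A` which is integral over `A`.
-/

set_option autoImplicit false
set_option linter.style.haveILetI false
set_option linter.unusedSectionVars false
universe u

namespace Groth.Agent.H14.HensProp.TotFracS

open Groth.Agent.H14.HensProp.TotFracSub

variable (A E : Type u) [CommRing A] [CommRing E] [Algebra A E]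
  (F : Type u) [CommRing F] [Algebra E F] [Algebra A F] [IsScalarTower A E F]
  (D : Subalgebra A E)
  [IsReduced A] (hmin : (minimalPrimes A).Finite) [Module.Flat A E]
  [IsLocalization ((nonZeroDivisors A).map (algebraMap A E)) F]
  (hintA : ∀ e : E, ∃ a ∈ nonZeroDivisors A, IsIntegral A (algebraMap A E a * e))

include hmin hintA in
/-- an intermediate ring containing the inverses of the nonzerodivisors of `A`: its
nonzerodivisors are invertible in it -/
theorem exists_inv_mem_of_regular (L : Subalgebra A F)
    (hL : ∀ s ∈ nonZeroDivisors A, ∃ y ∈ L, algebraMap A F s * y = 1)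
    (x : F) (hx : x ∈ L) (hreg : ∀ z ∈ L, z * x = 0 → z = 0) : ∃ y ∈ L, x * y = 1 := by
  classical
  set M : Submonoid E := (nonZeroDivisors A).map (algebraMap A E) with hMdef
  let K := FractionRing A
  have hg : ∀ y : nonZeroDivisors A, IsUnit (algebraMap A F y) := by
    intro y
    rw [IsScalarTower.algebraMap_apply A E F]
    exact IsLocalization.map_units F (⟨algebraMap A E y, ⟨y, y.2, rfl⟩⟩ : M)
  letI : Algebra K F := (IsLocalization.lift hg).toAlgebra
  haveI : IsScalarTower A K F := IsScalarTower.of_algebraMap_eq' (IsLocalization.lift_comp hg).symm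
  haveI : IsArtinianRing K := Groth.Agent.H78.TotFrac.isArtinianRing_of_isLocalization hmin K
  -- every element of `F` is integral over `K`
  have hKint : ∀ x : F, IsIntegral K x := by
    intro x
    obtain ⟨⟨e, m⟩, hxm⟩ := IsLocalization.surj M x
    obtain ⟨a', ha', ham⟩ := m.2
    obtain ⟨a, ha, hae⟩ := hintA e
    have h1 : IsIntegral K (algebraMap E F (algebraMap A E a * e)) :=
      (hae.map (IsScalarTower.toAlgHom A E F)).tower_top
    have h2 : x = algebraMap K F (IsLocalization.mk' K 1 (⟨a * a', mul_mem ha ha'⟩ :
        nonZeroDivisors A)) * algebraMap E F (algebraMap A E a * e) := by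
      apply (hg ⟨a * a', mul_mem ha ha'⟩).mul_left_cancel
      have h3 : algebraMap A F (a * a') * algebraMap K F (IsLocalization.mk' K 1
          (⟨a * a', mul_mem ha ha'⟩ : nonZeroDivisors A)) = 1 := by
        rw [IsScalarTower.algebraMap_apply A K F, ← map_mul, mul_comm]
        have := IsLocalization.mk'_spec K (1 : A) (⟨a * a', mul_mem ha ha'⟩ : nonZeroDivisors A)
        simp only at this
        rw [this, map_one, map_one]
      change algebraMap A F (a * a') * x = algebraMap A F (a * a') * _
      rw [← mul_assoc, h3, one_mul, map_mul, map_mul, ← IsScalarTower.algebraMap_apply A E F,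
        mul_assoc]
      congr 1
      simp only at hxm
      rw [← hxm, ← ham, ← IsScalarTower.algebraMap_apply A E F, mul_comm]
    rw [h2]
    exact isIntegral_algebraMap.mul h1
  -- `L` as a `K`-subalgebra
  have hKmem : ∀ k : K, algebraMap K F k ∈ L := by
    intro k
    obtain ⟨a, b, rfl⟩ := IsLocalization.exists_mk'_eq (nonZeroDivisors A) k
    obtain ⟨y, hy, hby⟩ := hL b b.2
    have h1 : algebraMap K F (IsLocalization.mk' K a b) * algebraMap A F b = algebraMap A F a := by
      rw [IsScalarTower.algebraMap_apply A K F, IsScalarTower.algebraMap_apply A K F, ← map_mul,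
        IsLocalization.mk'_spec]
    have h2 : algebraMap K F (IsLocalization.mk' K a b) = algebraMap A F a * y := by
      rw [← h1, mul_assoc, hby, mul_one]
    rw [h2]
    exact L.mul_mem (L.algebraMap_mem a) hy
  let LK : Subalgebra K F :=
    { carrier := L
      mul_mem' := fun ha hb => L.mul_mem ha hb
      add_mem' := fun ha hb => L.add_mem ha hb
      algebraMap_mem' := hKmem }
  haveI : Algebra.IsIntegral K LK := by
    refine ⟨fun z => ?_⟩
    rw [← isIntegral_algHom_iff LK.val Subtype.val_injective]
    exact hKint _
  let x' : LK := ⟨x, hx⟩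
  have hx' : x' ∈ nonZeroDivisors LK := by
    rw [mem_nonZeroDivisors_iff_right]
    rintro ⟨z, hz⟩ hzx
    have h1 : z * x = 0 := congrArg Subtype.val hzx
    exact Subtype.ext (hreg z hz h1)
  have hu : IsUnit x' := IsArtinianRing.isUnit_of_nonZeroDivisor_of_isIntegral' (R := K) hx'
  obtain ⟨y, hy⟩ := hu.exists_right_inv
  exact ⟨(y : F), y.2, congrArg Subtype.val hy⟩

theorem hL_KD : ∀ s ∈ nonZeroDivisors A, ∃ y ∈ KD A E F D, algebraMap A F s * y = 1 := by
  intro s hs
  have hu : IsUnit (algebraMap A F s) := by
    rw [IsScalarTower.algebraMap_apply A E F]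
    exact IsLocalization.map_units F
      (⟨algebraMap A E s, ⟨s, hs, rfl⟩⟩ : (nonZeroDivisors A).map (algebraMap A E))
  obtain ⟨y, hy⟩ := hu.exists_right_inv
  exact ⟨y, ⟨s, hs, 1, D.one_mem, by rw [hy, map_one]⟩, hy⟩

include hmin hintA in
/-- a nonzerodivisor of `D` is a unit of `F`, with inverse in `KD` -/
theorem exists_inv_of_mem_nonZeroDivisors (hEF : Function.Injective (algebraMap E F))
    (d : D) (hd : d ∈ nonZeroDivisors D) :
    ∃ y ∈ KD A E F D, algebraMap E F (d : E) * y = 1 := by
  have hg : ∀ y : nonZeroDivisors A, IsUnit (algebraMap A F y) := by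
    intro y
    rw [IsScalarTower.algebraMap_apply A E F]
    exact IsLocalization.map_units F
      (⟨algebraMap A E y, ⟨y, y.2, rfl⟩⟩ : (nonZeroDivisors A).map (algebraMap A E))
  refine exists_inv_mem_of_regular A E F hmin hintA (KD A E F D) (hL_KD A E F D) _
    (algebraMap_mem_KD A E F D d d.2) ?_
  rintro z ⟨a, ha, d', hd', hz⟩ h1
  have h2 : algebraMap E F (d' * (d : E)) = 0 := by
    rw [map_mul, ← hz, mul_assoc, h1, mul_zero]
  have h3 : d' * (d : E) = 0 := hEF (by rw [h2, map_zero])
  have h4 : (⟨d', hd'⟩ : D) * d = 0 := Subtype.ext h3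
  have h5 : (⟨d', hd'⟩ : D) = 0 := (mem_nonZeroDivisors_iff_right.mp hd) _ h4
  have h6 : d' = 0 := congrArg Subtype.val h5
  have h7 : algebraMap A F a * z = 0 := by rw [hz, h6, map_zero]
  exact (hg ⟨a, ha⟩).mul_right_eq_zero.mp h7

include hmin hintA in
theorem isUnit_nzd (hEF : Function.Injective (algebraMap E F))
    (d : D) (hd : d ∈ nonZeroDivisors D) : IsUnit (algebraMap E F (d : E)) := by
  obtain ⟨y, -, hy⟩ := exists_inv_of_mem_nonZeroDivisors A E F D hmin hintA hEF d hd
  exact IsUnit.of_mul_eq_one _ hy

include hmin hintA in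
/-- units of `F` in `KD` are units of `KD` -/
theorem exists_inv_KD (x : F) (hx : x ∈ KD A E F D) (hxu : IsUnit x) :
    ∃ y ∈ KD A E F D, x * y = 1 := by
  refine exists_inv_mem_of_regular A E F hmin hintA (KD A E F D) (hL_KD A E F D) x hx ?_
  intro z _ hz
  exact hxu.mul_left_eq_zero.mp hz

section Main

variable (hEF : Function.Injective (algebraMap E F))

/-- the map from the total ring of fractions of `D` -/
noncomputable def phi : FractionRing D →ₐ[D] F :=
  IsLocalization.liftAlgHom (M := nonZeroDivisors D) (f := Algebra.ofId D F)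
    (fun y => isUnit_nzd A E F D hmin hintA hEF y y.2)

theorem phi_algebraMap (d : D) :
    phi A E F D hmin hintA hEF (algebraMap D (FractionRing D) d) = algebraMap E F (d : E) := by
  rw [AlgHom.commutes]
  rfl

theorem phi_injective : Function.Injective (phi A E F D hmin hintA hEF) := by
  change Function.Injective (phi A E F D hmin hintA hEF).toRingHom
  rw [IsLocalization.injective_iff_map_algebraMap_eq (nonZeroDivisors D)]
  intro x y
  constructor
  · intro h
    exact congrArg (phi A E F D hmin hintA hEF) h
  · intro h
    change phi A E F D hmin hintA hEF (algebraMap _ _ x) = phi A E F D hmin hintA hEF (algebraMap _ _ y) at h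
    rw [phi_algebraMap, phi_algebraMap] at h
    rw [Subtype.ext (hEF h)]

theorem phi_mem_KD (z : FractionRing D) : phi A E F D hmin hintA hEF z ∈ KD A E F D := by
  obtain ⟨d, s, rfl⟩ := IsLocalization.exists_mk'_eq (nonZeroDivisors D) z
  have hu : IsUnit (algebraMap E F ((s : D) : E)) :=
    isUnit_nzd A E F D hmin hintA hEF s s.2
  obtain ⟨y, hy, hsy⟩ := exists_inv_KD A E F D hmin hintA _
    (algebraMap_mem_KD A E F D _ (s : D).2) hu
  have h1 : phi A E F D hmin hintA hEF (IsLocalization.mk' (FractionRing D) d s) *
      algebraMap E F ((s : D) : E) = algebraMap E F (d : E) := by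
    rw [← phi_algebraMap A E F D hmin hintA hEF, ← map_mul, IsLocalization.mk'_spec, phi_algebraMap]
  have h2 : phi A E F D hmin hintA hEF (IsLocalization.mk' (FractionRing D) d s) =
      algebraMap E F (d : E) * y := by
    rw [← h1, mul_assoc, hsy, mul_one]
  rw [h2]
  exact (KD A E F D).mul_mem (algebraMap_mem_KD A E F D _ d.2) hy

theorem exists_phi_eq (x : F) (hx : x ∈ KD A E F D) : ∃ z, phi A E F D hmin hintA hEF z = x := by
  obtain ⟨a, ha, d, hd, h⟩ := hx
  have hau : IsUnit (algebraMap A F a) := by
    rw [IsScalarTower.algebraMap_apply A E F]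
    exact IsLocalization.map_units F
      (⟨algebraMap A E a, ⟨a, ha, rfl⟩⟩ : (nonZeroDivisors A).map (algebraMap A E))
  -- `a` is a nonzerodivisor of `D`
  have haD : algebraMap A D a ∈ nonZeroDivisors D := by
    rw [mem_nonZeroDivisors_iff_right]
    intro z hz
    have h1 : algebraMap E F ((z : D) : E) * algebraMap A F a = 0 := by
      rw [IsScalarTower.algebraMap_apply A E F, ← map_mul]
      have : ((z : D) : E) * algebraMap A E a = 0 := congrArg Subtype.val hz
      rw [this, map_zero]
    have h2 : algebraMap E F ((z : D) : E) = 0 := hau.mul_left_eq_zero.mp h1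
    have h2' : ((z : D) : E) = 0 := hEF (by rw [h2, map_zero])
    exact Subtype.ext h2'
  refine ⟨IsLocalization.mk' (FractionRing D) (⟨d, hd⟩ : D) ⟨algebraMap A D a, haD⟩, ?_⟩
  have h3 : phi A E F D hmin hintA hEF (IsLocalization.mk' (FractionRing D) (⟨d, hd⟩ : D)
      ⟨algebraMap A D a, haD⟩) * algebraMap A F a = algebraMap E F d := by
    have : algebraMap A F a = phi A E F D hmin hintA hEF
        (algebraMap D (FractionRing D) (algebraMap A D a)) := by
      rw [phi_algebraMap]
      exact IsScalarTower.algebraMap_apply A E F a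
    rw [this, ← map_mul, IsLocalization.mk'_spec, phi_algebraMap]
  apply hau.mul_left_cancel
  rw [h, ← h3, mul_comm]

variable (D' : Subalgebra A F)
  (hD' : ∀ x : F, x ∈ D' ↔ (IsIntegral D x ∧
      ∃ a ∈ nonZeroDivisors A, ∃ d ∈ D, algebraMap A F a * x = algebraMap E F d))

/-- the comparison map from the abstract normalization to the normalization inside `F` -/
noncomputable def thetaHom : integralClosure D (FractionRing D) →+* D' where
  toFun z := ⟨phi A E F D hmin hintA hEF z, (hD' _).mpr
    ⟨z.2.map (phi A E F D hmin hintA hEF), phi_mem_KD A E F D hmin hintA hEF z⟩⟩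
  map_one' := Subtype.ext (by simp)
  map_mul' x y := Subtype.ext (by simp)
  map_zero' := Subtype.ext (by simp)
  map_add' x y := Subtype.ext (by simp)

theorem thetaHom_coe (z : integralClosure D (FractionRing D)) :
    (thetaHom A E F D hmin hintA hEF D' hD' z : F) = phi A E F D hmin hintA hEF z := rfl

theorem thetaHom_bijective : Function.Bijective (thetaHom A E F D hmin hintA hEF D' hD') := by
  constructor
  · intro x y h
    apply Subtype.ext
    apply phi_injective A E F D hmin hintA hEF
    exact congrArg Subtype.val h
  · intro x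
    obtain ⟨hint, hK⟩ := (hD' _).mp x.2
    obtain ⟨z, hz⟩ := exists_phi_eq A E F D hmin hintA hEF x hK
    have hzint : IsIntegral D z := by
      rw [← isIntegral_algHom_iff (phi A E F D hmin hintA hEF) (phi_injective A E F D hmin hintA hEF), hz]
      exact hint
    exact ⟨⟨z, hzint⟩, Subtype.ext hz⟩

/-- the normalization inside `F` is isomorphic to the abstract normalization -/
noncomputable def theta : integralClosure D (FractionRing D) ≃+* D' :=
  RingEquiv.ofBijective (thetaHom A E F D hmin hintA hEF D' hD') (thetaHom_bijective A E F D hmin hintA hEF D' hD')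

theorem theta_coe (z : integralClosure D (FractionRing D)) :
    (theta A E F D hmin hintA hEF D' hD' z : F) = phi A E F D hmin hintA hEF z := rfl

variable [IsReduced E] (hEmin : (minimalPrimes E).Finite)

include D hD' hmin hintA hEF hEmin in
/-- all localizations of the normalization are integrally closed domains -/
theorem normal_localization (N : Ideal D') [hN : N.IsPrime] :
    IsDomain (Localization.AtPrime N) ∧ IsIntegrallyClosed (Localization.AtPrime N) := by
  haveI : IsReduced D := isReduced_of_injective D.val Subtype.val_injective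
  haveI : Finite (Groth.Agent.H38.MinPrime D) :=
    NormEquiv.finite_minPrime_of_injective D.val.toRingHom Subtype.val_injective hEmin
  exact Groth.Agent.H38.localization_isDomain_isIntegrallyClosed_of_equiv
    (theta A E F D hmin hintA hEF D' hD').symm
    (fun P' => Groth.Agent.H38.localization_integralClosure (A := D) P') ⟨N, hN⟩

include D hD' hmin hintA hEF hEmin in
/-- support idempotents -/
theorem exists_support_idem (x : D') :
    ∃ e : D', e * e = e ∧ e * x = x ∧ ∀ t : F, t * (x : F) = 0 → t * (e : F) = 0 := by
  haveI : IsReduced D := isReduced_of_injective D.val Subtype.val_injective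
  haveI : Finite (Groth.Agent.H38.MinPrime D) :=
    NormEquiv.finite_minPrime_of_injective D.val.toRingHom Subtype.val_injective hEmin
  let θ := theta A E F D hmin hintA hEF D' hD'
  let z : integralClosure D (FractionRing D) := θ.symm x
  obtain ⟨y, hy⟩ := NormEquiv.exists_pseudoInv D (z : FractionRing D)
  have hidem : ((z : FractionRing D) * y) * ((z : FractionRing D) * y) = (z : FractionRing D) * y := by
    calc ((z : FractionRing D) * y) * ((z : FractionRing D) * y)
        = ((z : FractionRing D) * (z : FractionRing D) * y) * y := by ring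
      _ = (z : FractionRing D) * y := by rw [hy]
  have hint : IsIntegral D ((z : FractionRing D) * y) := by
    refine ⟨Polynomial.X ^ 2 - Polynomial.X, Polynomial.monic_X_pow_sub
      (lt_of_le_of_lt Polynomial.degree_X_le (by norm_num)), ?_⟩
    simp only [Polynomial.eval₂_sub, Polynomial.eval₂_pow, Polynomial.eval₂_X]
    rw [pow_two, hidem, sub_self]
  let e'' : integralClosure D (FractionRing D) := ⟨(z : FractionRing D) * y, hint⟩
  have he''z : e'' * z = z := by
    apply Subtype.ext
    change (z : FractionRing D) * y * (z : FractionRing D) = z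
    calc (z : FractionRing D) * y * (z : FractionRing D)
        = (z : FractionRing D) * (z : FractionRing D) * y := by ring
      _ = z := hy
  refine ⟨θ e'', ?_, ?_, ?_⟩
  · rw [← map_mul]
    congr 1
    exact Subtype.ext hidem
  · have hx : x = θ z := (θ.apply_symm_apply x).symm
    rw [hx, ← map_mul, he''z]
  · intro t ht
    have hx : (x : F) = phi A E F D hmin hintA hEF (z : FractionRing D) := by
      have : x = θ z := (θ.apply_symm_apply x).symm
      rw [this]
      rfl
    have he : ((θ e'' : D') : F) = phi A E F D hmin hintA hEF (z : FractionRing D) *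
        phi A E F D hmin hintA hEF y := by
      change phi A E F D hmin hintA hEF ((z : FractionRing D) * y) = _
      rw [map_mul]
    rw [he, ← mul_assoc, ← hx, ht, zero_mul]


end Main

end Groth.Agent.H14.HensProp.TotFracS
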