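import Mathlib
import Groth.Prelude.Def_EssEt
import Groth.Prelude.Def_Hensel
import Groth.Agent.H14.HensProp.TotFracS
import Groth.Agent.H14.HensProp.SHFrac
import Groth.Agent.H14.HensProp.PureKer
import Groth.Agent.H14.HensProp.FlatCritP
import Groth.Agent.H14.HensProp.NormBC3
import Groth.Agent.H14.HensProp.Strict
import Groth.Agent.H3.HensUnion
import Groth.Agent.H3.StrictHensUnion

/-!
# Flatness of a strict henselization over an intermediate local ring whose normalization is
generated modulo its radical by the normalization of `A` and the ring itself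
-/

set_option autoImplicit false
set_option linter.style.haveILetI false
set_option linter.unusedSectionVars false
universe u

namespace Groth.Agent.H14.HensProp.EtaleCritS

open TensorProduct IsLocalRing

/-- **Flatness of `S` over `D`.** -/
theorem flat
    (A S : Type u) [CommRing A] [IsLocalRing A] [IsReduced A] [IsNoetherianRing A]
    [CommRing S] [IsLocalRing S] [Algebra A S] [IsLocalHom (algebraMap A S)]
    [Hensel.IsStrictHenselization A S]
    (D : Subalgebra A S) [IsLocalRing D] [IsLocalHom (algebraMap D S)]
    (D' : Subalgebra A (FractionRing S))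
    (hD' : ∀ x : (FractionRing S), x ∈ D' ↔ (IsIntegral D x ∧
      ∃ a ∈ nonZeroDivisors A, ∃ d ∈ D, algebraMap A (FractionRing S) a * x = algebraMap S (FractionRing S) d))
    (hgen : ∀ x : D', ∃ y ∈ Subring.closure
        ({z : D' | IsIntegral A (z : FractionRing S) ∧ ∃ a ∈ nonZeroDivisors A, ∃ b : A,
            algebraMap A (FractionRing S) a * (z : FractionRing S) =
              algebraMap A (FractionRing S) b} ∪
         {z : D' | ∃ d ∈ D, (z : FractionRing S) = algebraMap S (FractionRing S) d}),
        x - y ∈ Ideal.jacobson (⊥ : Ideal D')) :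
    Module.Flat D S := by
  classical
  have hmin : (minimalPrimes A).Finite := minimalPrimes.finite_of_isNoetherianRing A
  have hS : Hensel.IsStrictHenselization A S := inferInstance
  haveI : Module.FaithfullyFlat A S := Groth.Agent.H3.SH.faithfullyFlat A hS
  haveI hEN : IsNoetherianRing S :=
    (Groth.Agent.H14.HensProp.isNoetherianRing_iff_of_isStrictHenselization A S).mp inferInstance
  haveI hER : IsReduced S :=
    (Groth.Agent.H3.HensUnion.isReduced_iff (Or.inr hS)).mpr inferInstance
  haveI hloc : IsLocalization ((nonZeroDivisors A).map (algebraMap A S)) (FractionRing S) :=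
    SHFrac.isLocalization_fractionRing A S hmin
  have hintA := SHFrac.exists_isIntegral_mul A S hmin
  have hEF : Function.Injective (algebraMap S (FractionRing S)) :=
    IsFractionRing.injective S (FractionRing S)
  have hEmin : (minimalPrimes S).Finite := minimalPrimes.finite_of_isNoetherianRing S
  have hU : Groth.Agent.H3.UnionEtale.IsUnion A S := Groth.Agent.H3.StrictHensUnion.isUnion
  have hnormT : ∀ (M : Ideal (S ⊗[A] (integralClosure A (FractionRing A)))) [M.IsMaximal],
      IsDomain (Localization.AtPrime M) ∧ IsIntegrallyClosed (Localization.AtPrime M) :=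
    fun M _ => NormBC.normal_tensor_of_isUnion A S hU M
  obtain ⟨e₀, he₀⟩ := NormBC.exists_algEquiv A S hnormT
  -- `D' ≤ S'`
  have hle : D' ≤ ((integralClosure S (FractionRing S)).restrictScalars A) := by
    intro x hx
    obtain ⟨hxi, -⟩ := (hD' x).mp hx
    change IsIntegral S x
    obtain ⟨p, hp, hpx⟩ := hxi
    refine ⟨p.map (algebraMap D S), hp.map _, ?_⟩
    rw [Polynomial.eval₂_map]
    exact hpx
  -- the map `A' → D'`
  have hψmem : ∀ x : integralClosure A (FractionRing A),
      ((NormBC.fracMap A S).comp (integralClosure A (FractionRing A)).val) x ∈ D' := by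
    intro x
    rw [hD']
    constructor
    · have h1 : IsIntegral A (NormBC.fracMap A S (x : FractionRing A)) :=
        x.2.map (NormBC.fracMap A S)
      exact h1.tower_top
    · obtain ⟨⟨b, a⟩, hab⟩ := IsLocalization.surj (nonZeroDivisors A) (x : FractionRing A)
      refine ⟨a, a.2, algebraMap A S b, D.algebraMap_mem b, ?_⟩
      change algebraMap A (FractionRing S) a * NormBC.fracMap A S (x : FractionRing A) = _
      rw [← (NormBC.fracMap A S).commutes, ← map_mul, mul_comm, hab, AlgHom.commutes,
        ← IsScalarTower.algebraMap_apply]
  let ψ : integralClosure A (FractionRing A) →ₐ[A] D' :=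
    AlgHom.codRestrict ((NormBC.fracMap A S).comp (integralClosure A (FractionRing A)).val) D' hψmem
  have hψcoe : ∀ x, ((ψ x : D') : FractionRing S) = NormBC.fracMap A S (x : FractionRing A) :=
    fun _ => rfl
  letI algA'D' : Algebra (integralClosure A (FractionRing A)) D' := ψ.toRingHom.toAlgebra
  haveI : IsScalarTower A (integralClosure A (FractionRing A)) D' :=
    IsScalarTower.of_algebraMap_eq (fun a => (ψ.commutes a).symm)
  letI algD'T : Algebra D' ((integralClosure S (FractionRing S)).restrictScalars A) :=
    (Subalgebra.inclusion hle).toRingHom.toAlgebra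
  letI algA'T : Algebra (integralClosure A (FractionRing A))
      ((integralClosure S (FractionRing S)).restrictScalars A) :=
    ((algebraMap D' ((integralClosure S (FractionRing S)).restrictScalars A)).comp
      (algebraMap (integralClosure A (FractionRing A)) D')).toAlgebra
  haveI : IsScalarTower (integralClosure A (FractionRing A)) D'
      ((integralClosure S (FractionRing S)).restrictScalars A) := IsScalarTower.of_algebraMap_eq' rfl
  -- `S' ≅ A' ⊗ S` over `A'`
  let Φr : (integralClosure A (FractionRing A)) ⊗[A] S ≃+*
      ((integralClosure S (FractionRing S)).restrictScalars A) :=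
    (Algebra.TensorProduct.comm A (integralClosure A (FractionRing A)) S).toRingEquiv.trans
      e₀.toRingEquiv
  have hΦtmul : ∀ (x : integralClosure A (FractionRing A)) (e : S),
      ((Φr (x ⊗ₜ[A] e) : (integralClosure S (FractionRing S)).restrictScalars A) :
        FractionRing S) =
      algebraMap S (FractionRing S) e * NormBC.fracMap A S (x : FractionRing A) := by
    intro x e
    change ((e₀ (e ⊗ₜ[A] x) : integralClosure S (FractionRing S)) : FractionRing S) = _
    rw [he₀, NormBC.toFrac_tmul]
  have hΦr : ∀ x : integralClosure A (FractionRing A),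
      Φr (algebraMap (integralClosure A (FractionRing A))
        ((integralClosure A (FractionRing A)) ⊗[A] S) x) =
      algebraMap (integralClosure A (FractionRing A))
        ((integralClosure S (FractionRing S)).restrictScalars A) x := by
    intro x
    apply Subtype.ext
    change ((e₀ ((1 : S) ⊗ₜ[A] x) : integralClosure S (FractionRing S)) : FractionRing S) =
      NormBC.fracMap A S (x : FractionRing A)
    rw [he₀, NormBC.toFrac_tmul, map_one, one_mul]
  let Φ : (integralClosure A (FractionRing A)) ⊗[A] S ≃ₐ[integralClosure A (FractionRing A)]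
      ((integralClosure S (FractionRing S)).restrictScalars A) := AlgEquiv.ofRingEquiv hΦr
  haveI : Module.Flat (integralClosure A (FractionRing A))
      ((integralClosure S (FractionRing S)).restrictScalars A) :=
    Module.Flat.of_linearEquiv Φ.symm.toLinearEquiv
  -- normality and support idempotents of `D'`
  have hnorm : ∀ (N : Ideal D') [N.IsPrime],
      IsDomain (Localization.AtPrime N) ∧ IsIntegrallyClosed (Localization.AtPrime N) :=
    fun N _ => TotFracS.normal_localization A S (FractionRing S) D hmin hintA hEF D' hD' hEmin N
  have hsupp : ∀ x : D', ∃ e : D', e * e = e ∧ e * x = x ∧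
      ∀ t : ((integralClosure S (FractionRing S)).restrictScalars A),
        t * algebraMap D' ((integralClosure S (FractionRing S)).restrictScalars A) x = 0 →
        t * algebraMap D' ((integralClosure S (FractionRing S)).restrictScalars A) e = 0 := by
    intro x
    obtain ⟨e, he1, he2, he3⟩ :=
      TotFracS.exists_support_idem A S (FractionRing S) D hmin hintA hEF D' hD' hEmin x
    refine ⟨e, he1, he2, fun t ht => ?_⟩
    apply Subtype.ext
    exact he3 (t : FractionRing S) (congrArg Subtype.val ht)
  -- `D → D'`
  have hιmem : ∀ d : D, ((IsScalarTower.toAlgHom A S (FractionRing S)).comp D.val) d ∈ D' := by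
    intro d
    rw [hD']
    refine ⟨isIntegral_algebraMap, 1, one_mem _, d, d.2, ?_⟩
    rw [map_one, one_mul]
    rfl
  let ι : D →ₐ[A] D' :=
    AlgHom.codRestrict ((IsScalarTower.toAlgHom A S (FractionRing S)).comp D.val) D' hιmem
  letI algDD' : Algebra D D' := ι.toRingHom.toAlgebra
  haveI : IsScalarTower A D D' := IsScalarTower.of_algebraMap_eq (fun a => (ι.commutes a).symm)
  have hinj : Function.Injective (algebraMap D D') := by
    intro x y hxy
    have h3 : algebraMap S (FractionRing S) (x : S) = algebraMap S (FractionRing S) (y : S) :=
      congrArg Subtype.val hxy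
    exact Subtype.ext (hEF h3)
  let valD : D' →ₐ[D] FractionRing S :=
    { D'.val.toRingHom with commutes' := fun d => rfl }
  haveI : Algebra.IsIntegral D D' := by
    refine ⟨fun x => ?_⟩
    rw [← isIntegral_algHom_iff valD Subtype.val_injective]
    exact ((hD' _).mp x.2).1
  -- `S → S'`
  have hEmem : ∀ e : S, (IsScalarTower.toAlgHom A S (FractionRing S)) e ∈
      ((integralClosure S (FractionRing S)).restrictScalars A) := by
    intro e
    change IsIntegral S (algebraMap S (FractionRing S) e)
    exact isIntegral_algebraMap
  let ιE : S →ₐ[A] ((integralClosure S (FractionRing S)).restrictScalars A) :=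
    AlgHom.codRestrict (IsScalarTower.toAlgHom A S (FractionRing S)) _ hEmem
  letI algET : Algebra S ((integralClosure S (FractionRing S)).restrictScalars A) :=
    ιE.toRingHom.toAlgebra
  haveI : IsScalarTower A S ((integralClosure S (FractionRing S)).restrictScalars A) :=
    IsScalarTower.of_algebraMap_eq (fun a => (ιE.commutes a).symm)
  haveI : IsScalarTower A D' ((integralClosure S (FractionRing S)).restrictScalars A) :=
    IsScalarTower.of_algebraMap_eq (fun a => ((Subalgebra.inclusion hle).commutes a).symm)
  have hDT : ∀ d : D, algebraMap D' ((integralClosure S (FractionRing S)).restrictScalars A)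
      (algebraMap D D' d) =
      algebraMap S ((integralClosure S (FractionRing S)).restrictScalars A) (algebraMap D S d) :=
    fun d => rfl
  haveI : Algebra.IsIntegral S ((integralClosure S (FractionRing S)).restrictScalars A) := by
    refine ⟨fun t => ?_⟩
    have h1 : IsIntegral S (t : FractionRing S) := t.2
    obtain ⟨p, hp, hpt⟩ := h1
    refine ⟨p, hp, ?_⟩
    apply Subtype.ext
    have h2 : ∀ q : Polynomial S, ((Polynomial.eval₂
        (algebraMap S ((integralClosure S (FractionRing S)).restrictScalars A)) t q :
        (integralClosure S (FractionRing S)).restrictScalars A) : FractionRing S) =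
        Polynomial.eval₂ (algebraMap S (FractionRing S)) (t : FractionRing S) q := by
      intro q
      induction q using Polynomial.induction_on with
      | C a => simp only [Polynomial.eval₂_C]; rfl
      | add p q hp hq =>
        rw [Polynomial.eval₂_add, Polynomial.eval₂_add, ← hp, ← hq]; rfl
      | monomial n a _ =>
        simp only [Polynomial.eval₂_mul, Polynomial.eval₂_C, Polynomial.eval₂_pow,
          Polynomial.eval₂_X]
        rfl
    rw [h2 p, hpt]
    rfl
  -- the section `σ`
  let σ : ((integralClosure S (FractionRing S)).restrictScalars A) →+* D' ⊗[A] S :=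
    (Algebra.TensorProduct.map ψ (AlgHom.id A S)).toRingHom.comp Φr.symm.toRingHom
  have hσΦ : ∀ z, σ (Φr z) = Algebra.TensorProduct.map ψ (AlgHom.id A S) z := by
    intro z
    change Algebra.TensorProduct.map ψ (AlgHom.id A S) (Φr.symm (Φr z)) = _
    rw [RingEquiv.symm_apply_apply]
  have hσE : ∀ e : S, σ (algebraMap S ((integralClosure S (FractionRing S)).restrictScalars A) e) =
      (1 : D') ⊗ₜ[A] e := by
    intro e
    have h1 : algebraMap S ((integralClosure S (FractionRing S)).restrictScalars A) e =
        Φr ((1 : integralClosure A (FractionRing A)) ⊗ₜ[A] e) := by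
      apply Subtype.ext
      rw [hΦtmul, OneMemClass.coe_one, map_one, mul_one]
      rfl
    rw [h1, hσΦ, Algebra.TensorProduct.map_tmul, map_one]
    rfl
  have hC : ∀ c ∈ Set.range ψ,
      σ (algebraMap D' ((integralClosure S (FractionRing S)).restrictScalars A) c) =
      c ⊗ₜ[A] (1 : S) := by
    rintro _ ⟨x, rfl⟩
    have h1 : algebraMap D' ((integralClosure S (FractionRing S)).restrictScalars A) (ψ x) =
        Φr (x ⊗ₜ[A] (1 : S)) := by
      apply Subtype.ext
      rw [hΦtmul, map_one, one_mul]
      rfl
    rw [h1, hσΦ, Algebra.TensorProduct.map_tmul]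
    rfl
  have hσμ : ∀ t, FlatCrit.mu₁ A S D' ((integralClosure S (FractionRing S)).restrictScalars A)
      (σ t) = t := by
    intro t
    obtain ⟨z, rfl⟩ := Φr.surjective t
    rw [hσΦ]
    induction z using TensorProduct.induction_on with
    | zero => simp
    | tmul x e =>
      rw [Algebra.TensorProduct.map_tmul, FlatCrit.mu₁_tmul]
      apply Subtype.ext
      rw [hΦtmul, mul_comm]
      rfl
    | add x y hx hy => rw [map_add, map_add, hx, hy, map_add]
  -- injectivity of `A → S` and of `fracMap`
  haveI : Module.FaithfullyFlat A S := Module.FaithfullyFlat.of_flat_of_isLocalHom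
  have hAE : Function.Injective (algebraMap A S) := FaithfulSMul.algebraMap_injective A S
  have hfracinj : Function.Injective (NormBC.fracMap A S) := by
    rw [injective_iff_map_eq_zero]
    intro w hw
    obtain ⟨b, a, rfl⟩ := IsLocalization.exists_mk'_eq (nonZeroDivisors A) w
    have h1 : NormBC.fracMap A S (IsLocalization.mk' (FractionRing A) b a) *
        NormBC.fracMap A S (algebraMap A (FractionRing A) (a : A)) =
        NormBC.fracMap A S (algebraMap A (FractionRing A) b) := by
      rw [← map_mul, IsLocalization.mk'_spec]
    rw [hw, zero_mul, AlgHom.commutes, IsScalarTower.algebraMap_apply A S (FractionRing S)] at h1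
    have h2 : algebraMap A S b = 0 := hEF (by rw [← h1, map_zero])
    have h3 : b = 0 := hAE (by rw [h2, map_zero])
    rw [h3, IsLocalization.mk'_zero]
  -- the generation hypothesis
  have hgen' : ∀ r : D', ∃ y ∈ Subring.closure (Set.range ψ ∪ Set.range (algebraMap D D')),
      r - y ∈ Ideal.jacobson (⊥ : Ideal D') := by
    intro r
    obtain ⟨y, hy, hry⟩ := hgen r
    refine ⟨y, ?_, hry⟩
    refine Subring.closure_mono ?_ hy
    rintro z (⟨hzi, a, ha, b, hab⟩ | ⟨d, hd, hzd⟩)
    · left
      have hau : IsUnit (algebraMap A (FractionRing S) a) := by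
        rw [IsScalarTower.algebraMap_apply A S (FractionRing S)]
        exact IsLocalization.map_units (FractionRing S)
          (⟨algebraMap A S a, ⟨a, ha, rfl⟩⟩ : (nonZeroDivisors A).map (algebraMap A S))
      let w : FractionRing A := IsLocalization.mk' (FractionRing A) b (⟨a, ha⟩ : nonZeroDivisors A)
      have hw : NormBC.fracMap A S w = (z : FractionRing S) := by
        apply hau.mul_left_cancel
        rw [hab, ← (NormBC.fracMap A S).commutes a, ← map_mul, mul_comm]
        change NormBC.fracMap A S (IsLocalization.mk' (FractionRing A) b
          (⟨a, ha⟩ : nonZeroDivisors A) * algebraMap A (FractionRing A)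
            ((⟨a, ha⟩ : nonZeroDivisors A) : A)) = _
        rw [IsLocalization.mk'_spec, AlgHom.commutes]
      have hwi : IsIntegral A w := by
        rw [← isIntegral_algHom_iff (NormBC.fracMap A S) hfracinj, hw]
        exact hzi
      exact ⟨⟨w, hwi⟩, Subtype.ext hw⟩
    · right
      exact ⟨⟨d, hd⟩, Subtype.ext hzd.symm⟩
  -- purity of the kernel
  have hsuppT : ∀ x : D', ∃ e : D', e * e = e ∧ e * x = x ∧
      ∀ t : ((integralClosure S (FractionRing S)).restrictScalars A),
        t * algebraMap D' ((integralClosure S (FractionRing S)).restrictScalars A) x = 0 →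
        t * algebraMap D' ((integralClosure S (FractionRing S)).restrictScalars A) e = 0 := hsupp
  have hpure := PureKer.exists_eq_mul A S D'
    ((integralClosure S (FractionRing S)).restrictScalars A) hU hnorm hsuppT
  exact FlatCritP.flat A D S D' ((integralClosure S (FractionRing S)).restrictScalars A)
    hDT σ hσE (Set.range ψ) hC hgen' hinj hpure

end Groth.Agent.H14.HensProp.EtaleCritS
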