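import Mathlib
import Groth.Prelude.Def_Hensel
import Groth.Agent.H14.HensProp.EssEtSH
import Groth.Agent.H14.HensProp.HhToHsh2
import Groth.Agent.H3.StrictHensUnion
import Groth.Agent.H3.HensQFFinite
import Groth.Agent.H27.SHWeaklyEtale
import Groth.Agent.S0537

/-!
# Finite subalgebras of the strict henselization of a henselian local ring
-/

set_option autoImplicit false
set_option linter.style.haveILetI false
universe u

namespace Groth.Agent.H14.HensProp.FinSubSH

open IsLocalRing Groth.Agent.H3.UnionEtale

section Integral

/-- the strict henselization of a henselian local ring is integral over it -/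
theorem isIntegral_of_henselian (A S : Type u) [CommRing A] [HenselianLocalRing A] [CommRing S]
    [IsLocalRing S] [Algebra A S] [IsLocalHom (algebraMap A S)]
    [hS : Hensel.IsStrictHenselization A S] : Algebra.IsIntegral A S := by
  refine ⟨fun x => ?_⟩
  obtain ⟨C, _, _, hEt, φ, hφ⟩ := Groth.Agent.H3.StrictHensUnion.isUnion (R := A) (S := S) x
  obtain ⟨c, rfl⟩ := hφ rfl
  let q : Ideal C := (maximalIdeal S).comap φ.toRingHom
  haveI : q.IsPrime := Ideal.comap_isPrime _ _
  haveI : q.LiesOver (maximalIdeal A) := ⟨by
    have h4 : (maximalIdeal S).comap (algebraMap A S) = maximalIdeal A :=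
      ((IsLocalRing.local_hom_TFAE (algebraMap A S)).out 0 4).mp ‹IsLocalHom (algebraMap A S)›
    rw [Ideal.under_def, Ideal.comap_comap, ← h4]
    congr 1
    exact φ.comp_algebraMap.symm⟩
  haveI : Module.Finite A (Localization.AtPrime q) :=
    Groth.Agent.H78.HensQF.finite_atPrime_of_henselian A C q
  let ψ : Localization.AtPrime q →ₐ[A] S :=
    IsLocalization.liftAlgHom (M := q.primeCompl) (f := φ) (fun y => by
      have hy : φ y ∉ maximalIdeal S := y.2
      exact IsLocalRing.notMem_maximalIdeal.mp hy)
  have h1 : φ c = ψ (algebraMap C _ c) := (IsLocalization.lift_eq _ _).symm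
  rw [h1]
  exact (Algebra.IsIntegral.isIntegral (R := A) _).map ψ

end Integral

section Key

variable (A S D : Type u) [CommRing A] [HenselianLocalRing A]
  [CommRing S] [IsLocalRing S] [Algebra A S] [IsLocalHom (algebraMap A S)]
  [hS : Hensel.IsStrictHenselization A S]
  [CommRing D] [IsLocalRing D] [Algebra A D] [Module.Finite A D] [IsLocalHom (algebraMap A D)]
  [Algebra D S] [IsScalarTower A D S] [IsLocalHom (algebraMap D S)]

include A in
/-- a finite local `A`-algebra `D` inside the strict henselization `S` of the henselian local ring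
`A`, whose normalization has purely inseparable residue field extensions over `D`, has `S` as its
strict henselization -/
theorem isStrictHenselization_of_finite [IsNoetherianRing D] [IsReduced D]
    (hinj : Function.Injective (algebraMap D S))
    (hPI : ∀ (M : Ideal (integralClosure D (FractionRing D))) [M.IsMaximal],
      ∀ x : (integralClosure D (FractionRing D)) ⧸ M, ∃ n : ℕ,
        x ^ (ringExpChar ((integralClosure D (FractionRing D)) ⧸ M)) ^ n ∈
          ((Ideal.Quotient.mk M).comp
            (algebraMap D (integralClosure D (FractionRing D)))).range) :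
    Hensel.IsStrictHenselization D S := by
  haveI : HenselianLocalRing D := Groth.Agent.H67.HenselFinite.henselian_of_finite A D
  haveI : HenselianLocalRing S := hS.henselian
  haveI : IsSepClosed (ResidueField S) := hS.isSepClosure.sep_closed
  haveI : Algebra.IsSeparable (ResidueField A) (ResidueField S) := hS.isSepClosure.separable
  obtain ⟨T, _, _, _, _, hT⟩ := Groth.Agent.S0537.result D
  haveI := hT
  haveI : HenselianLocalRing T := hT.henselian
  haveI : IsSepClosed (ResidueField T) := hT.isSepClosure.sep_closed
  haveI : Algebra.IsSeparable (ResidueField D) (ResidueField T) := hT.isSepClosure.separable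
  haveI : IsScalarTower (ResidueField A) (ResidueField D) (ResidueField S) := by
    refine IsScalarTower.of_algebraMap_eq fun x => ?_
    obtain ⟨a, rfl⟩ := residue_surjective x
    change residue S (algebraMap A S a) = residue S (algebraMap D S (algebraMap A D a))
    rw [IsScalarTower.algebraMap_apply A D S]
  haveI : Algebra.IsSeparable (ResidueField D) (ResidueField S) :=
    Algebra.isSeparable_tower_top_of_isSeparable (ResidueField A) (ResidueField D)
      (ResidueField S)
  -- the residue field isomorphism
  let τ₀ : ResidueField T →ₐ[ResidueField D] ResidueField S := IsSepClosed.lift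
  have hτ₀surj : Function.Surjective τ₀ := by
    letI : Algebra (ResidueField T) (ResidueField S) := τ₀.toRingHom.toAlgebra
    haveI : IsScalarTower (ResidueField D) (ResidueField T) (ResidueField S) :=
      IsScalarTower.of_algebraMap_eq fun x => (τ₀.commutes x).symm
    haveI : Algebra.IsSeparable (ResidueField T) (ResidueField S) :=
      Algebra.isSeparable_tower_top_of_isSeparable (ResidueField D) (ResidueField T)
        (ResidueField S)
    exact IsSepClosed.algebraMap_surjective (ResidueField T) (ResidueField S)
  let ε : ResidueField T ≃+* ResidueField S :=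
    RingEquiv.ofBijective τ₀.toRingHom ⟨τ₀.toRingHom.injective, hτ₀surj⟩
  have hε : ∀ x, ε x = τ₀ x := fun x => rfl
  -- the map `g : T → S` over `D`
  have hτ₀ : τ₀.toRingHom.comp (ResidueField.map (algebraMap D T)) =
      ResidueField.map (algebraMap D S) := by
    ext x
    obtain ⟨d, rfl⟩ := residue_surjective x
    have := τ₀.commutes (residue D d)
    simpa using this
  obtain ⟨g, ⟨hg1, hg2⟩, -⟩ := hT.universal S (algebraMap D S) τ₀.toRingHom hτ₀
  -- the map `h : S → T` over `A`
  let f : A →+* T := (algebraMap D T).comp (algebraMap A D)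
  haveI : IsLocalHom f := RingHom.isLocalHom_comp _ _
  have hσ : (ε.symm : ResidueField S →+* ResidueField T).comp
      (ResidueField.map (algebraMap A S)) = ResidueField.map f := by
    ext x
    obtain ⟨a, rfl⟩ := residue_surjective x
    simp only [RingHom.comp_apply, ResidueField.map_residue, RingHom.coe_coe]
    rw [RingEquiv.symm_apply_eq, hε]
    have h1 := congrArg (fun φ => φ (residue D (algebraMap A D a))) hτ₀
    simp only [RingHom.comp_apply, ResidueField.map_residue] at h1
    rw [IsScalarTower.algebraMap_apply A D S]
    exact h1.symm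
  obtain ⟨h, ⟨hh1, hh2⟩, -⟩ := hS.universal T f (ε.symm : ResidueField S →+* ResidueField T) hσ
  -- `g ∘ h = id`
  have hgh : g.comp h = RingHom.id S := by
    obtain ⟨k, -, huniq⟩ := hS.universal S (algebraMap A S) (RingHom.id _) (by
      ext x; simp)
    have e1 : g.comp h = k := by
      refine huniq _ ⟨?_, fun x => ?_⟩
      · rw [RingHom.comp_assoc, hh1, ← RingHom.comp_assoc, hg1]
        exact (IsScalarTower.algebraMap_eq A D S).symm
      · rw [RingHom.comp_apply, hg2, hh2]
        change ε (ε.symm (residue S x)) = _
        rw [RingEquiv.apply_symm_apply]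
        rfl
    have e2 : RingHom.id S = k := huniq _ ⟨rfl, fun x => rfl⟩
    rw [e1, e2]
  have hghx : ∀ x, g (h x) = x := fun x => congrArg (fun φ => φ x) hgh
  -- `T` is integral over `S` via `h`
  haveI : Algebra.IsIntegral A D := Algebra.IsIntegral.of_finite A D
  haveI : Algebra.IsIntegral D T := isIntegral_of_henselian D T
  have hhint : h.IsIntegral := by
    refine RingHom.IsIntegral.tower_top (algebraMap A S) h ?_
    rw [hh1]
    exact RingHom.IsIntegral.trans _ _ (algebraMap_isIntegral_iff.mpr inferInstance)
      (algebraMap_isIntegral_iff.mpr inferInstance)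
  -- `T` is reduced
  haveI : IsReduced T :=
    (Groth.Agent.H3.HensUnion.isReduced_iff (R := D) (S := T) (Or.inr hT)).mpr inferInstance
  haveI : Module.Flat D T :=
    (Groth.Agent.H3.HensUnion.package (R := D) (S := T) (Or.inr hT)).2.toFlat
  haveI : IsLocalHom (algebraMap D D) := ⟨fun a ha => ha⟩
  haveI : Hensel.IsHenselization D D := Groth.Agent.H3.HensQFFinite.isHenselization_self D
  have hext := (HhToHsh.main D D T).mp hPI
  -- the kernel of `g` is contained in every minimal prime
  have hker : ∀ Q ∈ minimalPrimes T, RingHom.ker g ≤ Q := by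
    intro Q hQ
    haveI hQp : Q.IsPrime := hQ.1.1
    have hQext := hext Q hQ
    have hqmin : Q.comap (algebraMap D T) ∈ minimalPrimes D :=
      Groth.Agent.H78.MinPrimeFlat.under_mem_minimalPrimes (R := D) hQ
    obtain ⟨P, hPmin, hPq⟩ := Ideal.exists_minimalPrimes_comap_eq (I := ⊥) (algebraMap D S)
      (Q.comap (algebraMap D T)) (by
        rw [Ideal.comap_bot_of_injective _ hinj]
        exact hqmin)
    haveI hPp : P.IsPrime := hPmin.1.1
    have h1 : Q ≤ P.comap g := by
      rw [hQext, Ideal.map_le_iff_le_comap, Ideal.comap_comap, hg1, hPq]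
    have h3 : (P.comap g).comap h = P := by
      rw [Ideal.comap_comap, hgh, Ideal.comap_id]
    have h2 : Q.comap h = P := by
      have hle : Q.comap h ≤ P := by
        rw [← h3]
        exact Ideal.comap_mono h1
      exact le_antisymm hle (hPmin.2 ⟨Ideal.comap_isPrime _ _, bot_le⟩ hle)
    have h4 : Q = P.comap g := by
      by_contra hne
      have hlt : Q < P.comap g := lt_of_le_of_ne h1 hne
      obtain ⟨x, hxP, hxQ⟩ := Set.exists_of_ssubset hlt
      letI : Algebra S T := h.toAlgebra
      have := Ideal.comap_lt_comap_of_integral_mem_sdiff (R := S) h1 ⟨hxP, hxQ⟩ (hhint x)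
      change Q.comap h < (P.comap g).comap h at this
      rw [h2, h3] at this
      exact lt_irrefl _ this
    rw [h4]
    exact Ideal.comap_mono bot_le
  have hginj : Function.Injective g := by
    rw [RingHom.injective_iff_ker_eq_bot, eq_bot_iff]
    intro x hx
    have hnil : x ∈ nilradical T := by
      rw [nilradical_eq_sInf, Ideal.mem_sInf]
      intro Q hQ
      haveI : Q.IsPrime := hQ
      obtain ⟨Q', hQ', hle⟩ := Ideal.exists_minimalPrimes_le (bot_le : (⊥ : Ideal T) ≤ Q)
      exact hle (hker Q' hQ' hx)
    rw [nilradical_eq_zero] at hnil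
    exact hnil
  have hgsurj : Function.Surjective g := fun x => ⟨h x, hghx x⟩
  exact Groth.Agent.H27.SHWeaklyEtale.isStrictHenselization_of_ringEquiv
    (RingEquiv.ofBijective g ⟨hginj, hgsurj⟩)
    (fun d => congrArg (fun φ => φ d) hg1) hT

end Key

end Groth.Agent.H14.HensProp.FinSubSH
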