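import Mathlib

/-!
# Pure inseparability of residue fields: two formulations
-/

set_option autoImplicit false
set_option linter.style.haveILetI false
universe u

namespace Groth.Agent.H14.HensProp.FinSubSH

open IsLocalRing

section Conv

variable {D B : Type u} [CommRing D] [IsLocalRing D] [CommRing B] [Algebra D B]
  [Algebra.IsIntegral D B] (M : Ideal B) [M.IsMaximal]

theorem map_eq_zero_iff_mem (d : D) :
    ((algebraMap B M.ResidueField).comp (algebraMap D B)) d = 0 ↔ d ∈ maximalIdeal D := by
  rw [RingHom.comp_apply, Ideal.algebraMap_residueField_eq_zero]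
  have : M.comap (algebraMap D B) = maximalIdeal D :=
    eq_maximalIdeal (Ideal.isMaximal_comap_of_isIntegral_of_isMaximal M)
  rw [← this]
  rfl

/-- the image of the local ring `D` in the residue field at `M` is a subfield -/
theorem closure_range_eq :
    (Subfield.closure (Set.range ((algebraMap B M.ResidueField).comp (algebraMap D B))) :
      Set M.ResidueField) = Set.range ((algebraMap B M.ResidueField).comp (algebraMap D B)) := by
  set φ := (algebraMap B M.ResidueField).comp (algebraMap D B) with hφ
  let K : Subfield M.ResidueField :=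
    { φ.range with
      inv_mem' := by
        rintro _ ⟨d, rfl⟩
        by_cases hd : φ d = 0
        · rw [hd, inv_zero]
          exact ⟨0, map_zero _⟩
        · have hu : IsUnit d := by
            rw [map_eq_zero_iff_mem M d] at hd
            exact IsLocalRing.notMem_maximalIdeal.mp hd
          obtain ⟨u, rfl⟩ := hu
          refine ⟨((u⁻¹ : Dˣ) : D), ?_⟩
          symm
          apply inv_eq_of_mul_eq_one_right
          change φ (u : D) * φ ((u⁻¹ : Dˣ) : D) = 1
          rw [← map_mul, Units.mul_inv, map_one] }
  have hK : (K : Set M.ResidueField) = Set.range φ := rfl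
  have : Subfield.closure (Set.range φ) = K :=
    Subfield.closure_eq_of_le (le_of_eq hK.symm) (fun x hx => Subfield.subset_closure hx)
  rw [this, hK]

theorem mem_closure_iff (y : M.ResidueField) :
    y ∈ Subfield.closure (Set.range ((algebraMap B M.ResidueField).comp (algebraMap D B))) ↔
      ∃ d : D, algebraMap B M.ResidueField (algebraMap D B d) = y := by
  change y ∈ (Subfield.closure (Set.range ((algebraMap B M.ResidueField).comp (algebraMap D B))) :
      Set M.ResidueField) ↔ _
  rw [closure_range_eq M]
  rfl

/-- pure inseparability of the residue field at `M` over the image of `D`, in terms of the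
separable closure -/
theorem pow_mem_iff_separableClosure_eq_bot :
    (∀ x : B ⧸ M, ∃ n : ℕ, x ^ (ringExpChar (B ⧸ M)) ^ n ∈
        ((Ideal.Quotient.mk M).comp (algebraMap D B)).range) ↔
      separableClosure (Subfield.closure (Set.range
        ((algebraMap B M.ResidueField).comp (algebraMap D B)))) M.ResidueField = ⊥ := by
  set K₀ := Subfield.closure (Set.range ((algebraMap B M.ResidueField).comp (algebraMap D B)))
    with hK₀
  letI : Field (B ⧸ M) := Ideal.Quotient.field M
  have hbij := Ideal.bijective_algebraMap_quotient_residueField M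
  let q := ringExpChar (B ⧸ M)
  haveI : ExpChar (B ⧸ M) q := ringExpChar.expChar _
  haveI : ExpChar M.ResidueField q :=
    expChar_of_injective_ringHom (f := algebraMap (B ⧸ M) M.ResidueField) hbij.1 q
  haveI : ExpChar K₀ q :=
    (algebraMap K₀ M.ResidueField).expChar (algebraMap K₀ M.ResidueField).injective q
  haveI : Algebra.IsAlgebraic K₀ M.ResidueField := by
    refine ⟨fun y => ?_⟩
    obtain ⟨b, rfl⟩ := Ideal.algebraMap_residueField_surjective M y
    obtain ⟨p, hpm, hp⟩ := Algebra.IsIntegral.isIntegral (R := D) b
    refine IsIntegral.isAlgebraic ?_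
    let ψ : D →+* K₀ := ((algebraMap B M.ResidueField).comp (algebraMap D B)).codRestrict K₀
      (fun d => Subfield.subset_closure ⟨d, rfl⟩)
    refine ⟨p.map ψ, hpm.map ψ, ?_⟩
    rw [Polynomial.eval₂_map]
    have : (algebraMap K₀ M.ResidueField).comp ψ =
        (algebraMap B M.ResidueField).comp (algebraMap D B) := by
      ext d; rfl
    rw [this, ← Polynomial.hom_eval₂, hp, map_zero]
  rw [separableClosure.eq_bot_iff, isPurelyInseparable_iff_pow_mem K₀ q]
  constructor
  · intro h y
    obtain ⟨x, rfl⟩ := hbij.2 y
    obtain ⟨n, d, hd⟩ := h x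
    refine ⟨n, ⟨algebraMap B M.ResidueField (algebraMap D B d),
      (mem_closure_iff M _).mpr ⟨d, rfl⟩⟩, ?_⟩
    rw [← map_pow, ← hd]
    rfl
  · intro h x
    obtain ⟨n, ⟨z, hz⟩, hzn⟩ := h (algebraMap (B ⧸ M) M.ResidueField x)
    obtain ⟨d, rfl⟩ := (mem_closure_iff M z).mp hz
    refine ⟨n, d, ?_⟩
    apply hbij.1
    rw [map_pow, ← hzn]
    rfl

end Conv

end Groth.Agent.H14.HensProp.FinSubSH
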