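import Mathlib
import Groth.Prelude.Def_Hensel
import Groth.Prelude.Def_EGA4b
import Groth.Agent.H14.HensProp.FinSubSH
import Groth.Agent.H14.HensProp.FinSubSH2
import Groth.Agent.H10.WeaklyEtaleResidue

/-!
# Finite subalgebras of the strict henselization: étaleness criterion (S16436)
-/

set_option autoImplicit false
set_option linter.style.haveILetI false
universe u

namespace Groth.Agent.H14.HensProp.FinSubSH

open IsLocalRing

section Local

/-- a ring over which a local ring is integral, injecting into it, is local -/
theorem isLocalRing_of_isIntegral (D S : Type u) [CommRing D] [CommRing S] [IsLocalRing S]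
    [Algebra D S] [Algebra.IsIntegral D S] (hinj : Function.Injective (algebraMap D S)) :
    IsLocalRing D := by
  haveI : Nontrivial D := (algebraMap D S).domain_nontrivial
  refine IsLocalRing.of_unique_max_ideal ⟨(maximalIdeal S).comap (algebraMap D S),
    Ideal.isMaximal_comap_of_isIntegral_of_isMaximal _, ?_⟩
  intro m hm
  obtain ⟨Q, hQ, rfl⟩ := Ideal.exists_ideal_over_maximal_of_isIntegral (S := S) m (by
    rw [(RingHom.injective_iff_ker_eq_bot _).mp hinj]
    exact bot_le)
  rw [eq_maximalIdeal hQ]

/-- an integral algebra map between local rings is local -/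
theorem isLocalHom_of_isIntegral (D S : Type u) [CommRing D] [IsLocalRing D] [CommRing S]
    [IsLocalRing S] [Algebra D S] [Algebra.IsIntegral D S] : IsLocalHom (algebraMap D S) := by
  refine ((IsLocalRing.local_hom_TFAE (algebraMap D S)).out 0 4).mpr ?_
  exact eq_maximalIdeal (Ideal.isMaximal_comap_of_isIntegral_of_isMaximal _)

end Local

section Main

/-- **S16436.** -/
theorem main
    (A S : Type u) [CommRing A] [HenselianLocalRing A] [IsReduced A] [IsNoetherianRing A]
    [CommRing S] [IsLocalRing S] [Algebra A S] [IsLocalHom (algebraMap A S)]
    [hS : Hensel.IsStrictHenselization A S] (D : Subalgebra A S) [Module.Finite A D] :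
    (Algebra.Etale A D ∧
        ∀ Q ∈ minimalPrimes S, Q = Ideal.map (algebraMap D S) (Q.comap (algebraMap D S))) ↔
      ∀ (M : Ideal (integralClosure D (FractionRing D))) [M.IsMaximal],
        separableClosure (Subfield.closure (Set.range
          ((algebraMap (integralClosure D (FractionRing D)) M.ResidueField).comp
            (algebraMap D (integralClosure D (FractionRing D)))))) M.ResidueField = ⊥ := by
  have hinj : Function.Injective (algebraMap D S) := Subtype.val_injective
  haveI : Algebra.IsIntegral A D := Algebra.IsIntegral.of_finite A D
  haveI : Algebra.IsIntegral A S := isIntegral_of_henselian A S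
  haveI : Algebra.IsIntegral D S := Algebra.IsIntegral.tower_top (R := A)
  haveI : IsLocalRing D := isLocalRing_of_isIntegral D S hinj
  haveI : IsLocalHom (algebraMap A D) := isLocalHom_of_isIntegral A D
  haveI : IsLocalHom (algebraMap D S) := isLocalHom_of_isIntegral D S
  haveI : HenselianLocalRing D := Groth.Agent.H67.HenselFinite.henselian_of_finite A D
  haveI : IsNoetherianRing D := IsNoetherianRing.of_finite A D
  haveI : IsReduced S :=
    (Groth.Agent.H3.HensUnion.isReduced_iff (R := A) (S := S) (Or.inr hS)).mpr inferInstance
  haveI : IsReduced D := isReduced_of_injective (algebraMap D S) hinj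
  haveI : IsLocalHom (algebraMap D D) := ⟨fun a ha => ha⟩
  haveI : Hensel.IsHenselization D D := Groth.Agent.H3.HensQFFinite.isHenselization_self D
  have hconv : (∀ (M : Ideal (integralClosure D (FractionRing D))) [M.IsMaximal],
      separableClosure (Subfield.closure (Set.range
        ((algebraMap (integralClosure D (FractionRing D)) M.ResidueField).comp
          (algebraMap D (integralClosure D (FractionRing D)))))) M.ResidueField = ⊥) ↔
      (∀ (M : Ideal (integralClosure D (FractionRing D))) [M.IsMaximal],
        ∀ x : (integralClosure D (FractionRing D)) ⧸ M, ∃ n : ℕ,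
          x ^ (ringExpChar ((integralClosure D (FractionRing D)) ⧸ M)) ^ n ∈
            ((Ideal.Quotient.mk M).comp
              (algebraMap D (integralClosure D (FractionRing D)))).range) := by
    constructor
    · intro h M hM
      exact (pow_mem_iff_separableClosure_eq_bot (D := D) M).mpr (h M)
    · intro h M hM
      exact (pow_mem_iff_separableClosure_eq_bot (D := D) M).mp (h M)
  rw [hconv]
  constructor
  · rintro ⟨hEt, hext⟩
    haveI : Hensel.IsStrictHenselization D S :=
      EssEtSH.isStrictHenselization_of_tower A S D hS
    exact (HhToHsh.main D D S).mpr hext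
  · intro hPI
    have hSD : Hensel.IsStrictHenselization D S :=
      isStrictHenselization_of_finite A S D hinj hPI
    haveI := hSD
    refine ⟨?_, (HhToHsh.main D D S).mp hPI⟩
    haveI : Algebra.WeaklyEtale A D :=
      Groth.Agent.H27.SHWeaklyEtale.weaklyEtale_of_isStrictHenselization A D S hSD hS
    haveI : Algebra.FormallyUnramified A D :=
      Groth.Agent.H10.formallyUnramified_of_weaklyEtale A D
    haveI : Algebra.FinitePresentation A D := Algebra.FinitePresentation.of_finiteType.mp inferInstance
    exact Algebra.Etale.of_formallyUnramified_of_flat

end Main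

end Groth.Agent.H14.HensProp.FinSubSH
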