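import Mathlib
import Groth.Agent.H2.LocalCrit

/-!
# A special case of the fibrewise criterion of flatness

`A → D → E` local homomorphisms of local rings, `D` and `E` Noetherian, `E` flat over `A`, and
`𝔪_A D = 𝔪_D`.  Then `E` is flat over `D`.
-/

set_option autoImplicit false
set_option linter.style.haveILetI false
universe u

namespace Groth.Agent.H14.HensProp.FlatSub

open IsLocalRing TensorProduct

section Fibre

variable (A D E : Type u) [CommRing A] [CommRing D] [CommRing E] [IsLocalRing A] [IsLocalRing D]
  [IsLocalRing E] [Algebra A D] [Algebra D E] [Algebra A E] [IsScalarTower A D E]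
  [IsNoetherianRing D] [IsNoetherianRing E] [IsLocalHom (algebraMap D E)] [Module.Flat A E]

theorem flat_of_map_maximalIdeal
    (hm : (maximalIdeal A).map (algebraMap A D) = maximalIdeal D) : Module.Flat D E := by
  classical
  letI : Field (D ⧸ maximalIdeal D) := Ideal.Quotient.field (maximalIdeal D)
  haveI : Module.Flat (D ⧸ maximalIdeal D) ((D ⧸ maximalIdeal D) ⊗[D] E) := inferInstance
  refine Groth.Agent.H2.flat_of_rTensor_injective_of_flat_quotient (R := D) (S := E) (M := E)
    (maximalIdeal D) ?_ ?_
  · rw [IsLocalRing.jacobson_eq_maximalIdeal ⊥ bot_ne_top]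
    exact ((IsLocalRing.local_hom_TFAE (algebraMap D E)).out 0 2).mp ‹_›
  · -- the comparison map
    have hmem : ∀ a : maximalIdeal A, algebraMap A D (a : A) ∈ maximalIdeal D := by
      intro a
      rw [← hm]
      exact Ideal.mem_map_of_mem _ a.2
    let f₁ : (maximalIdeal A) →ₗ[A] (maximalIdeal D) :=
      { toFun := fun a => ⟨algebraMap A D (a : A), hmem a⟩
        map_add' := fun a b => by
          apply Subtype.ext
          simp
        map_smul' := fun c a => by
          apply Subtype.ext
          simp [Algebra.smul_def] }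
    let ψ : (maximalIdeal A) ⊗[A] E →ₗ[A] (maximalIdeal D) ⊗[D] E :=
      (TensorProduct.mapOfCompatibleSMul D A A (maximalIdeal D) E) ∘ₗ (f₁.rTensor E)
    have hψ : ∀ (a : (maximalIdeal A)) (e : E), ψ (a ⊗ₜ[A] e) = (f₁ a) ⊗ₜ[D] e := fun a e => rfl
    have hsurj : Function.Surjective ψ := by
      intro z
      induction z using TensorProduct.induction_on with
      | zero => exact ⟨0, map_zero _⟩
      | add x y hx hy =>
        obtain ⟨x', rfl⟩ := hx
        obtain ⟨y', rfl⟩ := hy
        exact ⟨x' + y', map_add _ _ _⟩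
      | tmul x e =>
        obtain ⟨x, hx⟩ := x
        have key : ∀ (y : D) (hy : y ∈ Ideal.map (algebraMap A D) (maximalIdeal A)) (e : E),
            ((⟨y, hm ▸ hy⟩ : (maximalIdeal D)) ⊗ₜ[D] e : (maximalIdeal D) ⊗[D] E) ∈ LinearMap.range ψ := by
          intro y hy
          refine Submodule.span_induction (p := fun y hy => ∀ e : E,
            ((⟨y, hm ▸ hy⟩ : (maximalIdeal D)) ⊗ₜ[D] e : (maximalIdeal D) ⊗[D] E) ∈ LinearMap.range ψ) ?_ ?_ ?_ ?_ hy
          · rintro _ ⟨a, ha, rfl⟩ e
            exact ⟨(⟨a, ha⟩ : (maximalIdeal A)) ⊗ₜ[A] e, rfl⟩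
          · intro e
            have : ((⟨0, hm ▸ (Ideal.map (algebraMap A D) (maximalIdeal A)).zero_mem⟩ : (maximalIdeal D)) ⊗ₜ[D] e : (maximalIdeal D) ⊗[D] E)
                = 0 := by
              have h0 : (⟨0, hm ▸ (Ideal.map (algebraMap A D) (maximalIdeal A)).zero_mem⟩ : (maximalIdeal D)) = 0 := rfl
              rw [h0, TensorProduct.zero_tmul]
            rw [this]
            exact Submodule.zero_mem _
          · intro y₁ y₂ h₁ h₂ ih₁ ih₂ e
            have : ((⟨y₁ + y₂, hm ▸ (Ideal.map (algebraMap A D) (maximalIdeal A)).add_mem h₁ h₂⟩ : (maximalIdeal D)) ⊗ₜ[D] e :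
                (maximalIdeal D) ⊗[D] E) = (⟨y₁, hm ▸ h₁⟩ : (maximalIdeal D)) ⊗ₜ[D] e + (⟨y₂, hm ▸ h₂⟩ : (maximalIdeal D)) ⊗ₜ[D] e := by
              rw [← TensorProduct.add_tmul]
              rfl
            rw [this]
            exact Submodule.add_mem _ (ih₁ e) (ih₂ e)
          · intro d y h ih e
            have : ((⟨d • y, hm ▸ (Ideal.map (algebraMap A D) (maximalIdeal A)).smul_mem d h⟩ : (maximalIdeal D)) ⊗ₜ[D] e :
                (maximalIdeal D) ⊗[D] E) = (⟨y, hm ▸ h⟩ : (maximalIdeal D)) ⊗ₜ[D] (d • e) := by
              rw [← TensorProduct.smul_tmul]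
              rfl
            rw [this]
            exact ih (d • e)
        have hx' : x ∈ Ideal.map (algebraMap A D) (maximalIdeal A) := by rw [hm]; exact hx
        exact key x hx' e
    have hcomp : ∀ w : (maximalIdeal A) ⊗[A] E, TensorProduct.lid D E ((maximalIdeal D).subtype.rTensor E (ψ w)) =
        TensorProduct.lid A E ((maximalIdeal A).subtype.rTensor E w) := by
      intro w
      induction w using TensorProduct.induction_on with
      | zero => simp
      | add x y hx hy => simp only [map_add, hx, hy]
      | tmul a e =>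
        rw [hψ]
        simp [f₁]
    have hflat : Function.Injective ((maximalIdeal A).subtype.rTensor E) :=
      Module.Flat.rTensor_preserves_injective_linearMap (M := E) (maximalIdeal A).subtype
        (Submodule.injective_subtype (maximalIdeal A))
    rw [injective_iff_map_eq_zero]
    intro z hz
    obtain ⟨w, rfl⟩ := hsurj z
    have h1 : TensorProduct.lid A E ((maximalIdeal A).subtype.rTensor E w) = 0 := by
      rw [← hcomp, hz, map_zero]
    have h2 : (maximalIdeal A).subtype.rTensor E w = 0 := by
      have := (TensorProduct.lid A E).injective (h1.trans (map_zero _).symm)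
      exact this
    have h3 : w = 0 := hflat (h2.trans (map_zero _).symm)
    rw [h3, map_zero]

end Fibre

end Groth.Agent.H14.HensProp.FlatSub
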