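import Mathlib
import Groth.Prelude.Def_Hensel
import Groth.Prelude.Def_EGA4b
import Groth.Prelude.Def_EssEt
import Groth.Agent.H78.FracFG.Main
import Groth.Agent.H78.EssEtSub2
import Groth.Agent.H14.HensProp.FlatSub
import Groth.Agent.H14.HensProp.FlatSub2

/-!
# S16439: Noetherian local intermediate rings `D` of a strict henselization with `𝔪_A D = 𝔪_D`
and finitely generated total ring of fractions are essentially étale
-/

set_option autoImplicit false
set_option linter.style.haveILetI false
universe u

namespace Groth.Agent.H14.HensProp.FlatSub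

open IsLocalRing

/-- basic properties of an essentially étale local algebra -/
theorem props_of_isEssentiallyEtale (A E : Type u) [CommRing A] [IsLocalRing A] [CommRing E]
    [Algebra A E] (hE : EGA4loc.IsEssentiallyEtale A E) :
    Module.Flat A E ∧ Algebra.EssFiniteType A E ∧ Algebra.FormallyUnramified A E := by
  obtain ⟨C, _, _, q, hq, hEt, -, ⟨e⟩⟩ := hE
  haveI : Module.Flat C (Localization.AtPrime q) := IsLocalization.flat _ q.primeCompl
  haveI : Module.Flat A (Localization.AtPrime q) := Module.Flat.trans A C _
  haveI : Algebra.EssFiniteType C (Localization.AtPrime q) :=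
    Algebra.EssFiniteType.of_isLocalization _ q.primeCompl
  haveI : Algebra.EssFiniteType A (Localization.AtPrime q) :=
    Algebra.EssFiniteType.comp A C _
  haveI : Algebra.FormallyUnramified C (Localization.AtPrime q) :=
    Algebra.FormallyUnramified.of_isLocalization q.primeCompl
  haveI : Algebra.FormallyUnramified A (Localization.AtPrime q) :=
    Algebra.FormallyUnramified.comp A C _
  exact ⟨Module.Flat.of_linearEquiv e.toLinearEquiv,
    Algebra.EssFiniteType.of_surjective (e.symm : Localization.AtPrime q →ₐ[A] E)
      e.symm.surjective,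
    Algebra.FormallyUnramified.of_equiv e.symm⟩

/-- a Noetherian local `A`-subalgebra `D` of an essentially étale local subalgebra `E` of `S`,
dominated by `E`, with `𝔪_A D = 𝔪_D`, is essentially of finite type over `A` -/
theorem essFiniteType_of_le (A S : Type u) [CommRing A] [IsLocalRing A] [IsNoetherianRing A]
    [CommRing S] [IsLocalRing S] [Algebra A S]
    (D E : Subalgebra A S) [IsLocalRing D] [IsLocalHom (algebraMap D S)] [IsNoetherianRing D]
    [IsLocalRing E] (hDE : D ≤ E) (hE : EGA4loc.IsEssentiallyEtale A E)
    (hm : Ideal.map (algebraMap A D) (maximalIdeal A) = maximalIdeal D) :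
    Algebra.EssFiniteType A D := by
  obtain ⟨hflat, heft, hunr⟩ := props_of_isEssentiallyEtale A E hE
  haveI := hflat
  haveI := heft
  haveI := hunr
  haveI : IsNoetherianRing E := Algebra.EssFiniteType.isNoetherianRing A E
  let ι : D →ₐ[A] E := Subalgebra.inclusion hDE
  letI algDE : Algebra D E := ι.toRingHom.toAlgebra
  haveI : IsScalarTower A D E := IsScalarTower.of_algebraMap_eq'
    (RingHom.ext fun a => (ι.commutes a).symm)
  haveI : IsLocalHom (algebraMap D E) := by
    constructor
    intro x hx
    have h1 : IsUnit (algebraMap E S (algebraMap D E x)) := hx.map _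
    exact isUnit_of_map_unit (algebraMap D S) x h1
  haveI : Module.Flat D E := flat_of_map_maximalIdeal A D E hm
  exact essFiniteType_of_flat A D E

/-- S16439 -/
theorem main16439
    (A S : Type u) [CommRing A] [IsLocalRing A] [IsReduced A] (hA : EGA4.IsExcellent A)
    [CommRing S] [IsLocalRing S] [Algebra A S] [IsLocalHom (algebraMap A S)]
    [Hensel.IsStrictHenselization A S] (D : Subalgebra A S) [IsLocalRing D]
    [IsLocalHom (algebraMap D S)] [IsNoetherianRing D]
    (hfg : ∃ t : Finset (FractionRing D), ∀ x : FractionRing D, ∃ a ∈ nonZeroDivisors A,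
      algebraMap A (FractionRing D) a * x ∈ Algebra.adjoin A (t : Set (FractionRing D)))
    (hm : Ideal.map (algebraMap A D) (maximalIdeal A) = maximalIdeal D) :
    EGA4loc.IsEssentiallyEtale A D := by
  haveI : IsNoetherianRing A := hA.1
  have hmin : (minimalPrimes A).Finite := minimalPrimes.finite_of_isNoetherianRing A
  obtain ⟨E, hDE, hEloc, hEet⟩ := (Groth.Agent.H78.FracFG.main A S hmin D).mp hfg
  letI := hEloc
  haveI : Algebra.EssFiniteType A D := essFiniteType_of_le A S D E hDE hEet hm
  exact Groth.Agent.H78.EssEtSub.isEssentiallyEtale_of_map_maximalIdeal A S D hm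

end Groth.Agent.H14.HensProp.FlatSub
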