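import Mathlib
import Groth.Agent.H14.HensProp.NormBC

/-!
# Transporting normalizations between total rings of fractions

`E ⊆ S` a subalgebra with `S` flat over `E`; then `Frac E → Frac S` is injective and a subalgebra
`D'` of `Frac S` given by an integrality-and-denominator condition over `D ⊆ E` corresponds to the
analogous subalgebra of `Frac E`.
-/

set_option autoImplicit false
set_option linter.style.haveILetI false
set_option linter.unusedSectionVars false
universe u

namespace Groth.Agent.H14.HensProp.FracTransport

open TensorProduct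

section Inj

variable (A B : Type u) [CommRing A] [CommRing B] [Algebra A B] [Module.Flat A B]

theorem fracMap_algebraMap (a : A) :
    NormBC.fracMap A B (algebraMap A (FractionRing A) a) =
      algebraMap B (FractionRing B) (algebraMap A B a) := by
  rw [AlgHom.commutes, IsScalarTower.algebraMap_apply A B (FractionRing B)]

theorem fracMap_injective (h : Function.Injective (algebraMap A B)) :
    Function.Injective (NormBC.fracMap A B) := by
  rw [injective_iff_map_eq_zero]
  intro w hw
  obtain ⟨b, a, rfl⟩ := IsLocalization.exists_mk'_eq (nonZeroDivisors A) w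
  have h1 : NormBC.fracMap A B (IsLocalization.mk' (FractionRing A) b a) *
      NormBC.fracMap A B (algebraMap A (FractionRing A) (a : A)) =
      NormBC.fracMap A B (algebraMap A (FractionRing A) b) := by
    rw [← map_mul, IsLocalization.mk'_spec]
  rw [hw, zero_mul, fracMap_algebraMap] at h1
  have h2 : algebraMap A B b = 0 :=
    IsFractionRing.injective B (FractionRing B) (by rw [← h1, map_zero])
  have h3 : b = 0 := h (by rw [h2, map_zero])
  rw [h3, IsLocalization.mk'_zero]

end Inj

section Sub

variable {A S : Type u} [CommRing A] [CommRing S] [Algebra A S] (D E : Subalgebra A S)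
  (hDE : D ≤ E)

/-- `D` viewed inside `E` -/
def subE : Subalgebra A E := D.comap E.val

theorem mem_subE (e : E) : e ∈ subE D E ↔ (e : S) ∈ D := Iff.rfl

/-- the identification of `subE D E` with `D` -/
noncomputable def subEquiv : subE D E ≃ₐ[A] D :=
  AlgEquiv.ofBijective
    (AlgHom.codRestrict ((E.val).comp (subE D E).val) D (fun x => x.2))
    ⟨fun _ _ hxy => Subtype.ext (Subtype.ext (congrArg (fun d : D => (d : S)) hxy)),
      fun d => ⟨⟨⟨d.1, hDE d.2⟩, d.2⟩, rfl⟩⟩

theorem subEquiv_coe (x : subE D E) : ((subEquiv D E hDE x : D) : S) = ((x : E) : S) := rfl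

end Sub

section Norm

variable {A S : Type u} [CommRing A] [CommRing S] [Algebra A S] (D E : Subalgebra A S)
  (hDE : D ≤ E) [Module.Flat E S]

/-- the map of total rings of fractions, as an `A`-algebra map -/
noncomputable def fA : FractionRing E →ₐ[A] FractionRing S :=
  IsLocalization.liftAlgHom (M := nonZeroDivisors E)
    (f := (IsScalarTower.toAlgHom A S (FractionRing S)).comp E.val)
    (fun y => by
      change IsUnit (algebraMap S (FractionRing S) ((y : E) : S))
      exact IsLocalization.map_units (FractionRing S)
        (⟨algebraMap E S y, NormBC.algebraMap_mem_nonZeroDivisors E S y.2⟩ : nonZeroDivisors S))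

theorem fA_algebraMap (e : E) :
    fA (A := A) E (algebraMap E (FractionRing E) e) = algebraMap S (FractionRing S) (e : S) := by
  unfold fA
  rw [IsLocalization.liftAlgHom_apply, IsLocalization.lift_eq]
  rfl

theorem fA_injective : Function.Injective (fA (A := A) E) := by
  rw [injective_iff_map_eq_zero]
  intro w hw
  obtain ⟨b, a, rfl⟩ := IsLocalization.exists_mk'_eq (nonZeroDivisors E) w
  have h1 : fA (A := A) E (IsLocalization.mk' (FractionRing E) b a) *
      fA (A := A) E (algebraMap E (FractionRing E) (a : E)) =
      fA (A := A) E (algebraMap E (FractionRing E) b) := by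
    rw [← map_mul, IsLocalization.mk'_spec]
  rw [hw, zero_mul, fA_algebraMap] at h1
  have h2 : (b : S) = 0 :=
    IsFractionRing.injective S (FractionRing S) (by rw [← h1, map_zero])
  have h3 : b = 0 := Subtype.ext h2
  rw [h3, IsLocalization.mk'_zero]

theorem fA_sub (d : subE D E) :
    fA (A := A) E (algebraMap (subE D E) (FractionRing E) d) =
      algebraMap D (FractionRing S) (subEquiv D E hDE d) := by
  change fA (A := A) E (algebraMap E (FractionRing E) (d : E)) = _
  rw [fA_algebraMap]
  rfl

include hDE in
theorem isIntegral_iff (x : FractionRing E) :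
    IsIntegral (subE D E) x ↔ IsIntegral D (fA (A := A) E x) := by
  constructor
  · intro hx
    refine IsIntegral.map_of_comp_eq ((subEquiv D E hDE : subE D E ≃+* D) : subE D E →+* D)
      ((fA (A := A) E : FractionRing E →+* FractionRing S)) ?_ hx
    ext d
    exact (fA_sub D E hDE d).symm
  · rintro ⟨p, hp, hpx⟩
    refine ⟨p.map (((subEquiv D E hDE).symm : D ≃+* subE D E) : D →+* subE D E), hp.map _, ?_⟩
    apply fA_injective (A := A) E
    rw [map_zero]
    have h1 := Polynomial.hom_eval₂ (p.map (((subEquiv D E hDE).symm : D ≃+* subE D E) :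
      D →+* subE D E)) (algebraMap (subE D E) (FractionRing E))
      ((fA (A := A) E : FractionRing E →+* FractionRing S)) x
    change (fA (A := A) E : FractionRing E →+* FractionRing S) _ = 0
    rw [h1, Polynomial.eval₂_map]
    have h2 : (((fA (A := A) E : FractionRing E →+* FractionRing S)).comp
        (algebraMap (subE D E) (FractionRing E))).comp
        (((subEquiv D E hDE).symm : D ≃+* subE D E) : D →+* subE D E) =
        algebraMap D (FractionRing S) := by
      ext d
      change fA (A := A) E (algebraMap (subE D E) (FractionRing E) ((subEquiv D E hDE).symm d)) = _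
      rw [fA_sub D E hDE, AlgEquiv.apply_symm_apply]
    rw [h2]
    exact hpx

omit hDE [Module.Flat E S] in
theorem isIntegral_of_fA_self [Module.Flat D S] (x : FractionRing D)
    (hx : IsIntegral D (fA (A := A) D x)) : IsIntegral D x := by
  obtain ⟨p, hp, hpx⟩ := hx
  refine ⟨p, hp, ?_⟩
  apply fA_injective (A := A) D
  rw [map_zero]
  have h1 := Polynomial.hom_eval₂ p (algebraMap D (FractionRing D))
    ((fA (A := A) D : FractionRing D →+* FractionRing S)) x
  change (fA (A := A) D : FractionRing D →+* FractionRing S) _ = 0
  rw [h1]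
  have h2 : ((fA (A := A) D : FractionRing D →+* FractionRing S)).comp
      (algebraMap D (FractionRing D)) = algebraMap D (FractionRing S) := by
    ext d
    exact fA_algebraMap D d
  rw [h2]
  exact hpx

variable (D' : Subalgebra A (FractionRing S))
  (hD' : ∀ x : (FractionRing S), x ∈ D' ↔ (IsIntegral D x ∧
      ∃ a ∈ nonZeroDivisors A, ∃ d ∈ D, algebraMap A (FractionRing S) a * x = algebraMap S (FractionRing S) d))

/-- the normalization inside `Frac E` -/
noncomputable def normE : Subalgebra A (FractionRing E) := D'.comap (fA (A := A) E)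

include hDE hD' in
theorem mem_normE_iff (x : FractionRing E) :
    x ∈ normE E D' ↔ (IsIntegral (subE D E) x ∧
      ∃ a ∈ nonZeroDivisors A, ∃ d ∈ subE D E,
        algebraMap A (FractionRing E) a * x = algebraMap E (FractionRing E) d) := by
  change fA (A := A) E x ∈ D' ↔ _
  rw [hD', ← isIntegral_iff D E hDE]
  constructor
  · rintro ⟨hi, a, ha, d, hd, h⟩
    refine ⟨hi, a, ha, ⟨d, hDE hd⟩, hd, ?_⟩
    apply fA_injective (A := A) E
    rw [map_mul, AlgHom.commutes, fA_algebraMap]
    exact h
  · rintro ⟨hi, a, ha, d, hd, h⟩
    refine ⟨hi, a, ha, (d : S), hd, ?_⟩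
    rw [← fA_algebraMap, ← h, map_mul, AlgHom.commutes]

include hDE hD' in
theorem exists_fA_eq [Module.Flat A S] (y : FractionRing S) (hy : y ∈ D') :
    ∃ x : FractionRing E, fA (A := A) E x = y := by
  obtain ⟨-, a, ha, d, hd, h⟩ := (hD' y).mp hy
  have haS : algebraMap A S a ∈ nonZeroDivisors S := NormBC.algebraMap_mem_nonZeroDivisors A S ha
  have haE : algebraMap A E a ∈ nonZeroDivisors E := by
    rw [mem_nonZeroDivisors_iff_right]
    intro z hz
    have h1 : (z : S) * algebraMap A S a = 0 := congrArg Subtype.val hz
    exact Subtype.ext ((mem_nonZeroDivisors_iff_right.mp haS) _ h1)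
  have hu : IsUnit (algebraMap A (FractionRing S) a) := by
    rw [IsScalarTower.algebraMap_apply A S (FractionRing S)]
    exact IsLocalization.map_units (FractionRing S) (⟨algebraMap A S a, haS⟩ : nonZeroDivisors S)
  refine ⟨IsLocalization.mk' (FractionRing E) (⟨d, hDE hd⟩ : E) ⟨algebraMap A E a, haE⟩, ?_⟩
  apply hu.mul_left_cancel
  rw [h]
  have h2 : fA (A := A) E (IsLocalization.mk' (FractionRing E) (⟨d, hDE hd⟩ : E)
      ⟨algebraMap A E a, haE⟩) * fA (A := A) E (algebraMap E (FractionRing E) (algebraMap A E a)) =
      fA (A := A) E (algebraMap E (FractionRing E) (⟨d, hDE hd⟩ : E)) := by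
    rw [← map_mul]
    congr 1
    exact IsLocalization.mk'_spec (FractionRing E) (⟨d, hDE hd⟩ : E) ⟨algebraMap A E a, haE⟩
  rw [fA_algebraMap, fA_algebraMap] at h2
  rw [mul_comm, IsScalarTower.algebraMap_apply A S (FractionRing S)]
  exact h2

/-- the identification of the two normalizations -/
noncomputable def normEquiv [Module.Flat A S]
    (hD' : ∀ x : (FractionRing S), x ∈ D' ↔ (IsIntegral D x ∧
      ∃ a ∈ nonZeroDivisors A, ∃ d ∈ D,
        algebraMap A (FractionRing S) a * x = algebraMap S (FractionRing S) d)) :
    normE E D' ≃ₐ[A] D' :=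
  AlgEquiv.ofBijective
    (AlgHom.codRestrict ((fA (A := A) E).comp (normE E D').val) D' (fun x => x.2))
    ⟨fun x y hxy => Subtype.ext (fA_injective (A := A) E (congrArg (fun d : D' => (d : FractionRing S)) hxy)),
      fun y => by
        obtain ⟨x, hx⟩ := exists_fA_eq D E hDE D' hD' (y : FractionRing S) y.2
        exact ⟨⟨x, by change fA (A := A) E x ∈ D'; rw [hx]; exact y.2⟩, Subtype.ext hx⟩⟩

theorem normEquiv_coe [Module.Flat A S]
    (hD' : ∀ x : (FractionRing S), x ∈ D' ↔ (IsIntegral D x ∧
      ∃ a ∈ nonZeroDivisors A, ∃ d ∈ D,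
        algebraMap A (FractionRing S) a * x = algebraMap S (FractionRing S) d))
    (x : normE E D') :
    ((normEquiv D E hDE D' hD' x : D') : FractionRing S) = fA (A := A) E (x : FractionRing E) := rfl

end Norm

section Equiv

variable {R R' : Type u} [CommRing R] [CommRing R'] (e : R ≃+* R')

theorem mem_jacobson_bot_equiv (x : R) :
    e x ∈ Ideal.jacobson (⊥ : Ideal R') ↔ x ∈ Ideal.jacobson (⊥ : Ideal R) := by
  rw [Ideal.mem_jacobson_bot, Ideal.mem_jacobson_bot]
  constructor
  · intro h y
    have h1 := h (e y)
    rw [← map_mul, ← map_one e, ← map_add] at h1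
    exact (isUnit_map_iff e _).mp h1
  · intro h y
    have h1 := h (e.symm y)
    have h2 : e (x * e.symm y + 1) = e x * y + 1 := by
      rw [map_add, map_mul, map_one, RingEquiv.apply_symm_apply]
    rw [← h2]
    exact h1.map e

include e in
theorem finite_maximal_equiv (h : {N : Ideal R' | N.IsMaximal}.Finite) :
    {N : Ideal R | N.IsMaximal}.Finite := by
  refine Set.Finite.of_injOn (f := fun N : Ideal R => Ideal.comap (e.symm : R' →+* R) N) ?_ ?_ h
  · intro N hN
    haveI : N.IsMaximal := hN
    exact Ideal.comap_isMaximal_of_surjective (e.symm : R' →+* R) e.symm.surjective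
  · intro N _ N' _ hNN'
    exact Ideal.comap_injective_of_surjective (e.symm : R' →+* R) e.symm.surjective hNN'

end Equiv

end Groth.Agent.H14.HensProp.FracTransport
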