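import Mathlib
import Groth.Prelude.Def_EssEt
import Groth.Prelude.Def_EGA4b
import Groth.Agent.H14.HensProp.EtaleCritE
import Groth.Agent.H14.HensProp.FracTransport
import Groth.Agent.H14.HensProp.FlatSub3
import Groth.Agent.H14.HensProp.EssEtSH
import Groth.Agent.H14.EssEtBasic
import Groth.Agent.H78.FracFG.Main
import Groth.Agent.H78.EssEtSub2
import Groth.Agent.H3.StrictHensUnique

/-!
# S16450: essentially étale iff the residual field products agree
-/

set_option autoImplicit false
set_option linter.style.haveILetI false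
set_option linter.unusedSectionVars false
universe u

namespace Groth.Agent.H14.HensProp.Main16450

open TensorProduct IsLocalRing

section Gen

theorem finite_setOf_isMaximal_of_finite (R B : Type u) [CommRing R] [IsLocalRing R] [CommRing B]
    [Algebra R B] [Module.Finite R B] : {N : Ideal B | N.IsMaximal}.Finite := by
  have : Algebra.IsIntegral R B := Algebra.IsIntegral.of_finite _ _
  refine Set.Finite.subset (Algebra.QuasiFinite.finite_primesOver (S := B) (maximalIdeal R)) ?_
  intro N hN
  have : N.IsMaximal := hN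
  refine ⟨hN.isPrime, ⟨?_⟩⟩
  have h1 : (N.comap (algebraMap R B)).IsMaximal :=
    Ideal.isMaximal_comap_of_isIntegral_of_isMaximal N
  exact (IsLocalRing.eq_maximalIdeal h1).symm

theorem prod_sup_le {ι : Type*} {B : Type u} [CommRing B] (s : Finset ι) (X : ι → Ideal B)
    (J₀ : Ideal B) : ∏ i ∈ s, (X i ⊔ J₀) ≤ (∏ i ∈ s, X i) ⊔ J₀ := by
  classical
  induction s using Finset.induction with
  | empty => simp
  | insert a s ha ih =>
    rw [Finset.prod_insert ha, Finset.prod_insert ha]
    calc (X a ⊔ J₀) * ∏ i ∈ s, (X i ⊔ J₀) ≤ (X a ⊔ J₀) * ((∏ i ∈ s, X i) ⊔ J₀) :=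
          Ideal.mul_mono_right ih
      _ ≤ (X a * ∏ i ∈ s, X i) ⊔ J₀ := by
          rw [Ideal.sup_mul, Ideal.mul_sup, Ideal.mul_sup]
          refine sup_le (sup_le le_sup_left (le_trans Ideal.mul_le_right le_sup_right))
            (sup_le (le_trans Ideal.mul_le_left le_sup_right)
              (le_trans Ideal.mul_le_left le_sup_right))

theorem iInf_sup_le {ι : Type*} {B : Type u} [CommRing B] (s : Finset ι) (X : ι → Ideal B)
    (J₀ : Ideal B) (hp : (s : Set ι).Pairwise (fun i j => X i ⊔ X j = ⊤)) :
    ⨅ i ∈ s, (X i ⊔ J₀) ≤ (∏ i ∈ s, X i) ⊔ J₀ := by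
  have h1 : (s : Set ι).Pairwise (Function.onFun IsCoprime (fun i => X i ⊔ J₀)) := by
    intro i hi j hj hij
    change IsCoprime (X i ⊔ J₀) (X j ⊔ J₀)
    rw [Ideal.isCoprime_iff_sup_eq]
    have h2 := hp hi hj hij
    apply top_le_iff.mp
    rw [← h2]
    exact sup_le_sup le_sup_left le_sup_left
  rw [← Ideal.prod_eq_iInf_of_pairwise_isCoprime h1]
  exact prod_sup_le s X J₀

end Gen

section Pre

variable (A S : Type u) [CommRing A] [CommRing S] [Algebra A S] [Module.Flat A S]

/-- elements of `Frac S` integral over `A` with a denominator in `A` come from the normalization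
of `A` -/
theorem exists_fracMap_eq (hinj : Function.Injective (algebraMap A S)) (x : FractionRing S)
    (hi : IsIntegral A x) (a : A) (ha : a ∈ nonZeroDivisors A) (b : A)
    (hab : algebraMap A (FractionRing S) a * x = algebraMap A (FractionRing S) b) :
    ∃ w : integralClosure A (FractionRing A), NormBC.fracMap A S (w : FractionRing A) = x := by
  have hau : IsUnit (algebraMap A (FractionRing S) a) := by
    rw [IsScalarTower.algebraMap_apply A S (FractionRing S)]
    exact IsLocalization.map_units (FractionRing S)
      (⟨algebraMap A S a, NormBC.algebraMap_mem_nonZeroDivisors A S ha⟩ : nonZeroDivisors S)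
  let w : FractionRing A := IsLocalization.mk' (FractionRing A) b (⟨a, ha⟩ : nonZeroDivisors A)
  have hw : NormBC.fracMap A S w = x := by
    apply hau.mul_left_cancel
    rw [hab, ← (NormBC.fracMap A S).commutes a, ← map_mul, mul_comm]
    change NormBC.fracMap A S (IsLocalization.mk' (FractionRing A) b
      (⟨a, ha⟩ : nonZeroDivisors A) * algebraMap A (FractionRing A)
        ((⟨a, ha⟩ : nonZeroDivisors A) : A)) = _
    rw [IsLocalization.mk'_spec, AlgHom.commutes]
  have hwi : IsIntegral A w := by
    rw [← isIntegral_algHom_iff (NormBC.fracMap A S) (FracTransport.fracMap_injective A S hinj), hw]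
    exact hi
  exact ⟨⟨w, hwi⟩, hw⟩

end Pre

/-- the direction `⇐` (only finiteness and surjectivity are needed) -/
theorem backward
    (A S : Type u) [CommRing A] [IsLocalRing A] [IsReduced A] (hA : EGA4.IsExcellent A)
    [CommRing S] [IsLocalRing S] [Algebra A S] [IsLocalHom (algebraMap A S)]
    [Hensel.IsStrictHenselization A S] (D : Subalgebra A S) [IsLocalRing D]
    [IsLocalHom (algebraMap D S)]
    (hfg : ∃ t : Finset (FractionRing D), ∀ x : FractionRing D, ∃ a ∈ nonZeroDivisors A,
      algebraMap A (FractionRing D) a * x ∈ Algebra.adjoin A (t : Set (FractionRing D)))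
    (A' D' : Subalgebra A (FractionRing S))
    (hA' : ∀ x : (FractionRing S), x ∈ A' ↔ (IsIntegral A x ∧
      ∃ a ∈ nonZeroDivisors A, ∃ b : A, algebraMap A (FractionRing S) a * x = algebraMap A (FractionRing S) b))
    (hD' : ∀ x : (FractionRing S), x ∈ D' ↔ (IsIntegral D x ∧
      ∃ a ∈ nonZeroDivisors A, ∃ d ∈ D, algebraMap A (FractionRing S) a * x = algebraMap S (FractionRing S) d))
    (hle : A' ≤ D') (ι : D →ₐ[A] D') (hι : ∀ d : D, (ι d : (FractionRing S)) = algebraMap S (FractionRing S) d)
    (hfin : {N : Ideal D' | N.IsMaximal}.Finite)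
    (hsurj : Function.Surjective ((Ideal.Quotient.mkₐ A (Ideal.jacobson (⊥ : Ideal D'))).comp
          (Algebra.TensorProduct.productMap (Subalgebra.inclusion hle) ι))) :
    EGA4loc.IsEssentiallyEtale A D := by
  classical
  haveI : IsNoetherianRing A := hA.1
  have hmin : (minimalPrimes A).Finite := minimalPrimes.finite_of_isNoetherianRing A
  have hS : Hensel.IsStrictHenselization A S := inferInstance
  haveI : Module.FaithfullyFlat A S := Groth.Agent.H3.SH.faithfullyFlat A hS
  obtain ⟨E, hDE, hEloc, hEet⟩ := (Groth.Agent.H78.FracFG.main A S hmin D).mp hfg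
  letI := hEloc
  haveI : IsLocalHom (algebraMap A E) := by
    constructor
    intro a ha
    have h1 : IsUnit (algebraMap E S (algebraMap A E a)) := ha.map _
    rw [← IsScalarTower.algebraMap_apply] at h1
    exact isUnit_of_map_unit (algebraMap A S) a h1
  obtain ⟨hflatE, heft, hunr⟩ := FlatSub.props_of_isEssentiallyEtale A E hEet
  haveI := hflatE
  haveI := heft
  haveI := hunr
  haveI : IsLocalHom (algebraMap E S) := by
    constructor
    intro x hx
    by_contra hxu
    have h1 : x ∈ maximalIdeal E := hxu
    have h2 : E.val x ∈ maximalIdeal S :=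
      Groth.Agent.H14.algHom_map_maximalIdeal_of_essentiallyEtale hEet E.val h1
    exact h2 hx
  have hES : Hensel.IsStrictHenselization E S := EssEtSH.isStrictHenselization_of_tower A S E hS
  haveI : Module.FaithfullyFlat E S := Groth.Agent.H3.SH.faithfullyFlat E hES
  -- `D` inside `E`
  let eD := FracTransport.subEquiv D E hDE
  haveI : IsLocalRing (FracTransport.subE D E) := eD.symm.toRingEquiv.isLocalRing
  haveI : IsLocalHom (algebraMap (FracTransport.subE D E) E) := by
    constructor
    intro x hx
    have h1 : IsUnit (algebraMap D S (eD x)) := by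
      have h2 : IsUnit (algebraMap E S (algebraMap (FracTransport.subE D E) E x)) := hx.map _
      exact h2
    have h3 : IsUnit (eD x) := isUnit_of_map_unit (algebraMap D S) _ h1
    have h4 : IsUnit (eD.symm (eD x)) := h3.map eD.symm
    rwa [AlgEquiv.symm_apply_apply] at h4
  -- the normalization inside `Frac E`
  have hD'E := FracTransport.mem_normE_iff D E hDE D' hD'
  let eN := FracTransport.normEquiv D E hDE D' hD'
  have heN : ∀ x, ((eN x : D') : FractionRing S) = FracTransport.fA (A := A) E (x : FractionRing E) :=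
    fun x => rfl
  have hfinE : {N : Ideal (FracTransport.normE E D') | N.IsMaximal}.Finite :=
    FracTransport.finite_maximal_equiv eN.toRingEquiv hfin
  have hgenE : ∀ x : FracTransport.normE E D', ∃ y ∈ Subring.closure
      ({z : FracTransport.normE E D' | IsIntegral A (z : FractionRing E) ∧
          ∃ a ∈ nonZeroDivisors A, ∃ b : A,
            algebraMap A (FractionRing E) a * (z : FractionRing E) =
              algebraMap A (FractionRing E) b} ∪
       {z : FracTransport.normE E D' | ∃ d ∈ FracTransport.subE D E,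
          (z : FractionRing E) = algebraMap E (FractionRing E) d}),
      x - y ∈ Ideal.jacobson (⊥ : Ideal (FracTransport.normE E D')) := by
    have hcl : ∀ z : A' ⊗[A] D,
        eN.symm (Algebra.TensorProduct.productMap (Subalgebra.inclusion hle) ι z) ∈
        Subring.closure
      ({z : FracTransport.normE E D' | IsIntegral A (z : FractionRing E) ∧
          ∃ a ∈ nonZeroDivisors A, ∃ b : A,
            algebraMap A (FractionRing E) a * (z : FractionRing E) =
              algebraMap A (FractionRing E) b} ∪
       {z : FracTransport.normE E D' | ∃ d ∈ FracTransport.subE D E,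
          (z : FractionRing E) = algebraMap E (FractionRing E) d}) := by
      intro z
      induction z using TensorProduct.induction_on with
      | zero => rw [map_zero, map_zero]; exact Subring.zero_mem _
      | add z₁ z₂ h₁ h₂ =>
        rw [map_add, map_add]
        exact Subring.add_mem _ h₁ h₂
      | tmul a' d =>
        rw [Algebra.TensorProduct.productMap_apply_tmul, map_mul]
        refine Subring.mul_mem _ (Subring.subset_closure (Or.inl ?_))
          (Subring.subset_closure (Or.inr ?_))
        · -- the element coming from `A'`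
          set w := eN.symm (Subalgebra.inclusion hle a') with hw
          have hwf : FracTransport.fA (A := A) E (w : FractionRing E) = (a' : FractionRing S) := by
            rw [← heN, hw, AlgEquiv.apply_symm_apply]
            rfl
          obtain ⟨hi, a, ha, b, hab⟩ := (hA' _).mp a'.2
          refine ⟨?_, a, ha, b, ?_⟩
          · rw [← isIntegral_algHom_iff (FracTransport.fA (A := A) E)
              (FracTransport.fA_injective (A := A) E), hwf]
            exact hi
          · apply FracTransport.fA_injective (A := A) E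
            rw [map_mul, AlgHom.commutes, AlgHom.commutes, hwf]
            exact hab
        · -- the element coming from `D`
          set w := eN.symm (ι d) with hw
          have hwf : FracTransport.fA (A := A) E (w : FractionRing E) =
              algebraMap S (FractionRing S) (d : S) := by
            rw [← heN, hw, AlgEquiv.apply_symm_apply]
            exact hι d
          refine ⟨⟨(d : S), hDE d.2⟩, d.2, ?_⟩
          apply FracTransport.fA_injective (A := A) E
          rw [hwf, FracTransport.fA_algebraMap]
    intro x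
    obtain ⟨z, hz⟩ := hsurj (Ideal.Quotient.mk _ (eN x))
    have hz' : Ideal.Quotient.mk (Ideal.jacobson (⊥ : Ideal D'))
        (Algebra.TensorProduct.productMap (Subalgebra.inclusion hle) ι z) =
        Ideal.Quotient.mk _ (eN x) := hz
    rw [Ideal.Quotient.eq] at hz'
    refine ⟨eN.symm (Algebra.TensorProduct.productMap (Subalgebra.inclusion hle) ι z), hcl z, ?_⟩
    rw [← FracTransport.mem_jacobson_bot_equiv eN.toRingEquiv]
    have h5 : eN.toRingEquiv (x - eN.symm (Algebra.TensorProduct.productMap
        (Subalgebra.inclusion hle) ι z)) =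
        -(Algebra.TensorProduct.productMap (Subalgebra.inclusion hle) ι z - eN x) := by
      change eN (x - eN.symm _) = _
      rw [map_sub, AlgEquiv.apply_symm_apply]
      ring
    rw [h5]
    exact Ideal.neg_mem_iff _ |>.mpr hz'
  -- apply the criterion
  obtain ⟨hft, hm⟩ := EtaleCritE.main A E hA hEet (FracTransport.subE D E)
    (FracTransport.normE E D') hD'E hfinE hgenE
  haveI := hft
  haveI : Algebra.EssFiniteType A D :=
    Algebra.EssFiniteType.of_surjective (R := A) (S := FracTransport.subE D E) (T := D)
      eD.toAlgHom eD.surjective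
  haveI : IsLocalHom (algebraMap A D) := by
    constructor
    intro a ha
    have h1 : IsUnit (algebraMap D S (algebraMap A D a)) := ha.map _
    rw [← IsScalarTower.algebraMap_apply] at h1
    exact isUnit_of_map_unit (algebraMap A S) a h1
  have hmD : Ideal.map (algebraMap A D) (maximalIdeal A) = maximalIdeal D := by
    apply le_antisymm
    · rw [Ideal.map_le_iff_le_comap]
      intro a ha
      exact map_nonunit (algebraMap A D) a ha
    · intro x hx
      have h1 : eD.symm x ∈ maximalIdeal (FracTransport.subE D E) := by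
        intro hu
        have h2 : IsUnit (eD (eD.symm x)) := hu.map eD
        rw [AlgEquiv.apply_symm_apply] at h2
        exact hx h2
      rw [← hm] at h1
      have h3 : eD (eD.symm x) ∈ Ideal.map (eD : FracTransport.subE D E →+* D)
          (Ideal.map (algebraMap A (FracTransport.subE D E)) (maximalIdeal A)) :=
        Ideal.mem_map_of_mem _ h1
      rw [AlgEquiv.apply_symm_apply, Ideal.map_map] at h3
      have h4 : ((eD : FracTransport.subE D E →+* D)).comp
          (algebraMap A (FracTransport.subE D E)) = algebraMap A D := by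
        ext a
        rfl
      rwa [h4] at h3
  exact Groth.Agent.H78.EssEtSub.isEssentiallyEtale_of_map_maximalIdeal A S D hmD

/-- the direction `⇒` -/
theorem forward
    (A S : Type u) [CommRing A] [IsLocalRing A] [IsReduced A] (hA : EGA4.IsExcellent A)
    [CommRing S] [IsLocalRing S] [Algebra A S] [IsLocalHom (algebraMap A S)]
    [Hensel.IsStrictHenselization A S] (D : Subalgebra A S) [IsLocalRing D]
    [IsLocalHom (algebraMap D S)]
    (A' D' : Subalgebra A (FractionRing S))
    (hA' : ∀ x : (FractionRing S), x ∈ A' ↔ (IsIntegral A x ∧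
      ∃ a ∈ nonZeroDivisors A, ∃ b : A, algebraMap A (FractionRing S) a * x = algebraMap A (FractionRing S) b))
    (hD' : ∀ x : (FractionRing S), x ∈ D' ↔ (IsIntegral D x ∧
      ∃ a ∈ nonZeroDivisors A, ∃ d ∈ D, algebraMap A (FractionRing S) a * x = algebraMap S (FractionRing S) d))
    (hle : A' ≤ D') (ι : D →ₐ[A] D') (hι : ∀ d : D, (ι d : (FractionRing S)) = algebraMap S (FractionRing S) d)
    (hD : EGA4loc.IsEssentiallyEtale A D) :
    ({N : Ideal D' | N.IsMaximal}.Finite ∧
        Function.Surjective ((Ideal.Quotient.mkₐ A (Ideal.jacobson (⊥ : Ideal D'))).comp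
          (Algebra.TensorProduct.productMap (Subalgebra.inclusion hle) ι)) ∧
        RingHom.ker ((Ideal.Quotient.mkₐ A (Ideal.jacobson (⊥ : Ideal D'))).comp
          (Algebra.TensorProduct.productMap (Subalgebra.inclusion hle) ι)) =
          (Ideal.jacobson (⊥ : Ideal A')).map
              (Algebra.TensorProduct.includeLeft : A' →ₐ[A] A' ⊗[A] D) ⊔
            (maximalIdeal D).map
              (Algebra.TensorProduct.includeRight : D →ₐ[A] A' ⊗[A] D)) := by
  classical
  haveI : IsNoetherianRing A := hA.1
  have hN : CAlg.IsNagata A := Groth.Agent.S2654.result A ⟨hA.1, hA.2.2.1, hA.2.2.2⟩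
  have hmin : (minimalPrimes A).Finite := minimalPrimes.finite_of_isNoetherianRing A
  have hS : Hensel.IsStrictHenselization A S := inferInstance
  haveI : Module.FaithfullyFlat A S := Groth.Agent.H3.SH.faithfullyFlat A hS
  have hAS : Function.Injective (algebraMap A S) := FaithfulSMul.algebraMap_injective A S
  haveI : IsLocalHom (algebraMap A D) := by
    constructor
    intro a ha
    have h1 : IsUnit (algebraMap D S (algebraMap A D a)) := ha.map _
    rw [← IsScalarTower.algebraMap_apply] at h1
    exact isUnit_of_map_unit (algebraMap A S) a h1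
  obtain ⟨hflatD, heft, hunr⟩ := FlatSub.props_of_isEssentiallyEtale A D hD
  haveI := hflatD
  haveI := heft
  haveI := hunr
  have hDS : Hensel.IsStrictHenselization D S := EssEtSH.isStrictHenselization_of_tower A S D hS
  haveI : Module.FaithfullyFlat D S := Groth.Agent.H3.SH.faithfullyFlat D hDS
  -- the normalization of `A`
  haveI hfinA' : Module.Finite A (integralClosure A (FractionRing A)) :=
    Groth.Agent.H38.finite_integralClosure fun p =>
      hN.2 p.1.asIdeal (Groth.Agent.H38.KK p) inferInstance
  have hU := EssEtSH.isUnion hD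
  have hnormT : ∀ (M : Ideal (D ⊗[A] (integralClosure A (FractionRing A)))) [M.IsMaximal],
      IsDomain (Localization.AtPrime M) ∧ IsIntegrallyClosed (Localization.AtPrime M) :=
    fun M _ => NormBC.normal_tensor_of_isUnion A D hU M
  obtain ⟨e₀, he₀⟩ := NormBC.exists_algEquiv A D hnormT
  -- the maps of total rings of fractions
  have hfD_inj := FracTransport.fA_injective (A := A) D
  have hfD_alg : ∀ d : D, FracTransport.fA (A := A) D (algebraMap D (FractionRing D) d) =
      algebraMap S (FractionRing S) (d : S) := FracTransport.fA_algebraMap D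
  have hcompat : ∀ w : FractionRing A,
      FracTransport.fA (A := A) D (NormBC.fracMap A D w) = NormBC.fracMap A S w := by
    intro w
    haveI : Subsingleton (FractionRing A →ₐ[A] FractionRing S) :=
      IsLocalization.algHom_subsingleton (nonZeroDivisors A)
    have h1 : (FracTransport.fA (A := A) D).comp (NormBC.fracMap A D) = NormBC.fracMap A S :=
      Subsingleton.elim _ _
    exact congrArg (fun f : FractionRing A →ₐ[A] FractionRing S => f w) h1
  -- the identification of `A'` with the normalization of `A`
  have hθmem : ∀ x : integralClosure A (FractionRing A),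
      ((NormBC.fracMap A S).comp (integralClosure A (FractionRing A)).val) x ∈ A' := by
    intro x
    rw [hA']
    refine ⟨x.2.map (NormBC.fracMap A S), ?_⟩
    obtain ⟨⟨b, a⟩, hab⟩ := IsLocalization.surj (nonZeroDivisors A) (x : FractionRing A)
    refine ⟨a, a.2, b, ?_⟩
    change algebraMap A (FractionRing S) a * NormBC.fracMap A S (x : FractionRing A) = _
    rw [← (NormBC.fracMap A S).commutes, ← map_mul, mul_comm, hab, AlgHom.commutes]
  let θ : integralClosure A (FractionRing A) →ₐ[A] A' :=
    AlgHom.codRestrict ((NormBC.fracMap A S).comp (integralClosure A (FractionRing A)).val) A' hθmem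
  have hθcoe : ∀ x, ((θ x : A') : FractionRing S) = NormBC.fracMap A S (x : FractionRing A) :=
    fun _ => rfl
  have hθbij : Function.Bijective θ := by
    constructor
    · intro x y hxy
      apply Subtype.ext
      apply FracTransport.fracMap_injective A S hAS
      exact congrArg (fun z : A' => (z : FractionRing S)) hxy
    · intro y
      obtain ⟨hi, a, ha, b, hab⟩ := (hA' _).mp y.2
      obtain ⟨w, hw⟩ := exists_fracMap_eq A S hAS (y : FractionRing S) hi a ha b hab
      exact ⟨w, Subtype.ext hw⟩
  let θe : integralClosure A (FractionRing A) ≃ₐ[A] A' := AlgEquiv.ofBijective θ hθbij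
  -- the comparison `D ⊗ A'_int ≃ A' ⊗ D`
  let Ψ : D ⊗[A] (integralClosure A (FractionRing A)) ≃ₐ[A] A' ⊗[A] D :=
    (Algebra.TensorProduct.comm A D (integralClosure A (FractionRing A))).trans
      (Algebra.TensorProduct.congr θe AlgEquiv.refl)
  have hΨ : ∀ (d : D) (x : integralClosure A (FractionRing A)), Ψ (d ⊗ₜ[A] x) = θ x ⊗ₜ[A] d := by
    intro d x
    simp [Ψ, θe]
  let π : A' ⊗[A] D →ₐ[A] D' := Algebra.TensorProduct.productMap (Subalgebra.inclusion hle) ι
  have hπΨ : ∀ t : D ⊗[A] (integralClosure A (FractionRing A)),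
      ((π (Ψ t) : D') : FractionRing S) = FracTransport.fA (A := A) D (NormBC.toFrac A D t) := by
    intro t
    induction t using TensorProduct.induction_on with
    | zero => simp
    | tmul d x =>
      rw [hΨ, NormBC.toFrac_tmul, map_mul, hfD_alg, hcompat]
      change ((Algebra.TensorProduct.productMap (Subalgebra.inclusion hle) ι (θ x ⊗ₜ[A] d) : D') :
        FractionRing S) = _
      rw [Algebra.TensorProduct.productMap_apply_tmul]
      change ((Subalgebra.inclusion hle (θ x) : D') : FractionRing S) * ((ι d : D') : FractionRing S) = _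
      rw [hι, mul_comm]
      rfl
    | add t₁ t₂ h₁ h₂ =>
      rw [map_add, map_add, map_add, map_add, ← h₁, ← h₂]
      rfl
  have hπinj : Function.Injective π := by
    rw [injective_iff_map_eq_zero]
    intro z hz
    obtain ⟨t, rfl⟩ := Ψ.surjective z
    have h1 : FracTransport.fA (A := A) D (NormBC.toFrac A D t) = 0 := by
      rw [← hπΨ, hz]
      rfl
    have h2 : NormBC.toFrac A D t = 0 := hfD_inj (by rw [h1, map_zero])
    have h3 : t = 0 := NormBC.toFrac_injective A D (by rw [h2, map_zero])
    rw [h3, map_zero]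
  have hπsurj : Function.Surjective π := by
    intro y
    obtain ⟨x, hx⟩ := FracTransport.exists_fA_eq D D le_rfl D' hD' (y : FractionRing S) y.2
    have hxi : IsIntegral D x := by
      apply FracTransport.isIntegral_of_fA_self (A := A) D x
      rw [hx]
      exact ((hD' _).mp y.2).1
    obtain ⟨t, ht⟩ := e₀.surjective ⟨x, hxi⟩
    have ht' : NormBC.toFrac A D t = x := by
      rw [← he₀, ht]
    refine ⟨Ψ t, Subtype.ext ?_⟩
    rw [hπΨ, ht', hx]
  let πe : A' ⊗[A] D ≃ₐ[A] D' := AlgEquiv.ofBijective π ⟨hπinj, hπsurj⟩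
  have hπe : ∀ z, πe z = π z := fun _ => rfl
  -- finiteness of the set of maximal ideals
  have hfinB : {N : Ideal (D ⊗[A] (integralClosure A (FractionRing A))) | N.IsMaximal}.Finite :=
    finite_setOf_isMaximal_of_finite D _
  have hfin : {N : Ideal D' | N.IsMaximal}.Finite :=
    FracTransport.finite_maximal_equiv (Ψ.trans πe).symm.toRingEquiv hfinB
  -- surjectivity
  have hφsurj : Function.Surjective ((Ideal.Quotient.mkₐ A (Ideal.jacobson (⊥ : Ideal D'))).comp
      (Algebra.TensorProduct.productMap (Subalgebra.inclusion hle) ι)) := by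
    intro y
    obtain ⟨y', rfl⟩ := Ideal.Quotient.mk_surjective y
    obtain ⟨z, rfl⟩ := hπsurj y'
    exact ⟨z, rfl⟩
  refine ⟨hfin, hφsurj, ?_⟩
  -- the kernel is the Jacobson radical of `A' ⊗ D`
  have hker : ∀ z : A' ⊗[A] D,
      z ∈ RingHom.ker ((Ideal.Quotient.mkₐ A (Ideal.jacobson (⊥ : Ideal D'))).comp
        (Algebra.TensorProduct.productMap (Subalgebra.inclusion hle) ι)) ↔
      z ∈ Ideal.jacobson (⊥ : Ideal (A' ⊗[A] D)) := by
    intro z
    rw [RingHom.mem_ker]
    change Ideal.Quotient.mk (Ideal.jacobson (⊥ : Ideal D')) (π z) = 0 ↔ _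
    rw [Ideal.Quotient.eq_zero_iff_mem]
    exact FracTransport.mem_jacobson_bot_equiv πe.toRingEquiv z
  -- integrality of `D'` over `D` and of `A'` over `A`
  letI algDD' : Algebra D D' := ι.toRingHom.toAlgebra
  let valD : D' →ₐ[D] FractionRing S :=
    { D'.val.toRingHom with commutes' := fun d => hι d }
  haveI : Algebra.IsIntegral D D' := by
    refine ⟨fun x => ?_⟩
    rw [← isIntegral_algHom_iff valD Subtype.val_injective]
    exact ((hD' _).mp x.2).1
  haveI : Algebra.IsIntegral A A' := by
    refine ⟨fun x => ?_⟩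
    rw [← isIntegral_algHom_iff A'.val Subtype.val_injective]
    exact ((hA' _).mp x.2).1
  -- maximal ideals of `D'` contain the images of `m_D` and of the radical of `A'`
  have hND : ∀ (N : Ideal D') [N.IsMaximal] (d : D), d ∈ maximalIdeal D → ι d ∈ N := by
    intro N hN d hd
    have h1 : (N.comap (algebraMap D D')).IsMaximal :=
      Ideal.isMaximal_comap_of_isIntegral_of_isMaximal N
    have h2 : N.comap (algebraMap D D') = maximalIdeal D := IsLocalRing.eq_maximalIdeal h1
    have h3 : d ∈ N.comap (algebraMap D D') := by rw [h2]; exact hd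
    exact h3
  have hNA : ∀ (N : Ideal D') [N.IsMaximal] (a : A'), a ∈ Ideal.jacobson (⊥ : Ideal A') →
      Subalgebra.inclusion hle a ∈ N := by
    intro N hN a ha
    let 𝔫 : Ideal A' := N.comap (Subalgebra.inclusion hle)
    haveI : 𝔫.IsPrime := Ideal.comap_isPrime _ N
    have h1 : 𝔫.comap (algebraMap A A') = maximalIdeal A := by
      ext x
      rw [Ideal.mem_comap]
      change Subalgebra.inclusion hle (algebraMap A A' x) ∈ N ↔ _
      have h2 : Subalgebra.inclusion hle (algebraMap A A' x) = ι (algebraMap A D x) := by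
        rw [AlgHom.commutes, AlgHom.commutes]
      rw [h2]
      constructor
      · intro h3
        by_contra hx
        have h4 : IsUnit x := by
          by_contra h5
          exact hx h5
        have h6 : IsUnit (ι (algebraMap A D x)) := (h4.map (algebraMap A D)).map ι
        exact hN.ne_top (Ideal.eq_top_of_isUnit_mem N h3 h6)
      · intro hx
        exact hND N _ (map_nonunit (algebraMap A D) x hx)
    have h7 : 𝔫.IsMaximal :=
      Ideal.isMaximal_of_isIntegral_of_isMaximal_comap 𝔫
        (h1 ▸ IsLocalRing.maximalIdeal.isMaximal A)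
    have h8 : Ideal.jacobson (⊥ : Ideal A') ≤ 𝔫 := by
      calc Ideal.jacobson (⊥ : Ideal A') ≤ Ideal.jacobson 𝔫 := Ideal.jacobson_mono bot_le
        _ = 𝔫 := Ideal.jacobson_eq_self_of_isMaximal
    exact h8 ha
  have hJ₀ : ∀ (P : Ideal (A' ⊗[A] D)) [P.IsPrime],
      (maximalIdeal D).map (Algebra.TensorProduct.includeRight : D →ₐ[A] A' ⊗[A] D) ≤ P →
      P.IsMaximal := by
    intro P hP hJP
    let N : Ideal D' := P.comap (πe.symm : D' →+* A' ⊗[A] D)
    haveI : N.IsPrime := Ideal.comap_isPrime _ P
    have h1 : N.comap (algebraMap D D') = maximalIdeal D := by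
      have h2 : maximalIdeal D ≤ N.comap (algebraMap D D') := by
        intro d hd
        rw [Ideal.mem_comap, Ideal.mem_comap]
        change πe.symm (ι d) ∈ P
        have h3 : ι d = πe ((1 : A') ⊗ₜ[A] d) := by
          change ι d = Algebra.TensorProduct.productMap (Subalgebra.inclusion hle) ι
            ((1 : A') ⊗ₜ[A] d)
          rw [Algebra.TensorProduct.productMap_apply_tmul, map_one, one_mul]
        rw [h3, AlgEquiv.symm_apply_apply]
        exact hJP (Ideal.mem_map_of_mem _ hd)
      have h4 : (N.comap (algebraMap D D')) ≠ ⊤ := Ideal.IsPrime.ne_top inferInstance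
      exact ((IsLocalRing.maximalIdeal.isMaximal D).eq_of_le h4 h2).symm
    have h5 : N.IsMaximal :=
      Ideal.isMaximal_of_isIntegral_of_isMaximal_comap N
        (h1 ▸ IsLocalRing.maximalIdeal.isMaximal D)
    have h6 : P = N.comap (πe : A' ⊗[A] D →+* D') := by
      ext x
      rw [Ideal.mem_comap, Ideal.mem_comap]
      change x ∈ P ↔ πe.symm (πe x) ∈ P
      rw [AlgEquiv.symm_apply_apply]
    rw [h6]
    exact Ideal.comap_isMaximal_of_surjective (πe : A' ⊗[A] D →+* D') πe.surjective
  ext z
  rw [hker]
  constructor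
  · intro hz
    -- `m_D = m_A D`
    have hmD : (maximalIdeal A).map (algebraMap A D) = maximalIdeal D :=
      Algebra.FormallyUnramified.map_maximalIdeal
    -- finiteness of the set of maximal ideals of `A'`
    have hfinA'max : {𝔪 : Ideal A' | 𝔪.IsMaximal}.Finite :=
      FracTransport.finite_maximal_equiv θe.symm.toRingEquiv
        (finite_setOf_isMaximal_of_finite A (integralClosure A (FractionRing A)))
    -- `z` lies in every `𝔪 (A' ⊗ D)`
    have hzm : ∀ 𝔪 : Ideal A', 𝔪.IsMaximal →
        z ∈ 𝔪.map (algebraMap A' (A' ⊗[A] D)) := by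
      intro 𝔪 h𝔪
      haveI := h𝔪
      have hrad : (𝔪.map (algebraMap A' (A' ⊗[A] D))).IsRadical :=
        Algebra.FormallyUnramified.isRadical_map_isMaximal A' (A' ⊗[A] D) 𝔪
      rw [← hrad.radical, Ideal.radical_eq_sInf, Ideal.mem_sInf]
      rintro P ⟨hP, hPp⟩
      haveI := hPp
      have h𝔪A : 𝔪.comap (algebraMap A A') = maximalIdeal A :=
        IsLocalRing.eq_maximalIdeal (Ideal.isMaximal_comap_of_isIntegral_of_isMaximal 𝔪)
      have hJP : (maximalIdeal D).map
          (Algebra.TensorProduct.includeRight : D →ₐ[A] A' ⊗[A] D) ≤ P := by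
        refine le_trans ?_ hP
        rw [← hmD]
        change Ideal.map (Algebra.TensorProduct.includeRight : D →ₐ[A] A' ⊗[A] D).toRingHom _ ≤ _
        rw [Ideal.map_map, Ideal.map_le_iff_le_comap]
        intro a ha
        rw [Ideal.mem_comap]
        have h1 : ((Algebra.TensorProduct.includeRight : D →ₐ[A] A' ⊗[A] D).toRingHom.comp
            (algebraMap A D)) a = algebraMap A' (A' ⊗[A] D) (algebraMap A A' a) := by
          change (Algebra.TensorProduct.includeRight : D →ₐ[A] A' ⊗[A] D) (algebraMap A D a) = _
          rw [AlgHom.commutes, ← IsScalarTower.algebraMap_apply]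
        rw [h1]
        apply Ideal.mem_map_of_mem
        have h2 : a ∈ 𝔪.comap (algebraMap A A') := by rw [h𝔪A]; exact ha
        exact h2
      have hPmax : P.IsMaximal := hJ₀ P hJP
      have hz' := hz
      rw [Ideal.jacobson, Ideal.mem_sInf] at hz'
      exact hz' ⟨bot_le, hPmax⟩
    -- intersect
    let s : Finset (Ideal A') := hfinA'max.toFinset
    have hs : ∀ 𝔪, 𝔪 ∈ s ↔ 𝔪.IsMaximal := fun 𝔪 => by
      rw [Set.Finite.mem_toFinset]
      rfl
    have hcop : (s : Set (Ideal A')).Pairwise
        (Function.onFun IsCoprime (fun 𝔪 : Ideal A' => 𝔪.map (algebraMap A' (A' ⊗[A] D)))) := by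
      intro 𝔪 h𝔪 𝔫 h𝔫 hne
      change IsCoprime (𝔪.map (algebraMap A' (A' ⊗[A] D))) (𝔫.map (algebraMap A' (A' ⊗[A] D)))
      rw [Ideal.isCoprime_iff_sup_eq, ← Ideal.map_sup]
      have h1 : 𝔪 ⊔ 𝔫 = ⊤ :=
        Ideal.IsMaximal.coprime_of_ne ((hs 𝔪).mp (Finset.mem_coe.mp h𝔪))
          ((hs 𝔫).mp (Finset.mem_coe.mp h𝔫)) hne
      rw [h1, Ideal.map_top]
    have hz1 : z ∈ ⨅ 𝔪 ∈ s, (𝔪 : Ideal A').map (algebraMap A' (A' ⊗[A] D)) := by
      rw [Ideal.mem_iInf]
      intro 𝔪
      rw [Ideal.mem_iInf]
      intro h𝔪
      exact hzm 𝔪 ((hs 𝔪).mp h𝔪)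
    rw [← Ideal.prod_eq_iInf_of_pairwise_isCoprime hcop] at hz1
    have hz2 : z ∈ (∏ 𝔪 ∈ s, 𝔪).map (algebraMap A' (A' ⊗[A] D)) := by
      have h1 : (∏ 𝔪 ∈ s, 𝔪).map (algebraMap A' (A' ⊗[A] D)) =
          ∏ 𝔪 ∈ s, (𝔪 : Ideal A').map (algebraMap A' (A' ⊗[A] D)) :=
        map_prod (Ideal.mapHom (algebraMap A' (A' ⊗[A] D))) _ s
      rw [h1]
      exact hz1
    have hprod : (∏ 𝔪 ∈ s, 𝔪) ≤ Ideal.jacobson (⊥ : Ideal A') := by
      rw [Ideal.jacobson]
      refine le_sInf ?_
      rintro 𝔪 ⟨-, h𝔪⟩
      exact Ideal.prod_le_inf.trans (Finset.inf_le ((hs 𝔪).mpr h𝔪))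
    exact Ideal.mem_sup_left (Ideal.map_mono hprod hz2)
  · intro hz
    have hπz : π z ∈ Ideal.jacobson (⊥ : Ideal D') := by
      have hle' : (Ideal.jacobson (⊥ : Ideal A')).map
            (Algebra.TensorProduct.includeLeft : A' →ₐ[A] A' ⊗[A] D) ⊔
          (maximalIdeal D).map
            (Algebra.TensorProduct.includeRight : D →ₐ[A] A' ⊗[A] D) ≤
          (Ideal.jacobson (⊥ : Ideal D')).comap π := by
        refine sup_le ?_ ?_
        · rw [Ideal.map_le_iff_le_comap]
          intro a ha
          rw [Ideal.mem_comap, Ideal.mem_comap]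
          change π (a ⊗ₜ[A] (1 : D)) ∈ _
          have h1 : π (a ⊗ₜ[A] (1 : D)) = Subalgebra.inclusion hle a := by
            change Algebra.TensorProduct.productMap (Subalgebra.inclusion hle) ι
              (a ⊗ₜ[A] (1 : D)) = _
            rw [Algebra.TensorProduct.productMap_apply_tmul, map_one, mul_one]
          rw [h1, Ideal.jacobson, Ideal.mem_sInf]
          rintro N ⟨-, hN⟩
          haveI := hN
          exact hNA N a ha
        · rw [Ideal.map_le_iff_le_comap]
          intro d hd
          rw [Ideal.mem_comap, Ideal.mem_comap]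
          change π ((1 : A') ⊗ₜ[A] d) ∈ _
          have h1 : π ((1 : A') ⊗ₜ[A] d) = ι d := by
            change Algebra.TensorProduct.productMap (Subalgebra.inclusion hle) ι
              ((1 : A') ⊗ₜ[A] d) = _
            rw [Algebra.TensorProduct.productMap_apply_tmul, map_one, one_mul]
          rw [h1, Ideal.jacobson, Ideal.mem_sInf]
          rintro N ⟨-, hN⟩
          haveI := hN
          exact hND N d hd
      exact hle' hz
    exact (FracTransport.mem_jacobson_bot_equiv πe.toRingEquiv z).mp hπz

end Groth.Agent.H14.HensProp.Main16450
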