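import Mathlib
import Groth.Agent.H14.HensProp.StrictUni1
import Groth.Agent.H3.UnionEtale

/-!
# Radical extensions of maximal ideals along unions of étale images, and descent of ideal
membership along a faithfully flat map after a base change
-/

set_option autoImplicit false
set_option linter.style.haveILetI false
set_option linter.unusedSectionVars false
universe u

namespace Groth.Agent.H14.HensProp.RadDescent

open TensorProduct Groth.Agent.H3.UnionEtale

/-- a union of étale images over a field is reduced -/
theorem isReduced_of_isUnion_field (κ B : Type u) [Field κ] [CommRing B] [Algebra κ B]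
    (hU : IsUnion κ B) : IsReduced B := by
  constructor
  rintro x ⟨n, hn⟩
  obtain ⟨C, _, _, hC, φ, hφ⟩ := hU x
  obtain ⟨c, rfl⟩ := hφ rfl
  haveI := hC
  let I : Ideal C := RingHom.ker φ
  haveI : Algebra.FormallyUnramified κ (C ⧸ I) := Algebra.FormallyUnramified.quotient I
  haveI : Algebra.EssFiniteType κ (C ⧸ I) := inferInstance
  haveI : IsReduced (C ⧸ I) := Algebra.FormallyUnramified.isReduced_of_field κ (C ⧸ I)
  have h1 : (Ideal.Quotient.mk I c) ^ n = 0 := by
    rw [← map_pow, Ideal.Quotient.eq_zero_iff_mem]
    change φ (c ^ n) = 0
    rw [map_pow, hn]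
  have h2 : Ideal.Quotient.mk I c = 0 := IsReduced.eq_zero _ ⟨n, h1⟩
  exact Ideal.Quotient.eq_zero_iff_mem.mp h2

/-- the extension of a maximal ideal to a union of étale images is radical -/
theorem isRadical_map_of_isMaximal {B C : Type u} [CommRing B] [CommRing C] [Algebra B C]
    (h : IsUnion B C) (q : Ideal B) [hq : q.IsMaximal] : (q.map (algebraMap B C)).IsRadical := by
  letI : Field (B ⧸ q) := Ideal.Quotient.field q
  have hU : IsUnion (B ⧸ q) ((B ⧸ q) ⊗[B] C) := StrictUni.isUnion_baseChange B C (B ⧸ q) h
  let e := Algebra.TensorProduct.quotIdealMapEquivQuotTensor C q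
  haveI : IsReduced ((B ⧸ q) ⊗[B] C) := isReduced_of_isUnion_field (B ⧸ q) _ hU
  haveI : IsReduced (C ⧸ q.map (algebraMap B C)) :=
    isReduced_of_injective e.toRingEquiv.toRingHom e.injective
  exact (Ideal.isRadical_iff_quotient_reduced _).mpr inferInstance

section Descent

variable (A D S : Type u) [CommRing A] [CommRing D] [CommRing S] [Algebra A D] [Algebra A S]
  [Algebra D S] [IsScalarTower A D S] [Module.FaithfullyFlat D S]

/-- a faithfully flat map is universally injective, also over a smaller base -/
theorem rTensor_injective (M : Type u) [AddCommGroup M] [Module A M] :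
    Function.Injective (LinearMap.rTensor M (IsScalarTower.toAlgHom A D S).toLinearMap) := by
  let e := TensorProduct.AlgebraTensorModule.cancelBaseChange A D D S M
  have hmk : Function.Injective (TensorProduct.mk D S (D ⊗[A] M) 1) :=
    Module.FaithfullyFlat.tensorProduct_mk_injective (A := D) (B := S) (D ⊗[A] M)
  have key : ∀ x : D ⊗[A] M, LinearMap.rTensor M (IsScalarTower.toAlgHom A D S).toLinearMap x =
      e (TensorProduct.mk D S (D ⊗[A] M) 1 x) := by
    intro x
    induction x using TensorProduct.induction_on with
    | zero => simp
    | tmul d m =>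
      rw [LinearMap.rTensor_tmul, TensorProduct.mk_apply,
        TensorProduct.AlgebraTensorModule.cancelBaseChange_tmul, Algebra.smul_def, mul_one]
      rfl
    | add x y hx hy => rw [map_add, map_add, map_add, hx, hy]
  intro x y hxy
  rw [key, key] at hxy
  exact hmk (e.injective hxy)

/-- the same for the tensor product on the other side, as a map of algebras -/
theorem map_injective (R : Type u) [CommRing R] [Algebra A R] :
    Function.Injective (Algebra.TensorProduct.map (AlgHom.id A R)
      (IsScalarTower.toAlgHom A D S)) := by
  have key : ∀ x : R ⊗[A] D,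
      LinearMap.rTensor R (IsScalarTower.toAlgHom A D S).toLinearMap (TensorProduct.comm A R D x) =
      TensorProduct.comm A R S (Algebra.TensorProduct.map (AlgHom.id A R)
        (IsScalarTower.toAlgHom A D S) x) := by
    intro x
    induction x using TensorProduct.induction_on with
    | zero => simp
    | tmul r d => simp
    | add x y hx hy => rw [map_add, map_add, map_add, map_add, hx, hy]
  intro x y hxy
  apply (TensorProduct.comm A R D).injective
  apply rTensor_injective A D S R
  rw [key, key, hxy]

/-- descent of membership in the extension of an ideal of the left factor -/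
theorem mem_map_of_map_mem (R : Type u) [CommRing R] [Algebra A R] (I : Ideal R)
    (w : R ⊗[A] D)
    (hw : Algebra.TensorProduct.map (AlgHom.id A R) (IsScalarTower.toAlgHom A D S) w ∈
      I.map (algebraMap R (R ⊗[A] S))) :
    w ∈ I.map (algebraMap R (R ⊗[A] D)) := by
  let f : R →ₐ[A] R ⧸ I := Ideal.Quotient.mkₐ A I
  have hf : Function.Surjective f := Ideal.Quotient.mkₐ_surjective A I
  have hkerf : RingHom.ker f = I := Ideal.Quotient.mkₐ_ker A I
  have hkD := Algebra.TensorProduct.rTensor_ker (R := A) (S := A) (C := D) f hf
  have hkS := Algebra.TensorProduct.rTensor_ker (R := A) (S := A) (C := S) f hf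
  rw [hkerf] at hkD hkS
  have hcomm : ∀ x : R ⊗[A] D,
      Algebra.TensorProduct.map (AlgHom.id A (R ⧸ I)) (IsScalarTower.toAlgHom A D S)
        (Algebra.TensorProduct.map f (AlgHom.id A D) x) =
      Algebra.TensorProduct.map f (AlgHom.id A S)
        (Algebra.TensorProduct.map (AlgHom.id A R) (IsScalarTower.toAlgHom A D S) x) := by
    intro x
    induction x using TensorProduct.induction_on with
    | zero => simp
    | tmul r d => simp
    | add x y hx hy => rw [map_add, map_add, map_add, map_add, hx, hy]
  have h1 : Algebra.TensorProduct.map f (AlgHom.id A S)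
      (Algebra.TensorProduct.map (AlgHom.id A R) (IsScalarTower.toAlgHom A D S) w) = 0 := by
    have : Algebra.TensorProduct.map (AlgHom.id A R) (IsScalarTower.toAlgHom A D S) w ∈
        RingHom.ker (Algebra.TensorProduct.map f (AlgHom.id A S)) := by
      rw [hkS]
      exact hw
    exact this
  rw [← hcomm] at h1
  have h2 : Algebra.TensorProduct.map f (AlgHom.id A D) w = 0 :=
    map_injective A D S (R ⧸ I) (by rw [h1, map_zero])
  have h3 : w ∈ RingHom.ker (Algebra.TensorProduct.map f (AlgHom.id A D)) := h2
  rw [hkD] at h3
  exact h3

end Descent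

end Groth.Agent.H14.HensProp.RadDescent
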