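import Mathlib
import Groth.Prelude.Def_EssEt
import Groth.Prelude.Def_EGA4b
import Groth.Agent.H14.HensProp.Main16450
import Groth.Agent.H14.HensProp.RadDescent
import Groth.Agent.H10.FlatDescent
import Groth.Agent.H3.StrictHensMaxIdeal2
import Groth.Agent.H3.StrictHensUnion

/-!
# S16451, the direction `⇒`: consequences of faithful flatness of `S` over `D`
-/

set_option autoImplicit false
set_option linter.style.haveILetI false
set_option linter.unusedSectionVars false
universe u

namespace Groth.Agent.H14.HensProp.Main16451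

open TensorProduct IsLocalRing Groth.Agent.H14.HensProp.Main16450

/-- the direction `⇒`, assuming only that `S` is faithfully flat over `D` -/
theorem forward_ff
    (A S : Type u) [CommRing A] [IsLocalRing A] [IsReduced A] (hA : EGA4.IsExcellent A)
    [CommRing S] [IsLocalRing S] [Algebra A S] [IsLocalHom (algebraMap A S)]
    [Hensel.IsStrictHenselization A S] (D : Subalgebra A S) [IsLocalRing D]
    [IsLocalHom (algebraMap D S)]
    (A' D' : Subalgebra A (FractionRing S))
    (hA' : ∀ x : (FractionRing S), x ∈ A' ↔ (IsIntegral A x ∧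
      ∃ a ∈ nonZeroDivisors A, ∃ b : A, algebraMap A (FractionRing S) a * x = algebraMap A (FractionRing S) b))
    (hD' : ∀ x : (FractionRing S), x ∈ D' ↔ (IsIntegral D x ∧
      ∃ a ∈ nonZeroDivisors A, ∃ d ∈ D, algebraMap A (FractionRing S) a * x = algebraMap S (FractionRing S) d))
    (hle : A' ≤ D') (ι : D →ₐ[A] D') (hι : ∀ d : D, (ι d : (FractionRing S)) = algebraMap S (FractionRing S) d)
    [Module.FaithfullyFlat D S] :
    ({N : Ideal D' | N.IsMaximal}.Finite ∧
        Function.Surjective ((Ideal.Quotient.mkₐ A (Ideal.jacobson (⊥ : Ideal D'))).comp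
          (Algebra.TensorProduct.productMap (Subalgebra.inclusion hle) ι)) ∧
        RingHom.ker ((Ideal.Quotient.mkₐ A (Ideal.jacobson (⊥ : Ideal D'))).comp
          (Algebra.TensorProduct.productMap (Subalgebra.inclusion hle) ι)) =
          (Ideal.jacobson (⊥ : Ideal A')).map
              (Algebra.TensorProduct.includeLeft : A' →ₐ[A] A' ⊗[A] D) ⊔
            (maximalIdeal D).map
              (Algebra.TensorProduct.includeRight : D →ₐ[A] A' ⊗[A] D)) := by
  classical
  haveI : IsNoetherianRing A := hA.1
  have hN : CAlg.IsNagata A := Groth.Agent.S2654.result A ⟨hA.1, hA.2.2.1, hA.2.2.2⟩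
  have hmin : (minimalPrimes A).Finite := minimalPrimes.finite_of_isNoetherianRing A
  have hS : Hensel.IsStrictHenselization A S := inferInstance
  haveI : Module.FaithfullyFlat A S := Groth.Agent.H3.SH.faithfullyFlat A hS
  have hAS : Function.Injective (algebraMap A S) := FaithfulSMul.algebraMap_injective A S
  haveI : IsLocalHom (algebraMap A D) := by
    constructor
    intro a ha
    have h1 : IsUnit (algebraMap D S (algebraMap A D a)) := ha.map _
    rw [← IsScalarTower.algebraMap_apply] at h1
    exact isUnit_of_map_unit (algebraMap A S) a h1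
  haveI hflatD : Module.Flat A D := Groth.Agent.H10.flat_of_flat_of_faithfullyFlat A D S
  -- the normalization of `A`
  haveI hfinA' : Module.Finite A (integralClosure A (FractionRing A)) :=
    Groth.Agent.H38.finite_integralClosure fun p =>
      hN.2 p.1.asIdeal (Groth.Agent.H38.KK p) inferInstance
  have hU : Groth.Agent.H3.UnionEtale.IsUnion A S := Groth.Agent.H3.StrictHensUnion.isUnion
  have hnormT : ∀ (M : Ideal (S ⊗[A] (integralClosure A (FractionRing A)))) [M.IsMaximal],
      IsDomain (Localization.AtPrime M) ∧ IsIntegrallyClosed (Localization.AtPrime M) :=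
    fun M _ => NormBC.normal_tensor_of_isUnion A S hU M
  obtain ⟨e₀, he₀⟩ := NormBC.exists_algEquiv A S hnormT
  have hSF : Function.Injective (algebraMap S (FractionRing S)) :=
    IsFractionRing.injective S (FractionRing S)
  -- the maps of total rings of fractions
  have hfD_inj := FracTransport.fA_injective (A := A) D
  have hfD_alg : ∀ d : D, FracTransport.fA (A := A) D (algebraMap D (FractionRing D) d) =
      algebraMap S (FractionRing S) (d : S) := FracTransport.fA_algebraMap D
  have hcompat : ∀ w : FractionRing A,
      FracTransport.fA (A := A) D (NormBC.fracMap A D w) = NormBC.fracMap A S w := by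
    intro w
    haveI : Subsingleton (FractionRing A →ₐ[A] FractionRing S) :=
      IsLocalization.algHom_subsingleton (nonZeroDivisors A)
    have h1 : (FracTransport.fA (A := A) D).comp (NormBC.fracMap A D) = NormBC.fracMap A S :=
      Subsingleton.elim _ _
    exact congrArg (fun f : FractionRing A →ₐ[A] FractionRing S => f w) h1
  -- the identification of `A'` with the normalization of `A`
  have hθmem : ∀ x : integralClosure A (FractionRing A),
      ((NormBC.fracMap A S).comp (integralClosure A (FractionRing A)).val) x ∈ A' := by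
    intro x
    rw [hA']
    refine ⟨x.2.map (NormBC.fracMap A S), ?_⟩
    obtain ⟨⟨b, a⟩, hab⟩ := IsLocalization.surj (nonZeroDivisors A) (x : FractionRing A)
    refine ⟨a, a.2, b, ?_⟩
    change algebraMap A (FractionRing S) a * NormBC.fracMap A S (x : FractionRing A) = _
    rw [← (NormBC.fracMap A S).commutes, ← map_mul, mul_comm, hab, AlgHom.commutes]
  let θ : integralClosure A (FractionRing A) →ₐ[A] A' :=
    AlgHom.codRestrict ((NormBC.fracMap A S).comp (integralClosure A (FractionRing A)).val) A' hθmem
  have hθcoe : ∀ x, ((θ x : A') : FractionRing S) = NormBC.fracMap A S (x : FractionRing A) :=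
    fun _ => rfl
  have hθbij : Function.Bijective θ := by
    constructor
    · intro x y hxy
      apply Subtype.ext
      apply FracTransport.fracMap_injective A S hAS
      exact congrArg (fun z : A' => (z : FractionRing S)) hxy
    · intro y
      obtain ⟨hi, a, ha, b, hab⟩ := (hA' _).mp y.2
      obtain ⟨w, hw⟩ := exists_fracMap_eq A S hAS (y : FractionRing S) hi a ha b hab
      exact ⟨w, Subtype.ext hw⟩
  let θe : integralClosure A (FractionRing A) ≃ₐ[A] A' := AlgEquiv.ofBijective θ hθbij
  -- the comparison `D ⊗ A'_int ≃ A' ⊗ D`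
  let Ψ : D ⊗[A] (integralClosure A (FractionRing A)) ≃ₐ[A] A' ⊗[A] D :=
    (Algebra.TensorProduct.comm A D (integralClosure A (FractionRing A))).trans
      (Algebra.TensorProduct.congr θe AlgEquiv.refl)
  have hΨ : ∀ (d : D) (x : integralClosure A (FractionRing A)), Ψ (d ⊗ₜ[A] x) = θ x ⊗ₜ[A] d := by
    intro d x
    simp [Ψ, θe]
  let π : A' ⊗[A] D →ₐ[A] D' := Algebra.TensorProduct.productMap (Subalgebra.inclusion hle) ι
  have hπΨ : ∀ t : D ⊗[A] (integralClosure A (FractionRing A)),
      ((π (Ψ t) : D') : FractionRing S) = FracTransport.fA (A := A) D (NormBC.toFrac A D t) := by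
    intro t
    induction t using TensorProduct.induction_on with
    | zero => simp
    | tmul d x =>
      rw [hΨ, NormBC.toFrac_tmul, map_mul, hfD_alg, hcompat]
      change ((Algebra.TensorProduct.productMap (Subalgebra.inclusion hle) ι (θ x ⊗ₜ[A] d) : D') :
        FractionRing S) = _
      rw [Algebra.TensorProduct.productMap_apply_tmul]
      change ((Subalgebra.inclusion hle (θ x) : D') : FractionRing S) * ((ι d : D') : FractionRing S) = _
      rw [hι, mul_comm]
      rfl
    | add t₁ t₂ h₁ h₂ =>
      rw [map_add, map_add, map_add, map_add, ← h₁, ← h₂]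
      rfl
  have hπinj : Function.Injective π := by
    rw [injective_iff_map_eq_zero]
    intro z hz
    obtain ⟨t, rfl⟩ := Ψ.surjective z
    have h1 : FracTransport.fA (A := A) D (NormBC.toFrac A D t) = 0 := by
      rw [← hπΨ, hz]
      rfl
    have h2 : NormBC.toFrac A D t = 0 := hfD_inj (by rw [h1, map_zero])
    have h3 : t = 0 := NormBC.toFrac_injective A D (by rw [h2, map_zero])
    rw [h3, map_zero]
  have hπsurj : Function.Surjective π := by
    intro y
    obtain ⟨hyint, a₁, ha₁, d, hd, hyd⟩ := (hD' _).mp y.2
    have hyS : IsIntegral S (y : FractionRing S) := by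
      obtain ⟨p, hp, hpy⟩ := hyint
      refine ⟨p.map (algebraMap D S), hp.map _, ?_⟩
      rw [Polynomial.eval₂_map]
      exact hpy
    obtain ⟨t, ht⟩ := e₀.surjective ⟨(y : FractionRing S), hyS⟩
    have ht' : NormBC.toFrac A S t = (y : FractionRing S) := by
      rw [← he₀, ht]
    obtain ⟨I, hI⟩ := TensorProduct.exists_finset t
    obtain ⟨a₂, ha₂⟩ := IsLocalization.exist_integer_multiples_of_finset (nonZeroDivisors A)
      (I.image fun i => ((i.2 : integralClosure A (FractionRing A)) : FractionRing A))
    have hb : ∀ i : I, ∃ b : A, algebraMap A (FractionRing A) b =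
        (a₂ : A) • (((i : S × integralClosure A (FractionRing A)).2 :
          integralClosure A (FractionRing A)) : FractionRing A) := by
      intro i
      exact ha₂ _ (Finset.mem_image.mpr ⟨i, i.2, rfl⟩)
    choose b hb using hb
    have hb' : ∀ i : I, algebraMap A (FractionRing S) (a₂ : A) *
        NormBC.fracMap A S (((i : S × integralClosure A (FractionRing A)).2 :
          integralClosure A (FractionRing A)) : FractionRing A) =
        algebraMap A (FractionRing S) (b i) := by
      intro i
      rw [← (NormBC.fracMap A S).commutes (b i), hb i, Algebra.smul_def, map_mul,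
        AlgHom.commutes]
    -- the key equation in `S`
    have hy1 : (y : FractionRing S) = ∑ i : I, algebraMap S (FractionRing S)
        ((i : S × integralClosure A (FractionRing A)).1) *
        NormBC.fracMap A S (((i : S × integralClosure A (FractionRing A)).2 :
          integralClosure A (FractionRing A)) : FractionRing A) := by
      rw [← ht', hI, map_sum, Finset.sum_coe_sort I (fun i => algebraMap S (FractionRing S) i.1 *
        NormBC.fracMap A S ((i.2 : integralClosure A (FractionRing A)) : FractionRing A))]
      refine Finset.sum_congr rfl fun i _ => ?_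
      rw [NormBC.toFrac_tmul]
    have hkeyF : algebraMap S (FractionRing S) (algebraMap A S (a₂ : A) * d) =
        algebraMap S (FractionRing S) (∑ i : I,
          (i : S × integralClosure A (FractionRing A)).1 * algebraMap A S (a₁ * b i)) := by
      rw [map_mul, ← hyd, ← IsScalarTower.algebraMap_apply A S (FractionRing S), map_sum]
      have h1 : algebraMap A (FractionRing S) (a₂ : A) *
          (algebraMap A (FractionRing S) a₁ * (y : FractionRing S)) =
          ∑ i : I, algebraMap S (FractionRing S) ((i : S × integralClosure A (FractionRing A)).1) *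
            (algebraMap A (FractionRing S) a₁ * algebraMap A (FractionRing S) (b i)) := by
        conv_lhs => rw [hy1]
        rw [Finset.mul_sum, Finset.mul_sum]
        refine Finset.sum_congr rfl fun i _ => ?_
        rw [← hb' i]
        ring
      rw [h1]
      refine Finset.sum_congr rfl fun i _ => ?_
      rw [map_mul, ← IsScalarTower.algebraMap_apply A S (FractionRing S), map_mul]
    have hkey : algebraMap A S (a₂ : A) * d = ∑ i : I,
        (i : S × integralClosure A (FractionRing A)).1 * algebraMap A S (a₁ * b i) := hSF hkeyF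
    -- descent of the ideal membership
    let g : I → D := fun i => algebraMap A D (a₁ * b i)
    let d₂ : D := algebraMap A D (a₂ : A) * ⟨d, hd⟩
    have hd₂ : d₂ ∈ ((Ideal.span (Set.range g)).map (algebraMap D S)).comap (algebraMap D S) := by
      rw [Ideal.mem_comap]
      have h1 : algebraMap D S d₂ = algebraMap A S (a₂ : A) * d := rfl
      rw [h1, hkey]
      refine Ideal.sum_mem _ fun i _ => ?_
      refine Ideal.mul_mem_left _ _ ?_
      have h2 : algebraMap A S (a₁ * b i) = algebraMap D S (g i) := rfl
      rw [h2]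
      exact Ideal.mem_map_of_mem _ (Ideal.subset_span ⟨i, rfl⟩)
    rw [Ideal.comap_map_eq_self_of_faithfullyFlat] at hd₂
    obtain ⟨c, hc⟩ := Ideal.mem_span_range_iff_exists_fun.mp hd₂
    refine ⟨∑ i : I, θ ((i : S × integralClosure A (FractionRing A)).2) ⊗ₜ[A] c i, Subtype.ext ?_⟩
    have hau : IsUnit (algebraMap A (FractionRing S) (a₁ * (a₂ : A))) := by
      rw [IsScalarTower.algebraMap_apply A S (FractionRing S)]
      exact IsLocalization.map_units (FractionRing S)
        (⟨algebraMap A S (a₁ * (a₂ : A)),
          NormBC.algebraMap_mem_nonZeroDivisors A S (mul_mem ha₁ a₂.2)⟩ : nonZeroDivisors S)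
    apply hau.mul_left_cancel
    have hπsum : ((π (∑ i : I, θ ((i : S × integralClosure A (FractionRing A)).2) ⊗ₜ[A] c i) : D') :
        FractionRing S) = ∑ i : I,
        NormBC.fracMap A S (((i : S × integralClosure A (FractionRing A)).2 :
          integralClosure A (FractionRing A)) : FractionRing A) *
        algebraMap S (FractionRing S) ((c i : D) : S) := by
      rw [map_sum, AddSubmonoidClass.coe_finsetSum]
      refine Finset.sum_congr rfl fun i _ => ?_
      change ((Algebra.TensorProduct.productMap (Subalgebra.inclusion hle) ι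
        (θ ((i : S × integralClosure A (FractionRing A)).2) ⊗ₜ[A] c i) : D') : FractionRing S) = _
      rw [Algebra.TensorProduct.productMap_apply_tmul]
      change ((Subalgebra.inclusion hle (θ ((i : S × integralClosure A (FractionRing A)).2)) : D') :
        FractionRing S) * ((ι (c i) : D') : FractionRing S) = _
      rw [hι]
      rfl
    have hsum : ((∑ i : I, c i * g i : D) : S) =
        ∑ i : I, ((c i : D) : S) * algebraMap A S (a₁ * b i) := by
      rw [AddSubmonoidClass.coe_finsetSum]
      rfl
    have hR : algebraMap A (FractionRing S) (a₁ * (a₂ : A)) * (y : FractionRing S) =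
        ∑ i : I, algebraMap S (FractionRing S) ((c i : D) : S) *
          algebraMap A (FractionRing S) (a₁ * b i) := by
      calc algebraMap A (FractionRing S) (a₁ * (a₂ : A)) * (y : FractionRing S)
          = algebraMap A (FractionRing S) (a₂ : A) *
            (algebraMap A (FractionRing S) a₁ * (y : FractionRing S)) := by
            rw [map_mul]; ring
        _ = algebraMap S (FractionRing S) ((d₂ : D) : S) := by
            rw [hyd]
            change _ = algebraMap S (FractionRing S) (algebraMap A S (a₂ : A) * d)
            rw [map_mul, ← IsScalarTower.algebraMap_apply A S (FractionRing S)]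
        _ = ∑ i : I, algebraMap S (FractionRing S) ((c i : D) : S) *
              algebraMap A (FractionRing S) (a₁ * b i) := by
            rw [← hc, hsum, map_sum]
            refine Finset.sum_congr rfl fun i _ => ?_
            rw [map_mul, ← IsScalarTower.algebraMap_apply A S (FractionRing S)]
    rw [hR, hπsum, Finset.mul_sum]
    refine Finset.sum_congr rfl fun i _ => ?_
    rw [map_mul, map_mul, ← hb' i]
    ring
  let πe : A' ⊗[A] D ≃ₐ[A] D' := AlgEquiv.ofBijective π ⟨hπinj, hπsurj⟩
  have hπe : ∀ z, πe z = π z := fun _ => rfl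
  -- finiteness of the set of maximal ideals
  have hfinB : {N : Ideal (D ⊗[A] (integralClosure A (FractionRing A))) | N.IsMaximal}.Finite :=
    finite_setOf_isMaximal_of_finite D _
  have hfin : {N : Ideal D' | N.IsMaximal}.Finite :=
    FracTransport.finite_maximal_equiv (Ψ.trans πe).symm.toRingEquiv hfinB
  -- surjectivity
  have hφsurj : Function.Surjective ((Ideal.Quotient.mkₐ A (Ideal.jacobson (⊥ : Ideal D'))).comp
      (Algebra.TensorProduct.productMap (Subalgebra.inclusion hle) ι)) := by
    intro y
    obtain ⟨y', rfl⟩ := Ideal.Quotient.mk_surjective y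
    obtain ⟨z, rfl⟩ := hπsurj y'
    exact ⟨z, rfl⟩
  refine ⟨hfin, hφsurj, ?_⟩
  -- the kernel is the Jacobson radical of `A' ⊗ D`
  have hker : ∀ z : A' ⊗[A] D,
      z ∈ RingHom.ker ((Ideal.Quotient.mkₐ A (Ideal.jacobson (⊥ : Ideal D'))).comp
        (Algebra.TensorProduct.productMap (Subalgebra.inclusion hle) ι)) ↔
      z ∈ Ideal.jacobson (⊥ : Ideal (A' ⊗[A] D)) := by
    intro z
    rw [RingHom.mem_ker]
    change Ideal.Quotient.mk (Ideal.jacobson (⊥ : Ideal D')) (π z) = 0 ↔ _
    rw [Ideal.Quotient.eq_zero_iff_mem]
    exact FracTransport.mem_jacobson_bot_equiv πe.toRingEquiv z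
  -- integrality of `D'` over `D` and of `A'` over `A`
  letI algDD' : Algebra D D' := ι.toRingHom.toAlgebra
  let valD : D' →ₐ[D] FractionRing S :=
    { D'.val.toRingHom with commutes' := fun d => hι d }
  haveI : Algebra.IsIntegral D D' := by
    refine ⟨fun x => ?_⟩
    rw [← isIntegral_algHom_iff valD Subtype.val_injective]
    exact ((hD' _).mp x.2).1
  haveI : Algebra.IsIntegral A A' := by
    refine ⟨fun x => ?_⟩
    rw [← isIntegral_algHom_iff A'.val Subtype.val_injective]
    exact ((hA' _).mp x.2).1
  -- maximal ideals of `D'` contain the images of `m_D` and of the radical of `A'`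
  have hND : ∀ (N : Ideal D') [N.IsMaximal] (d : D), d ∈ maximalIdeal D → ι d ∈ N := by
    intro N hN d hd
    have h1 : (N.comap (algebraMap D D')).IsMaximal :=
      Ideal.isMaximal_comap_of_isIntegral_of_isMaximal N
    have h2 : N.comap (algebraMap D D') = maximalIdeal D := IsLocalRing.eq_maximalIdeal h1
    have h3 : d ∈ N.comap (algebraMap D D') := by rw [h2]; exact hd
    exact h3
  have hNA : ∀ (N : Ideal D') [N.IsMaximal] (a : A'), a ∈ Ideal.jacobson (⊥ : Ideal A') →
      Subalgebra.inclusion hle a ∈ N := by
    intro N hN a ha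
    let 𝔫 : Ideal A' := N.comap (Subalgebra.inclusion hle)
    haveI : 𝔫.IsPrime := Ideal.comap_isPrime _ N
    have h1 : 𝔫.comap (algebraMap A A') = maximalIdeal A := by
      ext x
      rw [Ideal.mem_comap]
      change Subalgebra.inclusion hle (algebraMap A A' x) ∈ N ↔ _
      have h2 : Subalgebra.inclusion hle (algebraMap A A' x) = ι (algebraMap A D x) := by
        rw [AlgHom.commutes, AlgHom.commutes]
      rw [h2]
      constructor
      · intro h3
        by_contra hx
        have h4 : IsUnit x := by
          by_contra h5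
          exact hx h5
        have h6 : IsUnit (ι (algebraMap A D x)) := (h4.map (algebraMap A D)).map ι
        exact hN.ne_top (Ideal.eq_top_of_isUnit_mem N h3 h6)
      · intro hx
        exact hND N _ (map_nonunit (algebraMap A D) x hx)
    have h7 : 𝔫.IsMaximal :=
      Ideal.isMaximal_of_isIntegral_of_isMaximal_comap 𝔫
        (h1 ▸ IsLocalRing.maximalIdeal.isMaximal A)
    have h8 : Ideal.jacobson (⊥ : Ideal A') ≤ 𝔫 := by
      calc Ideal.jacobson (⊥ : Ideal A') ≤ Ideal.jacobson 𝔫 := Ideal.jacobson_mono bot_le
        _ = 𝔫 := Ideal.jacobson_eq_self_of_isMaximal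
    exact h8 ha
  have hJ₀ : ∀ (P : Ideal (A' ⊗[A] D)) [P.IsPrime],
      (maximalIdeal D).map (Algebra.TensorProduct.includeRight : D →ₐ[A] A' ⊗[A] D) ≤ P →
      P.IsMaximal := by
    intro P hP hJP
    let N : Ideal D' := P.comap (πe.symm : D' →+* A' ⊗[A] D)
    haveI : N.IsPrime := Ideal.comap_isPrime _ P
    have h1 : N.comap (algebraMap D D') = maximalIdeal D := by
      have h2 : maximalIdeal D ≤ N.comap (algebraMap D D') := by
        intro d hd
        rw [Ideal.mem_comap, Ideal.mem_comap]
        change πe.symm (ι d) ∈ P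
        have h3 : ι d = πe ((1 : A') ⊗ₜ[A] d) := by
          change ι d = Algebra.TensorProduct.productMap (Subalgebra.inclusion hle) ι
            ((1 : A') ⊗ₜ[A] d)
          rw [Algebra.TensorProduct.productMap_apply_tmul, map_one, one_mul]
        rw [h3, AlgEquiv.symm_apply_apply]
        exact hJP (Ideal.mem_map_of_mem _ hd)
      have h4 : (N.comap (algebraMap D D')) ≠ ⊤ := Ideal.IsPrime.ne_top inferInstance
      exact ((IsLocalRing.maximalIdeal.isMaximal D).eq_of_le h4 h2).symm
    have h5 : N.IsMaximal :=
      Ideal.isMaximal_of_isIntegral_of_isMaximal_comap N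
        (h1 ▸ IsLocalRing.maximalIdeal.isMaximal D)
    have h6 : P = N.comap (πe : A' ⊗[A] D →+* D') := by
      ext x
      rw [Ideal.mem_comap, Ideal.mem_comap]
      change x ∈ P ↔ πe.symm (πe x) ∈ P
      rw [AlgEquiv.symm_apply_apply]
    rw [h6]
    exact Ideal.comap_isMaximal_of_surjective (πe : A' ⊗[A] D →+* D') πe.surjective
  ext z
  rw [hker]
  constructor
  · intro hz
    -- `m_D = m_A D`
    have hmD : (maximalIdeal A).map (algebraMap A D) = maximalIdeal D := by
      have hmS : (maximalIdeal A).map (algebraMap A S) = maximalIdeal S :=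
        Groth.Agent.H3.SH.map_maximalIdeal_eq_of_isStrictHenselization A hS
      apply le_antisymm
      · rw [Ideal.map_le_iff_le_comap]
        intro a ha
        exact map_nonunit (algebraMap A D) a ha
      · intro x hx
        have h3 : algebraMap D S x ∈ maximalIdeal S := map_nonunit (algebraMap D S) x hx
        rw [← hmS, IsScalarTower.algebraMap_eq A D S, ← Ideal.map_map] at h3
        have h4 : x ∈ (((maximalIdeal A).map (algebraMap A D)).map (algebraMap D S)).comap
            (algebraMap D S) := h3
        rwa [Ideal.comap_map_eq_self_of_faithfullyFlat] at h4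
    have hUA'S : Groth.Agent.H3.UnionEtale.IsUnion A' (A' ⊗[A] S) :=
      StrictUni.isUnion_baseChange A S A' hU
    -- finiteness of the set of maximal ideals of `A'`
    have hfinA'max : {𝔪 : Ideal A' | 𝔪.IsMaximal}.Finite :=
      FracTransport.finite_maximal_equiv θe.symm.toRingEquiv
        (finite_setOf_isMaximal_of_finite A (integralClosure A (FractionRing A)))
    -- `z` lies in every `𝔪 (A' ⊗ D)`
    have hzm : ∀ 𝔪 : Ideal A', 𝔪.IsMaximal →
        z ∈ 𝔪.map (algebraMap A' (A' ⊗[A] D)) := by
      intro 𝔪 h𝔪
      haveI := h𝔪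
      have hradS : (𝔪.map (algebraMap A' (A' ⊗[A] S))).IsRadical :=
        RadDescent.isRadical_map_of_isMaximal hUA'S 𝔪
      have hrad : (𝔪.map (algebraMap A' (A' ⊗[A] D))).IsRadical := by
        rintro w ⟨n, hn⟩
        apply RadDescent.mem_map_of_map_mem A D S A' 𝔪 w
        apply hradS
        refine ⟨n, ?_⟩
        rw [← map_pow]
        have hle' : 𝔪.map (algebraMap A' (A' ⊗[A] D)) ≤
            (𝔪.map (algebraMap A' (A' ⊗[A] S))).comap
              (Algebra.TensorProduct.map (AlgHom.id A A') (IsScalarTower.toAlgHom A D S)) := by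
          rw [Ideal.map_le_iff_le_comap]
          intro a ha
          rw [Ideal.mem_comap, Ideal.mem_comap]
          have h1 : Algebra.TensorProduct.map (AlgHom.id A A') (IsScalarTower.toAlgHom A D S)
              (algebraMap A' (A' ⊗[A] D) a) = algebraMap A' (A' ⊗[A] S) a := by
            rw [Algebra.TensorProduct.algebraMap_apply, Algebra.TensorProduct.algebraMap_apply,
              Algebra.TensorProduct.map_tmul, map_one]
            rfl
          rw [h1]
          exact Ideal.mem_map_of_mem _ ha
        exact hle' hn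
      rw [← hrad.radical, Ideal.radical_eq_sInf, Ideal.mem_sInf]
      rintro P ⟨hP, hPp⟩
      haveI := hPp
      have h𝔪A : 𝔪.comap (algebraMap A A') = maximalIdeal A :=
        IsLocalRing.eq_maximalIdeal (Ideal.isMaximal_comap_of_isIntegral_of_isMaximal 𝔪)
      have hJP : (maximalIdeal D).map
          (Algebra.TensorProduct.includeRight : D →ₐ[A] A' ⊗[A] D) ≤ P := by
        refine le_trans ?_ hP
        rw [← hmD]
        change Ideal.map (Algebra.TensorProduct.includeRight : D →ₐ[A] A' ⊗[A] D).toRingHom _ ≤ _
        rw [Ideal.map_map, Ideal.map_le_iff_le_comap]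
        intro a ha
        rw [Ideal.mem_comap]
        have h1 : ((Algebra.TensorProduct.includeRight : D →ₐ[A] A' ⊗[A] D).toRingHom.comp
            (algebraMap A D)) a = algebraMap A' (A' ⊗[A] D) (algebraMap A A' a) := by
          change (Algebra.TensorProduct.includeRight : D →ₐ[A] A' ⊗[A] D) (algebraMap A D a) = _
          rw [AlgHom.commutes, ← IsScalarTower.algebraMap_apply]
        rw [h1]
        apply Ideal.mem_map_of_mem
        have h2 : a ∈ 𝔪.comap (algebraMap A A') := by rw [h𝔪A]; exact ha
        exact h2
      have hPmax : P.IsMaximal := hJ₀ P hJP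
      have hz' := hz
      rw [Ideal.jacobson, Ideal.mem_sInf] at hz'
      exact hz' ⟨bot_le, hPmax⟩
    -- intersect
    let s : Finset (Ideal A') := hfinA'max.toFinset
    have hs : ∀ 𝔪, 𝔪 ∈ s ↔ 𝔪.IsMaximal := fun 𝔪 => by
      rw [Set.Finite.mem_toFinset]
      rfl
    have hcop : (s : Set (Ideal A')).Pairwise
        (Function.onFun IsCoprime (fun 𝔪 : Ideal A' => 𝔪.map (algebraMap A' (A' ⊗[A] D)))) := by
      intro 𝔪 h𝔪 𝔫 h𝔫 hne
      change IsCoprime (𝔪.map (algebraMap A' (A' ⊗[A] D))) (𝔫.map (algebraMap A' (A' ⊗[A] D)))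
      rw [Ideal.isCoprime_iff_sup_eq, ← Ideal.map_sup]
      have h1 : 𝔪 ⊔ 𝔫 = ⊤ :=
        Ideal.IsMaximal.coprime_of_ne ((hs 𝔪).mp (Finset.mem_coe.mp h𝔪))
          ((hs 𝔫).mp (Finset.mem_coe.mp h𝔫)) hne
      rw [h1, Ideal.map_top]
    have hz1 : z ∈ ⨅ 𝔪 ∈ s, (𝔪 : Ideal A').map (algebraMap A' (A' ⊗[A] D)) := by
      rw [Ideal.mem_iInf]
      intro 𝔪
      rw [Ideal.mem_iInf]
      intro h𝔪
      exact hzm 𝔪 ((hs 𝔪).mp h𝔪)
    rw [← Ideal.prod_eq_iInf_of_pairwise_isCoprime hcop] at hz1
    have hz2 : z ∈ (∏ 𝔪 ∈ s, 𝔪).map (algebraMap A' (A' ⊗[A] D)) := by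
      have h1 : (∏ 𝔪 ∈ s, 𝔪).map (algebraMap A' (A' ⊗[A] D)) =
          ∏ 𝔪 ∈ s, (𝔪 : Ideal A').map (algebraMap A' (A' ⊗[A] D)) :=
        map_prod (Ideal.mapHom (algebraMap A' (A' ⊗[A] D))) _ s
      rw [h1]
      exact hz1
    have hprod : (∏ 𝔪 ∈ s, 𝔪) ≤ Ideal.jacobson (⊥ : Ideal A') := by
      rw [Ideal.jacobson]
      refine le_sInf ?_
      rintro 𝔪 ⟨-, h𝔪⟩
      exact Ideal.prod_le_inf.trans (Finset.inf_le ((hs 𝔪).mpr h𝔪))
    exact Ideal.mem_sup_left (Ideal.map_mono hprod hz2)
  · intro hz
    have hπz : π z ∈ Ideal.jacobson (⊥ : Ideal D') := by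
      have hle' : (Ideal.jacobson (⊥ : Ideal A')).map
            (Algebra.TensorProduct.includeLeft : A' →ₐ[A] A' ⊗[A] D) ⊔
          (maximalIdeal D).map
            (Algebra.TensorProduct.includeRight : D →ₐ[A] A' ⊗[A] D) ≤
          (Ideal.jacobson (⊥ : Ideal D')).comap π := by
        refine sup_le ?_ ?_
        · rw [Ideal.map_le_iff_le_comap]
          intro a ha
          rw [Ideal.mem_comap, Ideal.mem_comap]
          change π (a ⊗ₜ[A] (1 : D)) ∈ _
          have h1 : π (a ⊗ₜ[A] (1 : D)) = Subalgebra.inclusion hle a := by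
            change Algebra.TensorProduct.productMap (Subalgebra.inclusion hle) ι
              (a ⊗ₜ[A] (1 : D)) = _
            rw [Algebra.TensorProduct.productMap_apply_tmul, map_one, mul_one]
          rw [h1, Ideal.jacobson, Ideal.mem_sInf]
          rintro N ⟨-, hN⟩
          haveI := hN
          exact hNA N a ha
        · rw [Ideal.map_le_iff_le_comap]
          intro d hd
          rw [Ideal.mem_comap, Ideal.mem_comap]
          change π ((1 : A') ⊗ₜ[A] d) ∈ _
          have h1 : π ((1 : A') ⊗ₜ[A] d) = ι d := by
            change Algebra.TensorProduct.productMap (Subalgebra.inclusion hle) ι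
              ((1 : A') ⊗ₜ[A] d) = _
            rw [Algebra.TensorProduct.productMap_apply_tmul, map_one, one_mul]
          rw [h1, Ideal.jacobson, Ideal.mem_sInf]
          rintro N ⟨-, hN⟩
          haveI := hN
          exact hND N d hd
      exact hle' hz
    exact (FracTransport.mem_jacobson_bot_equiv πe.toRingEquiv z).mp hπz


end Groth.Agent.H14.HensProp.Main16451
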