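import Mathlib
import Groth.Prelude.Def_Hensel
import Groth.Agent.H14.HensProp.FibreSep2
import Groth.Agent.H14.GeomBC.SmoothReduced
import Groth.Agent.H3.UnionEtale

set_option autoImplicit false
set_option linter.style.haveILetI false
universe u

namespace Groth.Agent.H14.HensProp

open TensorProduct

/-- A flat algebra over a reduced ring which is a union of images of étale algebras is reduced. -/
theorem isReduced_of_flat_of_inEtImage (B C : Type u) [CommRing B] [CommRing C] [Algebra B C]
    [IsReduced B] [Module.Flat B C] (hU : ∀ t : C, InEtImage B C {t}) : IsReduced C := by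
  refine ⟨fun t ht => ?_⟩
  obtain ⟨n, hn⟩ := ht
  rcases Nat.eq_zero_or_pos n with h0 | hpos
  · subst h0
    rw [pow_zero] at hn
    calc t = t * 1 := (mul_one t).symm
      _ = 0 := by rw [hn, mul_zero]
  obtain ⟨E, _, _, hE, ψ, hψ⟩ := hU t
  obtain ⟨e, rfl⟩ : ∃ e, ψ e = t := hψ rfl
  haveI : IsReduced E := Groth.Agent.H14.GeomBC.isReduced_of_smooth B E
  have hs : ψ (e ^ n) = 0 := by rw [map_pow, hn]
  obtain ⟨k, a, y, h1, h2⟩ := Groth.Agent.H3.UnionEtale.exists_smul_eq_zero ψ (e ^ n) hs
  have h3 : ∀ j, a j * e = 0 := by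
    intro j
    have h4 : (a j * e) ^ n = 0 := by
      rw [mul_pow]
      calc a j ^ n * e ^ n = a j ^ (n - 1) * (a j * e ^ n) := by
            rw [← mul_assoc, ← pow_succ, Nat.sub_add_cancel hpos]
        _ = 0 := by rw [h1 j, mul_zero]
    exact IsReduced.eq_zero _ ⟨n, h4⟩
  calc ψ e = ψ e * ∑ j, ψ (a j) * y j := by rw [h2, mul_one]
    _ = ∑ j, ψ (a j * e) * y j := by
        rw [Finset.mul_sum]
        refine Finset.sum_congr rfl fun j _ => ?_
        rw [map_mul]; ring
    _ = 0 := by
        refine Finset.sum_eq_zero fun j _ => ?_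
        rw [h3 j, map_zero, zero_mul]

/-- Base change of a flat union of étale images to a reduced algebra is reduced. -/
theorem isReduced_tensor_of_inEtImage (A R : Type u) [CommRing A] [CommRing R] [Algebra A R]
    [Module.Flat A R] (hU : ∀ x : R, InEtImage A R {x}) (B' : Type u) [CommRing B'] [Algebra A B']
    [IsReduced B'] : IsReduced (B' ⊗[A] R) :=
  isReduced_of_flat_of_inEtImage B' (B' ⊗[A] R) (inEtImage_baseChange A R hU B')

/-- Geometric reducedness over a field passes to and from a faithfully flat union of étale images. -/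
theorem geomReduced_iff_of_inEtImage (k : Type u) [Field k] (A : Type u) [CommRing A] [Algebra k A]
    (R : Type u) [CommRing R] [Algebra A R] [Algebra k R] [IsScalarTower k A R]
    [Module.FaithfullyFlat A R] (hU : ∀ x : R, InEtImage A R {x}) :
    (∀ (K : Type u) [Field K] [Algebra k K], IsReduced (TensorProduct k K A)) ↔
      ∀ (K : Type u) [Field K] [Algebra k K], IsReduced (TensorProduct k K R) := by
  constructor
  · intro h K _ _
    haveI : IsReduced (K ⊗[k] A) := h K
    haveI : IsReduced (A ⊗[k] K) :=
      isReduced_of_injective (Algebra.TensorProduct.comm k A K : A ⊗[k] K →+* K ⊗[k] A)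
        (Algebra.TensorProduct.comm k A K).injective
    haveI h1 : IsReduced ((A ⊗[k] K) ⊗[A] R) := isReduced_tensor_of_inEtImage A R hU (A ⊗[k] K)
    let e1 : (K ⊗[k] R) ≃ₐ[k] (R ⊗[k] K) := Algebra.TensorProduct.comm k K R
    let e2 : (R ⊗[A] (A ⊗[k] K)) ≃ₐ[A] (R ⊗[k] K) := Algebra.TensorProduct.cancelBaseChange k A A R K
    let e3 : (R ⊗[A] (A ⊗[k] K)) ≃ₐ[A] ((A ⊗[k] K) ⊗[A] R) := Algebra.TensorProduct.comm A R (A ⊗[k] K)
    let f : (K ⊗[k] R) →+* ((A ⊗[k] K) ⊗[A] R) :=
      (e3.toRingEquiv.toRingHom).comp ((e2.symm.toRingEquiv.toRingHom).comp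
        (e1.toRingEquiv.toRingHom))
    have hf : Function.Injective f :=
      e3.injective.comp (e2.symm.injective.comp e1.injective)
    exact isReduced_of_injective f hf
  · intro h K _ _
    haveI : IsReduced (K ⊗[k] R) := h K
    have hinj : Function.Injective (algebraMap A R) := FaithfulSMul.algebraMap_injective A R
    let g : (K ⊗[k] A) →ₐ[k] (K ⊗[k] R) :=
      Algebra.TensorProduct.map (AlgHom.id k K) (IsScalarTower.toAlgHom k A R)
    have hg : Function.Injective g := by
      have h1 : (g : (K ⊗[k] A) → (K ⊗[k] R)) =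
          LinearMap.lTensor K (IsScalarTower.toAlgHom k A R).toLinearMap := by
        ext x
        induction x using TensorProduct.induction_on with
        | zero => simp
        | tmul a b => simp [g]
        | add x y hx hy => simp only [map_add, hx, hy]
      rw [h1]
      exact Module.Flat.lTensor_preserves_injective_linearMap _ hinj
    exact isReduced_of_injective g.toRingHom hg

end Groth.Agent.H14.HensProp

namespace Groth.Agent.H14.HensProp

theorem geomReduced_iff_of_isStrictHenselization (k : Type u) [Field k]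
    (A : Type u) [CommRing A] [IsLocalRing A] [Algebra k A]
    (R : Type u) [CommRing R] [IsLocalRing R] [Algebra A R] [IsLocalHom (algebraMap A R)]
    [Hensel.IsStrictHenselization A R] [Algebra k R] [IsScalarTower k A R] :
    (∀ (K : Type u) [Field K] [Algebra k K], IsReduced (TensorProduct k K A)) ↔
      ∀ (K : Type u) [Field K] [Algebra k K], IsReduced (TensorProduct k K R) := by
  have hS : Hensel.IsStrictHenselization A R := inferInstance
  haveI hff : Module.FaithfullyFlat A R := Groth.Agent.H3.SH.faithfullyFlat A hS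
  exact geomReduced_iff_of_inEtImage k A R (inEtImage_of_isStrictHenselization A R)

end Groth.Agent.H14.HensProp
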