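import Mathlib
import Groth.Prelude.Def_EssEt
import Groth.Prelude.Def_Hensel
import Groth.Agent.H78.EssEtSub
import Groth.Agent.H78.EssEtSub2
import Groth.Agent.H14.EssEtBasic
import Groth.Agent.H14.HensProp.EssEtSH3

/-!
# Essentially étale local subalgebras of a strict henselization inside a local subalgebra
-/

set_option autoImplicit false
set_option linter.style.haveILetI false
set_option linter.unusedSectionVars false
universe u

namespace Groth.Agent.H14.HensProp.HensUnionS

open IsLocalRing TensorProduct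

section Tower

variable (A S : Type u) [CommRing A] [IsLocalRing A]
  [CommRing S] [IsLocalRing S] [Algebra A S] [IsLocalHom (algebraMap A S)]
  [Hensel.IsStrictHenselization A S]

/-- a local subalgebra dominated by `S` contains `x` as soon as it contains `v` and a unit `u` of
`S` with `x * u = v` -/
theorem mem_of_mul_eq (H : Subalgebra A S) [IsLocalRing H] [IsLocalHom (algebraMap H S)]
    (x u v : S) (hu : u ∈ H) (hv : v ∈ H) (huS : IsUnit u) (h : x * u = v) : x ∈ H := by
  have h1 : IsUnit (algebraMap H S ⟨u, hu⟩) := huS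
  have h2 : IsUnit (⟨u, hu⟩ : H) := isUnit_of_map_unit (algebraMap H S) _ h1
  obtain ⟨w, hw⟩ := h2.exists_right_inv
  have h3 : u * (w : S) = 1 := congrArg Subtype.val hw
  have h4 : x = v * (w : S) := by
    rw [← h, mul_assoc, h3, mul_one]
  rw [h4]
  exact H.mul_mem hv w.2

/-- the essentially étale local subalgebra of `S` attached to an étale algebra over an
unramified essentially finite type local `A`-algebra `B` mapping to `S` -/
theorem exists_essEtale_of_tower (B : Type u) [CommRing B] [IsLocalRing B] [Algebra A B]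
    [Algebra B S] [IsScalarTower A B S] [IsLocalHom (algebraMap B S)]
    [Hensel.IsStrictHenselization B S] [Algebra.EssFiniteType A B] [Algebra.FormallyUnramified A B]
    (C : Type u) [CommRing C] [Algebra B C] [Algebra.Etale B C] (φ : C →ₐ[B] S) :
    ∃ E₂ : Subalgebra A S, (∀ c, φ c ∈ E₂) ∧
      (∀ x ∈ E₂, ∃ c c' : C, IsUnit (φ c') ∧ x * φ c' = φ c) ∧
      ∃ _ : IsLocalRing E₂, IsLocalHom (algebraMap E₂ S) ∧ EGA4loc.IsEssentiallyEtale A E₂ := by
  classical
  obtain ⟨q, hqp, ψ, hq, hqB, hψ, hinj⟩ := Groth.Agent.H78.EssEtSub.exists_essEtale_of_algHom B S φ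
  letI : Algebra A C := ((algebraMap B C).comp (algebraMap A B)).toAlgebra
  haveI : IsScalarTower A B C := IsScalarTower.of_algebraMap_eq' rfl
  haveI : IsScalarTower A B (Localization.AtPrime q) := IsScalarTower.of_algebraMap_eq (fun a => by
    rw [IsScalarTower.algebraMap_apply A C (Localization.AtPrime q),
      IsScalarTower.algebraMap_apply B C (Localization.AtPrime q),
      IsScalarTower.algebraMap_apply A B C])
  let ψA : Localization.AtPrime q →ₐ[A] S := ψ.restrictScalars A
  have hψA : ∀ y, ψA y = ψ y := fun _ => rfl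
  let E₂ : Subalgebra A S := ψA.range
  let e : Localization.AtPrime q ≃ₐ[A] E₂ := AlgEquiv.ofInjective ψA hinj
  have he : ∀ y, ((e y : E₂) : S) = ψ y := fun _ => rfl
  haveI hloc : IsLocalRing E₂ := RingEquiv.isLocalRing e.toRingEquiv
  have hunit : ∀ s : C, s ∉ q → IsUnit (φ s) := by
    intro s hs
    rw [hq, Ideal.mem_comap, mem_maximalIdeal, mem_nonunits_iff, not_not] at hs
    exact hs
  have hfrac : ∀ y : Localization.AtPrime q, ∃ (c : C) (c' : q.primeCompl),
      y = IsLocalization.mk' (Localization.AtPrime q) c c' ∧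
      ψ y * φ (c' : C) = φ c := by
    intro y
    obtain ⟨c, s, rfl⟩ := IsLocalization.exists_mk'_eq q.primeCompl y
    refine ⟨c, s, rfl, ?_⟩
    rw [← hψ, ← hψ, ← map_mul]
    congr 1
    exact IsLocalization.mk'_spec _ c s
  have hlocS : IsLocalHom (algebraMap E₂ S) := by
    constructor
    rintro ⟨x, y, rfl⟩ hx
    obtain ⟨c, c', hy, h⟩ := hfrac y
    have hxS : IsUnit (ψ y) := hx
    have h1 : IsUnit (φ c) := by
      rw [← h]
      exact hxS.mul (hunit c' c'.2)
    have hcq : c ∉ q := by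
      rw [hq, Ideal.mem_comap, mem_maximalIdeal, mem_nonunits_iff, not_not]
      exact h1
    have h2 : IsUnit y := by
      rw [hy]
      exact (IsLocalization.AtPrime.isUnit_mk'_iff (Localization.AtPrime q) q c _).mpr hcq
    have h3 : IsUnit (e y) := h2.map e
    exact h3
  refine ⟨E₂, fun c => ⟨algebraMap C _ c, hψ c⟩, ?_, hloc, hlocS, ?_⟩
  · rintro x ⟨y, rfl⟩
    obtain ⟨c, c', -, h⟩ := hfrac y
    exact ⟨c, c', hunit c' c'.2, h⟩
  · haveI : Algebra.EssFiniteType B C := inferInstance
    haveI : Algebra.EssFiniteType A C := Algebra.EssFiniteType.comp A B C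
    haveI : Algebra.EssFiniteType C (Localization.AtPrime q) :=
      Algebra.EssFiniteType.of_isLocalization _ q.primeCompl
    haveI : Algebra.EssFiniteType A (Localization.AtPrime q) := Algebra.EssFiniteType.comp A C _
    haveI : Algebra.EssFiniteType A E₂ :=
      Algebra.EssFiniteType.of_surjective (e : Localization.AtPrime q →ₐ[A] E₂) e.surjective
    haveI : Algebra.FormallyUnramified A C := Algebra.FormallyUnramified.comp A B C
    haveI : Algebra.FormallyUnramified C (Localization.AtPrime q) :=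
      Algebra.FormallyUnramified.of_isLocalization q.primeCompl
    haveI : Algebra.FormallyUnramified A (Localization.AtPrime q) :=
      Algebra.FormallyUnramified.comp A C _
    haveI : Algebra.FormallyUnramified A E₂ := Algebra.FormallyUnramified.of_equiv e
    haveI : IsLocalHom (algebraMap A E₂) := by
      constructor
      intro a ha
      have h1 : IsUnit (algebraMap E₂ S (algebraMap A E₂ a)) := ha.map _
      rw [← IsScalarTower.algebraMap_apply] at h1
      exact isUnit_of_map_unit (algebraMap A S) a h1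
    have hm : (maximalIdeal A).map (algebraMap A E₂) = maximalIdeal E₂ :=
      Algebra.FormallyUnramified.map_maximalIdeal
    exact Groth.Agent.H78.EssEtSub.isEssentiallyEtale_of_map_maximalIdeal A S E₂ hm

/-- the standard instances of an essentially étale local subalgebra -/
theorem instances_of_isEssentiallyEtale (E : Subalgebra A S) [IsLocalRing E]
    (hE : EGA4loc.IsEssentiallyEtale A E) :
    ∃ (_ : IsLocalHom (algebraMap E S)) (_ : IsLocalHom (algebraMap A E)),
      Algebra.EssFiniteType A E ∧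
      Algebra.FormallyUnramified A E ∧ Hensel.IsStrictHenselization E S := by
  have hS : Hensel.IsStrictHenselization A S := inferInstance
  haveI h2 : IsLocalHom (algebraMap A E) := by
    constructor
    intro a ha
    have h1 : IsUnit (algebraMap E S (algebraMap A E a)) := ha.map _
    rw [← IsScalarTower.algebraMap_apply] at h1
    exact isUnit_of_map_unit (algebraMap A S) a h1
  haveI h1 : IsLocalHom (algebraMap E S) := by
    constructor
    intro x hx
    by_contra hxu
    have h1 : x ∈ maximalIdeal E := hxu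
    have h2 : E.val x ∈ maximalIdeal S :=
      Groth.Agent.H14.algHom_map_maximalIdeal_of_essentiallyEtale hE E.val h1
    exact h2 hx
  haveI h3 : Algebra.EssFiniteType A E := EssEtSH.essFiniteType hE
  haveI h4 : Algebra.FormallyUnramified A E := EssEtSH.formallyUnramified hE
  exact ⟨h1, h2, h3, h4, EssEtSH.isStrictHenselization_of_tower A S E hS⟩

end Tower

section Good

variable (A S : Type u) [CommRing A] [IsLocalRing A]
  [CommRing S] [IsLocalRing S] [Algebra A S] [IsLocalHom (algebraMap A S)]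
  [Hensel.IsStrictHenselization A S]
  (H : Subalgebra A S) [IsLocalRing H] [IsLocalHom (algebraMap H S)]

/-- essentially étale local subalgebras contained in `H` -/
def Good (E : Subalgebra A S) : Prop :=
  E ≤ H ∧ ∃ _ : IsLocalRing E, EGA4loc.IsEssentiallyEtale A E

variable {A S H}

/-- enlarging a good subalgebra by an étale algebra over it mapping into `H` -/
theorem Good.tower {E : Subalgebra A S} (hE : Good A S H E) (C : Type u) [CommRing C]
    [Algebra E C] [Algebra.Etale E C] (φ : C →ₐ[E] S) (hφH : ∀ c, φ c ∈ H) :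
    ∃ E₂ : Subalgebra A S, Good A S H E₂ ∧ E ≤ E₂ ∧ (∀ c, φ c ∈ E₂) ∧
      ∀ (_ : IsLocalRing E₂), IsLocalHom (algebraMap E₂ S) := by
  obtain ⟨hEH, hEloc, hEet⟩ := hE
  letI := hEloc
  obtain ⟨i1, i2, i3, i4, i5⟩ := instances_of_isEssentiallyEtale A S E hEet
  haveI := i1
  haveI := i2
  haveI := i3
  haveI := i4
  haveI := i5
  obtain ⟨E₂, h1, h2, hloc, hlocS, hE₂⟩ := exists_essEtale_of_tower A S E C φ
  refine ⟨E₂, ⟨?_, hloc, hE₂⟩, ?_, h1, ?_⟩
  · intro x hx
    obtain ⟨c, c', hu, h⟩ := h2 x hx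
    exact mem_of_mul_eq A S H x (φ c') (φ c) (hφH c') (hφH c) hu h
  · intro x hx
    have h3 : φ (algebraMap E C ⟨x, hx⟩) = x := by
      rw [φ.commutes]
      rfl
    rw [← h3]
    exact h1 _
  · intro hloc'
    have : hloc' = hloc := Subsingleton.elim _ _
    subst this
    exact hlocS

variable (A S H) in
/-- there is a good subalgebra -/
theorem exists_good : ∃ E : Subalgebra A S, Good A S H E := by
  obtain ⟨E₂, h1, h2, hloc, hlocS, hE₂⟩ := exists_essEtale_of_tower A S A A (Algebra.ofId A S)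
  refine ⟨E₂, ?_, hloc, hE₂⟩
  intro x hx
  obtain ⟨c, c', hu, h⟩ := h2 x hx
  exact mem_of_mul_eq A S H x _ _ (H.algebraMap_mem c') (H.algebraMap_mem c) hu h

/-- two good subalgebras are contained in a third one -/
theorem Good.sup {E₁ E₂ : Subalgebra A S} (h₁ : Good A S H E₁) (h₂ : Good A S H E₂) :
    ∃ E₃ : Subalgebra A S, Good A S H E₃ ∧ E₁ ≤ E₃ ∧ E₂ ≤ E₃ := by
  classical
  obtain ⟨hE₂H, hE₂loc, C₂, _, _, q₂, hq₂, hEt₂, hqm, ⟨e₂⟩⟩ := h₂
  letI := hE₂loc
  haveI := hEt₂
  let φ₂ : C₂ →ₐ[A] S := E₂.val.comp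
    (e₂.symm.toAlgHom.comp (IsScalarTower.toAlgHom A C₂ (Localization.AtPrime q₂)))
  have hφ₂ : ∀ c, φ₂ c = ((e₂.symm (algebraMap C₂ (Localization.AtPrime q₂) c) : E₂) : S) :=
    fun _ => rfl
  let φ : E₁ ⊗[A] C₂ →ₐ[E₁] S :=
    Algebra.TensorProduct.lift (Algebra.ofId E₁ S) φ₂ (fun _ _ => Commute.all _ _)
  have hφtmul : ∀ (e : E₁) (c : C₂), φ (e ⊗ₜ[A] c) = (e : S) * φ₂ c := by
    intro e c
    simp only [φ, Algebra.TensorProduct.lift_tmul]
    rfl
  have hφH : ∀ z, φ z ∈ H := by
    intro z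
    induction z using TensorProduct.induction_on with
    | zero => rw [map_zero]; exact H.zero_mem
    | tmul e c =>
      rw [hφtmul, hφ₂]
      exact H.mul_mem (h₁.1 e.2) (hE₂H (Subtype.mem _))
    | add x y hx hy => rw [map_add]; exact H.add_mem hx hy
  obtain ⟨E₃, hE₃, h13, hφE₃, hlocS⟩ := h₁.tower (E₁ ⊗[A] C₂) φ hφH
  refine ⟨E₃, hE₃, h13, ?_⟩
  obtain ⟨_, hE₃loc, _⟩ := hE₃
  letI := hE₃loc
  haveI := hlocS hE₃loc
  intro y hy
  obtain ⟨c, s, hcs⟩ := IsLocalization.exists_mk'_eq q₂.primeCompl (e₂ ⟨y, hy⟩)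
  have h1 : (⟨y, hy⟩ : E₂) * e₂.symm (algebraMap C₂ (Localization.AtPrime q₂) (s : C₂)) =
      e₂.symm (algebraMap C₂ (Localization.AtPrime q₂) c) := by
    apply e₂.injective
    rw [map_mul, AlgEquiv.apply_symm_apply, AlgEquiv.apply_symm_apply, ← hcs]
    exact IsLocalization.mk'_spec _ c s
  have h2 : y * φ₂ (s : C₂) = φ₂ c := by
    rw [hφ₂, hφ₂, ← h1]
    rfl
  have h3 : IsUnit (φ₂ (s : C₂)) := by
    have h4 : IsUnit (algebraMap C₂ (Localization.AtPrime q₂) (s : C₂)) :=
      IsLocalization.map_units _ s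
    have h5 : IsUnit (e₂.symm (algebraMap C₂ (Localization.AtPrime q₂) (s : C₂))) := h4.map e₂.symm
    exact h5.map E₂.val
  have h6 : ∀ c : C₂, φ₂ c ∈ E₃ := by
    intro c
    have : φ₂ c = φ ((1 : E₁) ⊗ₜ[A] c) := by
      rw [hφtmul, OneMemClass.coe_one, one_mul]
    rw [this]
    exact hφE₃ _
  exact mem_of_mul_eq A S E₃ y _ _ (h6 _) (h6 _) h3 h2

/-- finitely many elements of good subalgebras lie in one good subalgebra -/
theorem Good.finset (s : Finset S) (hs : ∀ x ∈ s, ∃ E : Subalgebra A S, Good A S H E ∧ x ∈ E) :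
    ∃ E : Subalgebra A S, Good A S H E ∧ (s : Set S) ⊆ (E : Set S) := by
  classical
  induction s using Finset.induction_on with
  | empty =>
    obtain ⟨E, hE⟩ := exists_good A S H
    exact ⟨E, hE, by simp⟩
  | insert a s _ ih =>
    obtain ⟨E₁, hE₁, hs₁⟩ := ih (fun x hx => hs x (Finset.mem_insert_of_mem hx))
    obtain ⟨E₂, hE₂, ha⟩ := hs a (Finset.mem_insert_self a s)
    obtain ⟨E₃, hE₃, h13, h23⟩ := hE₁.sup hE₂
    refine ⟨E₃, hE₃, ?_⟩
    intro x hx
    rw [Finset.coe_insert] at hx
    rcases hx with rfl | hx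
    · exact h23 ha
    · exact h13 (hs₁ hx)

open Polynomial in
theorem aeval_mem_of_le {E : Subalgebra A S} (hEH : E ≤ H) (ϑ : S) (hϑ : ϑ ∈ H) (p : E[X]) :
    aeval ϑ p ∈ H := by
  induction p using Polynomial.induction_on with
  | C a =>
    rw [aeval_C]
    exact hEH a.2
  | add p q hp hq => rw [map_add]; exact H.add_mem hp hq
  | monomial n a _ =>
    rw [map_mul, aeval_C, map_pow, aeval_X]
    exact H.mul_mem (hEH a.2) (H.pow_mem hϑ _)

/-- adjoining an element of `H` satisfying a standard étale pair over a good subalgebra -/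
theorem Good.adjoin {E : Subalgebra A S} (hE : Good A S H E) (P : StandardEtalePair E) (ϑ : S)
    (hϑ : ϑ ∈ H) (hmap : P.HasMap ϑ) :
    ∃ E₂ : Subalgebra A S, Good A S H E₂ ∧ E ≤ E₂ ∧ ϑ ∈ E₂ := by
  classical
  let φ : P.Ring →ₐ[E] S := P.lift ϑ hmap
  have hbij : Function.Bijective (P.lift P.X P.hasMap_X) := by
    rw [P.lift_X_left]
    exact Function.bijective_id
  let Pres : StandardEtalePresentation E P.Ring := ⟨P, P.X, P.hasMap_X, hbij⟩
  have hφH : ∀ c, φ c ∈ H := by
    intro c
    obtain ⟨p, n, hpn⟩ := Pres.exists_mul_aeval_x_g_pow_eq_aeval_x c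
    have h1 : φ c * (Polynomial.aeval ϑ P.g) ^ n = Polynomial.aeval ϑ p := by
      have h2 := congrArg φ hpn
      rw [map_mul, map_pow, ← Polynomial.aeval_algHom_apply, ← Polynomial.aeval_algHom_apply] at h2
      have h3 : φ Pres.x = ϑ := P.lift_X ϑ hmap
      rw [h3] at h2
      exact h2
    exact mem_of_mul_eq A S H (φ c) _ _ (H.pow_mem (aeval_mem_of_le hE.1 ϑ hϑ _) n)
      (aeval_mem_of_le hE.1 ϑ hϑ _) (hmap.2.pow n) h1
  obtain ⟨E₂, hE₂, h12, hφE₂, -⟩ := hE.tower P.Ring φ hφH
  refine ⟨E₂, hE₂, h12, ?_⟩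
  have h3 : φ P.X = ϑ := P.lift_X ϑ hmap
  rw [← h3]
  exact hφE₂ _

end Good

end Groth.Agent.H14.HensProp.HensUnionS
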