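import Mathlib
import Groth.Agent.H14.HensProp.HensUnionS

/-!
# The union of the good subalgebras of a henselian local subalgebra of a strict henselization
-/

set_option autoImplicit false
set_option linter.style.haveILetI false
set_option linter.unusedSectionVars false
universe u

namespace Groth.Agent.H14.HensProp.HensUnionS

open IsLocalRing TensorProduct Polynomial

variable (A S : Type u) [CommRing A] [IsLocalRing A]
  [CommRing S] [IsLocalRing S] [Algebra A S] [IsLocalHom (algebraMap A S)]
  [Hensel.IsStrictHenselization A S]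
  (H : Subalgebra A S) [IsLocalRing H] [IsLocalHom (algebraMap H S)]

/-- the union of the good subalgebras -/
def unionGood : Subalgebra A S where
  carrier := {x | ∃ E : Subalgebra A S, Good A S H E ∧ x ∈ E}
  mul_mem' := by
    rintro x y ⟨E₁, h₁, hx⟩ ⟨E₂, h₂, hy⟩
    obtain ⟨E₃, h₃, h13, h23⟩ := h₁.sup h₂
    exact ⟨E₃, h₃, E₃.mul_mem (h13 hx) (h23 hy)⟩
  add_mem' := by
    rintro x y ⟨E₁, h₁, hx⟩ ⟨E₂, h₂, hy⟩
    obtain ⟨E₃, h₃, h13, h23⟩ := h₁.sup h₂
    exact ⟨E₃, h₃, E₃.add_mem (h13 hx) (h23 hy)⟩
  one_mem' := by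
    obtain ⟨E, hE⟩ := exists_good A S H
    exact ⟨E, hE, E.one_mem⟩
  zero_mem' := by
    obtain ⟨E, hE⟩ := exists_good A S H
    exact ⟨E, hE, E.zero_mem⟩
  algebraMap_mem' := by
    intro r
    obtain ⟨E, hE⟩ := exists_good A S H
    exact ⟨E, hE, E.algebraMap_mem r⟩

theorem mem_unionGood (x : S) :
    x ∈ unionGood A S H ↔ ∃ E : Subalgebra A S, Good A S H E ∧ x ∈ E := Iff.rfl

theorem unionGood_le : unionGood A S H ≤ H := by
  rintro x ⟨E, hE, hx⟩
  exact hE.1 hx

variable {A S H} in
theorem Good.le_unionGood {E : Subalgebra A S} (hE : Good A S H E) : E ≤ unionGood A S H :=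
  fun _ hx => ⟨E, hE, hx⟩

theorem exists_good_finset (s : Finset S) (hs : (s : Set S) ⊆ (unionGood A S H : Set S)) :
    ∃ E : Subalgebra A S, Good A S H E ∧ (s : Set S) ⊆ (E : Set S) :=
  Good.finset s (fun x hx => hs (Finset.mem_coe.mpr hx))

/-- units of `S` in the union are units of the union -/
theorem isUnit_unionGood (x : unionGood A S H) (hx : IsUnit (x : S)) : IsUnit x := by
  obtain ⟨x, E, hE, hxE⟩ := x
  obtain ⟨hEH, hEloc, hEet⟩ := hE
  letI := hEloc
  obtain ⟨i1, i2, i3, i4, i5⟩ := instances_of_isEssentiallyEtale A S E hEet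
  haveI := i1
  have h1 : IsUnit (algebraMap E S ⟨x, hxE⟩) := hx
  have h2 : IsUnit (⟨x, hxE⟩ : E) := isUnit_of_map_unit (algebraMap E S) _ h1
  have hle : E ≤ unionGood A S H := Good.le_unionGood ⟨hEH, hEloc, hEet⟩
  exact h2.map (Subalgebra.inclusion hle)

instance : IsLocalRing (unionGood A S H) := by
  refine IsLocalRing.of_nonunits_add ?_
  intro a b ha hb
  have ha' : (a : S) ∈ nonunits S := fun h => ha (isUnit_unionGood A S H a h)
  have hb' : (b : S) ∈ nonunits S := fun h => hb (isUnit_unionGood A S H b h)
  have hab : (a : S) + (b : S) ∈ nonunits S := IsLocalRing.nonunits_add ha' hb'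
  intro h
  exact hab (h.map (unionGood A S H).val)

instance : IsLocalHom (algebraMap (unionGood A S H) S) :=
  ⟨fun x hx => isUnit_unionGood A S H x hx⟩

theorem isUnit_of_isUnit_coe (x : H) (hx : IsUnit (x : S)) : IsUnit x :=
  isUnit_of_map_unit (algebraMap H S) x hx

/-- the union of the good subalgebras of a henselian `H` is henselian -/
theorem henselian_unionGood [hH : HenselianLocalRing H] :
    HenselianLocalRing (unionGood A S H) := by
  classical
  refine { toIsLocalRing := inferInstance, is_henselian := ?_ }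
  intro f hf a₀ h0 hu
  -- a good subalgebra containing the coefficients and `a₀`
  let s : Finset S := (f.support.image fun n => ((f.coeff n : unionGood A S H) : S)) ∪ {(a₀ : S)}
  have hs : (s : Set S) ⊆ (unionGood A S H : Set S) := by
    intro x hx
    rcases Finset.mem_union.mp (Finset.mem_coe.mp hx) with h | h
    · obtain ⟨n, -, rfl⟩ := Finset.mem_image.mp h
      exact (f.coeff n).2
    · rw [Finset.mem_singleton] at h
      rw [h]
      exact a₀.2
  obtain ⟨E, hE, hsE⟩ := exists_good_finset A S H s hs
  have hEH₁ : E ≤ unionGood A S H := hE.le_unionGood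
  let ι₁ : E →+* unionGood A S H := (Subalgebra.inclusion hEH₁).toRingHom
  have hlifts : f ∈ Polynomial.lifts ι₁ := by
    rw [Polynomial.lifts_iff_coeff_lifts]
    intro n
    by_cases hn : n ∈ f.support
    · have h1 : ((f.coeff n : unionGood A S H) : S) ∈ E := by
        apply hsE
        rw [Finset.mem_coe, Finset.mem_union]
        left
        exact Finset.mem_image.mpr ⟨n, hn, rfl⟩
      exact ⟨⟨_, h1⟩, Subtype.ext rfl⟩
    · rw [Polynomial.notMem_support_iff.mp hn]
      exact ⟨0, map_zero _⟩
  obtain ⟨fE, hfE, -, hfEm⟩ := Polynomial.lifts_and_natDegree_eq_and_monic hlifts hf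
  let vE : E →+* S := E.val.toRingHom
  let v₁ : unionGood A S H →+* S := (unionGood A S H).val.toRingHom
  let vH : H →+* S := H.val.toRingHom
  let F : S[X] := fE.map vE
  have hF1 : f.map v₁ = F := by
    rw [← hfE, Polynomial.map_map]
    rfl
  let j : unionGood A S H →+* H := (Subalgebra.inclusion (unionGood_le A S H)).toRingHom
  let fH : H[X] := f.map j
  have hFH : fH.map vH = F := by
    rw [Polynomial.map_map, ← hF1]
    rfl
  have hfHm : fH.Monic := hf.map j
  have hevH : ∀ (p : H[X]) (x : H), ((p.eval x : H) : S) = (p.map vH).eval (x : S) :=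
    fun p x => (Polynomial.eval_map_apply (f := vH) x).symm
  have hev₁ : ∀ (p : (unionGood A S H)[X]) (x : unionGood A S H),
      ((p.eval x : unionGood A S H) : S) = (p.map v₁).eval (x : S) :=
    fun p x => (Polynomial.eval_map_apply (f := v₁) x).symm
  have hja₀ : ((j a₀ : H) : S) = (a₀ : S) := rfl
  have h0' : fH.eval (j a₀) ∈ maximalIdeal H := by
    rw [mem_maximalIdeal, mem_nonunits_iff]
    intro h
    have h1 : IsUnit ((fH.eval (j a₀) : H) : S) := h.map H.val
    rw [hevH, hFH, hja₀, ← hF1, ← hev₁] at h1
    exact h0 (isUnit_unionGood A S H _ h1)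
  have hu' : IsUnit (fH.derivative.eval (j a₀)) := by
    apply isUnit_of_isUnit_coe A S H
    rw [hevH, ← Polynomial.derivative_map, hFH, hja₀, ← hF1, Polynomial.derivative_map, ← hev₁]
    exact hu.map (unionGood A S H).val
  obtain ⟨a, ha, haa₀⟩ := HenselianLocalRing.is_henselian fH hfHm (j a₀) h0' hu'
  have hFa : F.eval (a : S) = 0 := by
    rw [← hFH, ← hevH, ha]
    rfl
  let P : StandardEtalePair E := ⟨fE, hfEm, fE.derivative, ⟨1, 0, 1, by ring⟩⟩
  have hmap : P.HasMap (a : S) := by
    constructor
    · change aeval (a : S) fE = 0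
      rw [aeval_def, ← Polynomial.eval_map]
      exact hFa
    · change IsUnit (aeval (a : S) fE.derivative)
      rw [aeval_def, ← Polynomial.eval_map]
      change IsUnit ((fE.derivative.map vE).eval (a : S))
      rw [← Polynomial.derivative_map]
      change IsUnit (F.derivative.eval (a : S))
      rw [← hFH, Polynomial.derivative_map, ← hevH]
      refine IsUnit.map H.val ?_
      by_contra hnu
      have h1 : fH.derivative.eval a ∈ maximalIdeal H := hnu
      have h2 : a - j a₀ ∣ fH.derivative.eval a - fH.derivative.eval (j a₀) :=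
        Polynomial.sub_dvd_eval_sub a (j a₀) fH.derivative
      have h3 : fH.derivative.eval a - fH.derivative.eval (j a₀) ∈ maximalIdeal H :=
        Ideal.mem_of_dvd _ h2 haa₀
      have h4 : fH.derivative.eval (j a₀) ∈ maximalIdeal H := by
        have := (maximalIdeal H).sub_mem h1 h3
        rwa [sub_sub_cancel] at this
      exact h4 hu'
  obtain ⟨E₂, hE₂, h12, haE₂⟩ := hE.adjoin P (a : S) a.2 hmap
  refine ⟨⟨(a : S), hE₂.le_unionGood haE₂⟩, ?_, ?_⟩
  · apply Subtype.ext
    change ((f.eval _ : unionGood A S H) : S) = 0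
    rw [hev₁, hF1]
    exact hFa
  · rw [mem_maximalIdeal, mem_nonunits_iff]
    intro h
    have h1 : IsUnit (((a - j a₀ : H)) : S) := h.map (unionGood A S H).val
    exact haa₀ (isUnit_of_isUnit_coe A S H _ h1)

/-- the union of the good subalgebras has the same residue field as `H` -/
theorem exists_sub_mem [hH : HenselianLocalRing H] (y : H) :
    ∃ y₁ : unionGood A S H, (y : S) - (y₁ : S) ∈ maximalIdeal S := by
  classical
  have hS : Hensel.IsStrictHenselization A S := inferInstance
  haveI hsep : Algebra.IsSeparable (ResidueField A) (ResidueField S) := hS.isSepClosure.separable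
  let yb : ResidueField S := residue S (y : S)
  have hint : IsIntegral (ResidueField A) yb := (Algebra.IsSeparable.isSeparable _ yb).isIntegral
  let pb := minpoly (ResidueField A) yb
  have hpbm : pb.Monic := minpoly.monic hint
  have hpbs : pb.Separable := Algebra.IsSeparable.isSeparable (ResidueField A) yb
  have hlifts : pb ∈ Polynomial.lifts (algebraMap A (ResidueField A)) := by
    obtain ⟨P₀, hP₀⟩ := Polynomial.map_surjective (algebraMap A (ResidueField A))
      residue_surjective pb
    exact (Polynomial.mem_lifts _).mpr ⟨P₀, hP₀⟩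
  obtain ⟨P, hP, -, hPm⟩ := Polynomial.lifts_and_natDegree_eq_and_monic hlifts hpbm
  -- reduction of values
  have hres : ∀ (Q : A[X]) (x : S), residue S (aeval x Q) = aeval (residue S x) Q := by
    intro Q x
    exact (Polynomial.aeval_algHom_apply (IsScalarTower.toAlgHom A S (ResidueField S)) x Q).symm
  have h1 : aeval yb P = 0 := by
    rw [← Polynomial.aeval_map_algebraMap (ResidueField A), hP]
    exact minpoly.aeval _ _
  have h2 : aeval yb (derivative P) ≠ 0 := by
    rw [← Polynomial.aeval_map_algebraMap (ResidueField A), ← Polynomial.derivative_map, hP]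
    exact hpbs.aeval_derivative_ne_zero (minpoly.aeval _ _)
  -- the henselian property of `H`
  let PH : H[X] := P.map (algebraMap A H)
  have hcoe : ∀ (Q : A[X]) (x : H), (((Q.map (algebraMap A H)).eval x : H) : S) =
      aeval (x : S) Q := by
    intro Q x
    rw [Polynomial.eval_map_algebraMap, Subalgebra.aeval_coe]
  have h0' : PH.eval y ∈ maximalIdeal H := by
    rw [mem_maximalIdeal, mem_nonunits_iff]
    intro h
    have h3 : IsUnit ((PH.eval y : H) : S) := h.map H.val
    rw [hcoe] at h3
    have h4 : IsUnit (residue S (aeval (y : S) P)) := h3.map (residue S)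
    rw [hres, h1] at h4
    exact not_isUnit_zero h4
  have hu' : IsUnit (PH.derivative.eval y) := by
    apply isUnit_of_isUnit_coe A S H
    have h3 : PH.derivative = (derivative P).map (algebraMap A H) := Polynomial.derivative_map _ _
    rw [h3, hcoe]
    by_contra hnu
    have h4 : residue S (aeval (y : S) (derivative P)) = 0 :=
      (residue_eq_zero_iff _).mpr hnu
    rw [hres] at h4
    exact h2 h4
  obtain ⟨a, ha, hay⟩ := HenselianLocalRing.is_henselian PH (hPm.map _) y h0' hu'
  have hay' : (a : S) - (y : S) ∈ maximalIdeal S := by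
    rw [mem_maximalIdeal, mem_nonunits_iff]
    intro h
    exact hay (isUnit_of_isUnit_coe A S H (a - y) h)
  have hPa : aeval (a : S) P = 0 := by
    rw [← hcoe, ha]
    rfl
  obtain ⟨E, hE⟩ := exists_good A S H
  let PE : StandardEtalePair E :=
    ⟨P.map (algebraMap A E), hPm.map _, (P.map (algebraMap A E)).derivative, ⟨1, 0, 1, by ring⟩⟩
  have hmap : PE.HasMap (a : S) := by
    constructor
    · change aeval (a : S) (P.map (algebraMap A E)) = 0
      rw [Polynomial.aeval_map_algebraMap]
      exact hPa
    · change IsUnit (aeval (a : S) (P.map (algebraMap A E)).derivative)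
      rw [Polynomial.derivative_map, Polynomial.aeval_map_algebraMap]
      by_contra hnu
      have h4 : residue S (aeval (a : S) (derivative P)) = 0 :=
        (residue_eq_zero_iff _).mpr hnu
      rw [hres] at h4
      have h5 : residue S (a : S) = yb := by
        have : residue S ((a : S) - (y : S)) = 0 := (residue_eq_zero_iff _).mpr hay'
        rw [map_sub, sub_eq_zero] at this
        exact this
      rw [h5] at h4
      exact h2 h4
  obtain ⟨E₂, hE₂, h12, haE₂⟩ := hE.adjoin PE (a : S) a.2 hmap
  refine ⟨⟨(a : S), hE₂.le_unionGood haE₂⟩, ?_⟩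
  have : (y : S) - (a : S) = -((a : S) - (y : S)) := by ring
  change (y : S) - (a : S) ∈ maximalIdeal S
  rw [this]
  exact (maximalIdeal S).neg_mem hay'

end Groth.Agent.H14.HensProp.HensUnionS
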