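import Mathlib
import Groth.Agent.H14.HensProp.HensUnionS2
import Groth.Agent.H14.HensProp.HhToHsh
import Groth.Agent.H14.HensProp.StrictUni1
import Groth.Agent.H78.HensQF.Forward
import Groth.Agent.H3.StrictHensMaxIdeal2
import Groth.Agent.H3.StrictHensUnion
import Groth.Agent.H3.StrictHensUnique

/-!
# A henselian local subalgebra of a strict henselization over which it is flat is the union of
its essentially étale local subalgebras
-/

set_option autoImplicit false
set_option linter.style.haveILetI false
set_option linter.unusedSectionVars false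
universe u

namespace Groth.Agent.H14.HensProp.HensUnionS

open IsLocalRing TensorProduct Groth.Agent.H3.UnionEtale

variable (A S : Type u) [CommRing A] [IsLocalRing A]
  [CommRing S] [IsLocalRing S] [Algebra A S] [IsLocalHom (algebraMap A S)]
  [Hensel.IsStrictHenselization A S]
  (H : Subalgebra A S) [IsLocalRing H] [IsLocalHom (algebraMap H S)]

/-- the union of good subalgebras is a union of étale images -/
theorem isUnion_unionGood : IsUnion A (unionGood A S H) := by
  rintro ⟨x, E, hE, hxE⟩
  obtain ⟨hEH, hEloc, hEet⟩ := hE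
  letI := hEloc
  obtain ⟨C, _, _, hC, φ, hφ⟩ := EssEtSH.isUnion hEet ⟨x, hxE⟩
  have hle : E ≤ unionGood A S H := Good.le_unionGood ⟨hEH, hEloc, hEet⟩
  refine ⟨C, inferInstance, inferInstance, hC, (Subalgebra.inclusion hle).comp φ, ?_⟩
  rintro _ rfl
  obtain ⟨c, hc⟩ := hφ rfl
  exact ⟨c, by
    change Subalgebra.inclusion hle (φ c) = _
    rw [hc]
    rfl⟩

/-- over a henselian local ring, a local algebra which is a union of étale images is integral -/
theorem isIntegral_of_isUnion (B : Type u) [CommRing B] [HenselianLocalRing B] [Algebra B S]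
    [IsLocalHom (algebraMap B S)] (hU : IsUnion B S) (x : S) : IsIntegral B x := by
  obtain ⟨C, _, _, hC, φ, hφ⟩ := hU x
  obtain ⟨c, hc⟩ := hφ rfl
  let q : Ideal C := (maximalIdeal S).comap φ
  haveI hqp : q.IsPrime := Ideal.comap_isPrime _ _
  haveI : q.LiesOver (maximalIdeal B) := by
    constructor
    have h1 : (q.comap (algebraMap B C)) = (maximalIdeal S).comap (algebraMap B S) := by
      ext b
      change φ (algebraMap B C b) ∈ maximalIdeal S ↔ algebraMap B S b ∈ maximalIdeal S
      rw [φ.commutes]
    change maximalIdeal B = q.comap (algebraMap B C)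
    rw [h1]
    have h2 : (maximalIdeal S).comap (algebraMap B S) = maximalIdeal B :=
      ((local_hom_TFAE (algebraMap B S)).out 0 4).mp ‹IsLocalHom (algebraMap B S)›
    exact h2.symm
  haveI : Algebra.FiniteType B C := inferInstance
  haveI : Module.Finite B (Localization.AtPrime q) :=
    Groth.Agent.H78.HensQF.finite_atPrime_of_henselian B C q
  have hunits : ∀ y : q.primeCompl, IsUnit (φ y) := by
    intro y
    have := y.2
    change (y : C) ∉ (maximalIdeal S).comap φ at this
    rw [Ideal.mem_comap, mem_maximalIdeal, mem_nonunits_iff, not_not] at this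
    exact this
  let ψ : Localization.AtPrime q →ₐ[B] S :=
    IsLocalization.liftAlgHom (M := q.primeCompl) (f := φ) hunits
  have hψ : ψ (algebraMap C (Localization.AtPrime q) c) = x := by
    rw [← hc]
    exact IsLocalization.lift_eq hunits c
  rw [← hψ]
  exact (Algebra.IsIntegral.isIntegral (R := B) _).map ψ

/-- **Main theorem**: `H` is the union of its good subalgebras -/
theorem le_unionGood [hH : HenselianLocalRing H] [Module.Flat H S] : H ≤ unionGood A S H := by
  classical
  have hS : Hensel.IsStrictHenselization A S := inferInstance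
  haveI : Module.FaithfullyFlat A S := Groth.Agent.H3.SH.faithfullyFlat A hS
  haveI hH₁ : HenselianLocalRing (unionGood A S H) := henselian_unionGood A S H
  have hle : unionGood A S H ≤ H := unionGood_le A S H
  letI algH₁H : Algebra (unionGood A S H) H := (Subalgebra.inclusion hle).toRingHom.toAlgebra
  have hj : ∀ x : unionGood A S H, ((algebraMap (unionGood A S H) H x : H) : S) = (x : S) :=
    fun _ => rfl
  haveI : IsScalarTower (unionGood A S H) H S := IsScalarTower.of_algebraMap_eq (fun x => rfl)
  haveI : IsScalarTower A (unionGood A S H) H := IsScalarTower.of_algebraMap_eq (fun a => rfl)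
  -- `S` is faithfully flat over the union
  have hU : IsUnion A S := Groth.Agent.H3.StrictHensUnion.isUnion
  have hU₁ : IsUnion (unionGood A S H) S := HhToHsh.isUnion_of_tower (A := A) hU
  haveI : Module.Flat (unionGood A S H) S := (isUnion_unionGood A S H).flat_of_flat S
  haveI : Module.FaithfullyFlat (unionGood A S H) S := Module.FaithfullyFlat.of_flat_of_isLocalHom
  -- `S` is integral over the union
  haveI : Algebra.IsIntegral (unionGood A S H) S :=
    ⟨fun x => isIntegral_of_isUnion S (unionGood A S H) hU₁ x⟩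
  -- the tensor product
  let μ : H ⊗[unionGood A S H] S →ₐ[H] S :=
    Algebra.TensorProduct.lift (Algebra.ofId H S) (AlgHom.id (unionGood A S H) S)
      (fun _ _ => Commute.all _ _)
  have hμ : ∀ (h : H) (s : S), μ (h ⊗ₜ s) = (h : S) * s := by
    intro h s
    simp only [μ, Algebra.TensorProduct.lift_tmul]
    rfl
  have hUP : IsUnion H (H ⊗[unionGood A S H] S) :=
    StrictUni.isUnion_baseChange (unionGood A S H) S H hU₁
  letI algPS : Algebra (H ⊗[unionGood A S H] S) S := μ.toRingHom.toAlgebra
  have halg : ∀ z, algebraMap (H ⊗[unionGood A S H] S) S z = μ z := fun _ => rfl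
  have htow : ∀ h : H, algebraMap H S h =
      algebraMap (H ⊗[unionGood A S H] S) S (algebraMap H (H ⊗[unionGood A S H] S) h) := by
    intro h
    rw [halg, Algebra.TensorProduct.algebraMap_apply, Algebra.algebraMap_self, RingHom.id_apply,
      hμ, mul_one]
    rfl
  haveI : IsScalarTower H (H ⊗[unionGood A S H] S) S := IsScalarTower.of_algebraMap_eq htow
  haveI : Module.Flat (H ⊗[unionGood A S H] S) S := hUP.flat_of_flat S
  -- the tensor product is local
  have hmemH : ∀ m : H, (m : S) ∈ maximalIdeal S → m ∈ maximalIdeal H := by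
    intro m hm
    rw [mem_maximalIdeal, mem_nonunits_iff]
    intro h
    exact hm (h.map H.val)
  let mP : Ideal (H ⊗[unionGood A S H] S) :=
    (maximalIdeal H).map (algebraMap H (H ⊗[unionGood A S H] S))
  have hclaimA : ∀ z : H ⊗[unionGood A S H] S, ∃ t : S,
      z - (1 : H) ⊗ₜ[unionGood A S H] t ∈ mP := by
    intro z
    induction z using TensorProduct.induction_on with
    | zero => exact ⟨0, by rw [TensorProduct.tmul_zero, sub_zero]; exact mP.zero_mem⟩
    | tmul h s =>
      obtain ⟨y₁, hy₁⟩ := exists_sub_mem A S H h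
      refine ⟨y₁ • s, ?_⟩
      have h1 : (1 : H) ⊗ₜ[unionGood A S H] (y₁ • s) =
          (algebraMap (unionGood A S H) H y₁) ⊗ₜ[unionGood A S H] s := by
        rw [← TensorProduct.smul_tmul, Algebra.smul_def, mul_one]
      rw [h1, ← TensorProduct.sub_tmul]
      have h2 : h - algebraMap (unionGood A S H) H y₁ ∈ maximalIdeal H := hmemH _ hy₁
      have h3 : (h - algebraMap (unionGood A S H) H y₁) ⊗ₜ[unionGood A S H] s =
          algebraMap H (H ⊗[unionGood A S H] S) (h - algebraMap (unionGood A S H) H y₁) *
            ((1 : H) ⊗ₜ[unionGood A S H] s) := by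
        rw [Algebra.TensorProduct.algebraMap_apply, Algebra.algebraMap_self, RingHom.id_apply,
          Algebra.TensorProduct.tmul_mul_tmul, mul_one, one_mul]
      rw [h3]
      exact mP.mul_mem_right _ (Ideal.mem_map_of_mem _ h2)
    | add x y hx hy =>
      obtain ⟨t₁, h₁⟩ := hx
      obtain ⟨t₂, h₂⟩ := hy
      refine ⟨t₁ + t₂, ?_⟩
      rw [TensorProduct.tmul_add]
      have : x + y - ((1 : H) ⊗ₜ[unionGood A S H] t₁ + (1 : H) ⊗ₜ[unionGood A S H] t₂) =
          (x - (1 : H) ⊗ₜ[unionGood A S H] t₁) + (y - (1 : H) ⊗ₜ[unionGood A S H] t₂) := by ring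
      rw [this]
      exact mP.add_mem h₁ h₂
  have hclaimB : ∀ t : S, t ∈ maximalIdeal S → (1 : H) ⊗ₜ[unionGood A S H] t ∈ mP := by
    intro t ht
    have hmS : (maximalIdeal A).map (algebraMap A S) = maximalIdeal S :=
      Groth.Agent.H3.SH.map_maximalIdeal_eq_of_isStrictHenselization A hS
    rw [← hmS] at ht
    have hle' : (maximalIdeal A).map (algebraMap A S) ≤ mP.comap
        (Algebra.TensorProduct.includeRight : S →ₐ[unionGood A S H] H ⊗[unionGood A S H] S) := by
      rw [Ideal.map_le_iff_le_comap]
      intro a ha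
      change (1 : H) ⊗ₜ[unionGood A S H] (algebraMap A S a) ∈ mP
      have h1 : (1 : H) ⊗ₜ[unionGood A S H] (algebraMap A S a) =
          algebraMap H (H ⊗[unionGood A S H] S) (algebraMap A H a) := by
        have h2 : algebraMap A S a = (algebraMap A (unionGood A S H) a) • (1 : S) := by
          rw [Algebra.smul_def, mul_one]
          rfl
        rw [h2, ← TensorProduct.smul_tmul, Algebra.smul_def, mul_one,
          Algebra.TensorProduct.algebraMap_apply, Algebra.algebraMap_self, RingHom.id_apply]
        rfl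
      rw [h1]
      refine Ideal.mem_map_of_mem _ (hmemH _ ?_)
      exact map_nonunit (algebraMap A S) a ha
    exact hle' ht
  have hμmP : ∀ w ∈ mP, μ w ∈ maximalIdeal S := by
    have hle' : mP ≤ (maximalIdeal S).comap μ.toRingHom := by
      rw [Ideal.map_le_iff_le_comap]
      intro m hm
      change μ (algebraMap H (H ⊗[unionGood A S H] S) m) ∈ maximalIdeal S
      rw [μ.commutes]
      exact map_nonunit (algebraMap H S) m hm
    exact fun w hw => hle' hw
  have hμsurj : Function.Surjective μ := fun s => ⟨(1 : H) ⊗ₜ s, by rw [hμ]; simp⟩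
  let n₀ : Ideal (H ⊗[unionGood A S H] S) := (maximalIdeal S).comap μ.toRingHom
  have hn₀max : n₀.IsMaximal := Ideal.comap_isMaximal_of_surjective μ.toRingHom hμsurj
  have hn₀le : n₀ ≤ mP := by
    intro z hz
    obtain ⟨t, ht⟩ := hclaimA z
    have h1 : μ z = t + μ (z - (1 : H) ⊗ₜ[unionGood A S H] t) := by
      rw [map_sub, hμ]
      simp
    have h2 : t ∈ maximalIdeal S := by
      have h3 : t = μ z - μ (z - (1 : H) ⊗ₜ[unionGood A S H] t) := by rw [h1]; ring
      rw [h3]
      exact (maximalIdeal S).sub_mem hz (hμmP _ ht)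
    have h4 : z = (z - (1 : H) ⊗ₜ[unionGood A S H] t) + (1 : H) ⊗ₜ[unionGood A S H] t := by ring
    rw [h4]
    exact mP.add_mem ht (hclaimB t h2)
  haveI : Algebra.IsIntegral H (H ⊗[unionGood A S H] S) := inferInstance
  have hmax : ∀ n : Ideal (H ⊗[unionGood A S H] S), n.IsMaximal → n = n₀ := by
    intro n hn
    haveI := hn
    have h1 : (n.comap (algebraMap H (H ⊗[unionGood A S H] S))).IsMaximal :=
      Ideal.isMaximal_comap_of_isIntegral_of_isMaximal n
    have h2 : n.comap (algebraMap H (H ⊗[unionGood A S H] S)) = maximalIdeal H :=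
      IsLocalRing.eq_maximalIdeal h1
    have h3 : mP ≤ n := by
      rw [Ideal.map_le_iff_le_comap, h2]
    exact (hn₀max.eq_of_le hn.ne_top (hn₀le.trans h3)).symm
  haveI : IsLocalRing (H ⊗[unionGood A S H] S) :=
    IsLocalRing.of_unique_max_ideal ⟨n₀, hn₀max, hmax⟩
  have hn₀eq : maximalIdeal (H ⊗[unionGood A S H] S) = n₀ :=
    hmax _ (IsLocalRing.maximalIdeal.isMaximal _)
  haveI : IsLocalHom (algebraMap (H ⊗[unionGood A S H] S) S) := by
    constructor
    intro z hz
    by_contra hnu
    have h1 : z ∈ maximalIdeal (H ⊗[unionGood A S H] S) := hnu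
    rw [hn₀eq] at h1
    exact h1 hz
  haveI : Module.FaithfullyFlat (H ⊗[unionGood A S H] S) S :=
    Module.FaithfullyFlat.of_flat_of_isLocalHom
  have hμinj : Function.Injective μ :=
    FaithfulSMul.algebraMap_injective (H ⊗[unionGood A S H] S) S
  -- descent
  intro y hy
  have heq : (⟨y, hy⟩ : H) ⊗ₜ[unionGood A S H] (1 : S) = (1 : H) ⊗ₜ[unionGood A S H] y := by
    apply hμinj
    rw [hμ, hμ]
    simp
  let N : Submodule (unionGood A S H) H := LinearMap.range (Algebra.linearMap (unionGood A S H) H)
  let ρ : H →ₗ[unionGood A S H] H ⧸ N := N.mkQ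
  have h1 := congrArg (LinearMap.rTensor S ρ) heq
  rw [LinearMap.rTensor_tmul, LinearMap.rTensor_tmul] at h1
  have hρ1 : ρ 1 = 0 := (Submodule.Quotient.mk_eq_zero N).mpr ⟨1, by
    rw [Algebra.linearMap_apply, map_one]⟩
  rw [hρ1, TensorProduct.zero_tmul] at h1
  have h2 : TensorProduct.mk (unionGood A S H) S (H ⧸ N) 1 (ρ ⟨y, hy⟩) = 0 := by
    have := congrArg (TensorProduct.comm (unionGood A S H) (H ⧸ N) S) h1
    simpa using this
  have h3 : ρ ⟨y, hy⟩ = 0 := by
    apply Module.FaithfullyFlat.tensorProduct_mk_injective (A := unionGood A S H) (B := S) (H ⧸ N)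
    rw [h2, map_zero]
  obtain ⟨x, hx⟩ := (Submodule.Quotient.mk_eq_zero N).mp h3
  have h4 : (x : S) = y := congrArg Subtype.val hx
  rw [← h4]
  exact x.2

end Groth.Agent.H14.HensProp.HensUnionS
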