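import Mathlib
import Groth.Prelude.Def_PBC
import Groth.Agent.H4.IndCover
import Groth.Agent.H14.HensProp.FibreSep2

set_option autoImplicit false
set_option linter.style.haveILetI false
universe u

namespace Groth.Agent.H14.HensProp.IndEtFibre

open TensorProduct CategoryTheory CategoryTheory.Limits

attribute [local instance] Groth.Agent.H4.IndCover.algStage

/-- an ind-étale algebra is a union of étale images -/
theorem inEtImage_of_isIndEtale {A B : Type u} [CommRing A] [CommRing B] [Algebra A B]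
    (hB : EtPBC.IsIndEtale A B) (x : B) : InEtImage A B {x} := by
  obtain ⟨J, hJ, hJf, D, c, hc, het, ⟨e⟩⟩ := hB
  obtain ⟨j, y, hy⟩ := Groth.Agent.H4.IndCover.surj D c hc e x
  refine ⟨(D.obj j).right, _, Groth.Agent.H4.IndCover.algStage D j, het j,
    Groth.Agent.H4.IndCover.toB D c e j, ?_⟩
  rintro _ rfl
  exact ⟨y, hy⟩

section

variable {A B : Type u} [CommRing A] [CommRing B] [Algebra A B] [IsNoetherianRing B]
  (hU : ∀ x : B, InEtImage A B {x}) (p : Ideal A) [p.IsPrime]

include hU in
theorem finite_primesOver : {q : PrimeSpectrum B | q.asIdeal.LiesOver p}.Finite := by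
  haveI : IsNoetherianRing (p.Fiber B) := Groth.Agent.H26.SkFlat.isNoetherianRing_fiber B p
  have hUF := inEtImage_baseChange A B hU p.ResidueField
  haveI hdim : Ring.KrullDimLE 0 (p.Fiber B) :=
    Ring.krullDimLE_zero_iff.mpr fun Q hQ => isMaximal_of_inEtImage hUF Q
  haveI hart : IsArtinianRing (p.Fiber B) := IsNoetherianRing.isArtinianRing_of_krullDimLE_zero
  haveI : Finite (PrimeSpectrum (p.Fiber B)) := inferInstance
  haveI : Finite (p.primesOver B) :=
    Finite.of_equiv _ (PrimeSpectrum.primesOverOrderIsoFiber A B p).symm.toEquiv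
  have h1 : (p.primesOver B).Finite := Set.toFinite _
  refine Set.Finite.of_finite_image (f := fun q : PrimeSpectrum B => q.asIdeal) (h1.subset ?_) ?_
  · rintro _ ⟨q, hq, rfl⟩
    exact ⟨q.2, hq⟩
  · intro q₁ _ q₂ _ h
    exact PrimeSpectrum.ext h

omit [IsNoetherianRing B] in
include hU in
theorem isSeparable_residueField (q : Ideal B) [q.IsPrime] [q.LiesOver p] :
    @Algebra.IsSeparable p.ResidueField q.ResidueField _ _
      (Ideal.ResidueField.mapₐ p q (Algebra.ofId A B) (q.over_def p)).toRingHom.toAlgebra := by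
  letI alg : Algebra p.ResidueField q.ResidueField :=
    (Ideal.ResidueField.mapₐ p q (Algebra.ofId A B) (q.over_def p)).toRingHom.toAlgebra
  haveI : IsScalarTower A p.ResidueField q.ResidueField :=
    IsScalarTower.of_algebraMap_eq fun a =>
      ((Ideal.ResidueField.mapₐ p q (Algebra.ofId A B) (q.over_def p)).commutes a).symm
  have hUF := inEtImage_baseChange A B hU p.ResidueField
  let Φ : p.Fiber B →ₐ[p.ResidueField] q.ResidueField :=
    Algebra.TensorProduct.lift (Algebra.ofId p.ResidueField q.ResidueField)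
      (IsScalarTower.toAlgHom A B q.ResidueField) (fun _ _ => Commute.all _ _)
  haveI hQ : (RingHom.ker Φ.toRingHom).IsPrime := RingHom.ker_isPrime _
  haveI hsep := isSeparable_quotient_of_inEtImage hUF (RingHom.ker Φ.toRingHom)
  haveI hmax := isMaximal_of_inEtImage hUF (RingHom.ker Φ.toRingHom)
  letI : Field (p.Fiber B ⧸ RingHom.ker Φ.toRingHom) := Ideal.Quotient.field _
  let Φbar : (p.Fiber B ⧸ RingHom.ker Φ.toRingHom) →ₐ[p.ResidueField] q.ResidueField :=
    Ideal.kerLiftAlg Φ
  have hinj : Function.Injective Φbar := Ideal.kerLiftAlg_injective Φ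
  have hB : ∀ b : B, ∃ u, Φbar u = algebraMap B q.ResidueField b := by
    intro b
    refine ⟨Ideal.Quotient.mk _ (1 ⊗ₜ b), ?_⟩
    change Φ (1 ⊗ₜ b) = _
    rw [Algebra.TensorProduct.lift_tmul, map_one, one_mul]
    rfl
  have hsurj : Function.Surjective Φbar := by
    intro x
    obtain ⟨a, s, -, rfl⟩ := IsFractionRing.div_surjective (A := B ⧸ q) x
    obtain ⟨a, rfl⟩ := Ideal.Quotient.mk_surjective a
    obtain ⟨s, rfl⟩ := Ideal.Quotient.mk_surjective s
    obtain ⟨u, hu⟩ := hB a
    obtain ⟨v, hv⟩ := hB s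
    refine ⟨u / v, ?_⟩
    rw [map_div₀, hu, hv]
    rfl
  refine ⟨fun x => ?_⟩
  obtain ⟨t, rfl⟩ := hsurj x
  have h1 : IsSeparable p.ResidueField t := Algebra.IsSeparable.isSeparable _ t
  unfold IsSeparable at h1 ⊢
  rwa [minpoly.algHom_eq Φbar hinj t]

include hU in
theorem main : {q : PrimeSpectrum B | q.asIdeal.LiesOver p}.Finite ∧ IsReduced (p.Fiber B) ∧
    ringKrullDim (p.Fiber B) ≤ 0 ∧
      ∀ (q : Ideal B) [q.IsPrime] [q.LiesOver p],
        @Algebra.IsSeparable p.ResidueField q.ResidueField _ _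
          (Ideal.ResidueField.mapₐ p q (Algebra.ofId A B) (q.over_def p)).toRingHom.toAlgebra := by
  have hUF := inEtImage_baseChange A B hU p.ResidueField
  refine ⟨finite_primesOver hU p, isReduced_of_inEtImage hUF, ?_,
    fun q _ _ => isSeparable_residueField hU p q⟩
  haveI hdim : Ring.KrullDimLE 0 (p.Fiber B) :=
    Ring.krullDimLE_zero_iff.mpr fun Q hQ => isMaximal_of_inEtImage hUF Q
  exact_mod_cast (Ring.krullDimLE_iff (n := 0) (R := p.Fiber B)).mp hdim

end

end Groth.Agent.H14.HensProp.IndEtFibre
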