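import Mathlib
import Groth.Prelude.Def_EssEt
import Groth.Prelude.Def_EGA4b
import Groth.Agent.H14.HensProp.NormEquiv
import Groth.Agent.H14.HensProp.NormalSemilocal
import Groth.Agent.H14.HensProp.EssAT2
import Groth.Agent.H14.HensProp.EssEtSH3
import Groth.Agent.H14.HensProp.NormBC3
import Groth.Agent.H78.NormSemilocal.Main
import Groth.Agent.S2654

/-!
# S16449: an intermediate local ring with semilocal normalization is essentially of finite type
-/

set_option autoImplicit false
set_option linter.style.haveILetI false
set_option linter.unusedSectionVars false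
universe u

namespace Groth.Agent.H14.HensProp.Main16449

open TensorProduct IsLocalRing

/-- **S16449.** -/
theorem main16449
    (A E : Type u) [CommRing A] [IsLocalRing A] [IsReduced A] (hA : EGA4.IsExcellent A)
    [CommRing E] [IsLocalRing E] [Algebra A E] [IsLocalHom (algebraMap A E)]
    (hE : EGA4loc.IsEssentiallyEtale A E)
    (D : Subalgebra A E) [IsLocalRing D] [IsLocalHom (algebraMap D E)]
    (D' : Subalgebra A (FractionRing E))
    (hD' : ∀ x : (FractionRing E), x ∈ D' ↔ (IsIntegral D x ∧
      ∃ a ∈ nonZeroDivisors A, ∃ d ∈ D, algebraMap A (FractionRing E) a * x = algebraMap E (FractionRing E) d))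
    (hle : D' ≤ ((integralClosure E (FractionRing E)).restrictScalars A))
    (hfin : {N : Ideal D' | N.IsMaximal}.Finite)
    (hsurj : ∀ N : Ideal D', N.IsMaximal →
      ∃ M : Ideal ((integralClosure E (FractionRing E)).restrictScalars A), M.IsMaximal ∧ M.comap (Subalgebra.inclusion hle) = N) :
    Algebra.EssFiniteType A D := by
  classical
  haveI : IsNoetherianRing A := hA.1
  have hN : CAlg.IsNagata A := Groth.Agent.S2654.result A ⟨hA.1, hA.2.2.1, hA.2.2.2⟩
  have hmin : (minimalPrimes A).Finite := minimalPrimes.finite_of_isNoetherianRing A
  obtain ⟨hflat, hqf⟩ := Groth.Agent.H78.TotFrac.flat_quasiFinite_of_isEssentiallyEtale A E hE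
  obtain ⟨hEN, hER⟩ := Groth.Agent.H78.NormSemilocal.noetherian_reduced_of_isEssentiallyEtale A E hE
  haveI hloc : IsLocalization ((nonZeroDivisors A).map (algebraMap A E)) (FractionRing E) :=
    (Groth.Agent.H78.TotFrac.main_abstract A E hmin).1
  have hEF : Function.Injective (algebraMap E (FractionRing E)) :=
    IsFractionRing.injective E (FractionRing E)
  have hEmin : (minimalPrimes E).Finite := minimalPrimes.finite_of_isNoetherianRing E
  -- the normalization of `A`
  haveI hfinA' : Module.Finite A (integralClosure A (FractionRing A)) :=
    Groth.Agent.H38.finite_integralClosure fun p =>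
      hN.2 p.1.asIdeal (Groth.Agent.H38.KK p) inferInstance
  haveI : IsNoetherianRing (integralClosure A (FractionRing A)) := IsNoetherianRing.of_finite A _
  -- properties of `E`
  have hU := EssEtSH.isUnion hE
  haveI : Algebra.EssFiniteType A E := EssEtSH.essFiniteType hE
  haveI : Algebra.FormallyUnramified A E := EssEtSH.formallyUnramified hE
  have hnormT : ∀ (M : Ideal (E ⊗[A] (integralClosure A (FractionRing A)))) [M.IsMaximal],
      IsDomain (Localization.AtPrime M) ∧ IsIntegrallyClosed (Localization.AtPrime M) :=
    fun M _ => NormBC.normal_tensor_of_isUnion A E hU M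
  obtain ⟨e₀, he₀⟩ := NormBC.exists_algEquiv A E hnormT
  -- the map `A' → D'`
  have hψmem : ∀ x : integralClosure A (FractionRing A),
      ((NormBC.fracMap A E).comp (integralClosure A (FractionRing A)).val) x ∈ D' := by
    intro x
    rw [hD']
    constructor
    · have h1 : IsIntegral A (NormBC.fracMap A E (x : FractionRing A)) :=
        x.2.map (NormBC.fracMap A E)
      exact h1.tower_top
    · obtain ⟨⟨b, a⟩, hab⟩ := IsLocalization.surj (nonZeroDivisors A) (x : FractionRing A)
      refine ⟨a, a.2, algebraMap A E b, D.algebraMap_mem b, ?_⟩
      change algebraMap A (FractionRing E) a * NormBC.fracMap A E (x : FractionRing A) = _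
      rw [← (NormBC.fracMap A E).commutes, ← map_mul, mul_comm, hab, AlgHom.commutes,
        ← IsScalarTower.algebraMap_apply]
  let ψ : integralClosure A (FractionRing A) →ₐ[A] D' :=
    AlgHom.codRestrict ((NormBC.fracMap A E).comp (integralClosure A (FractionRing A)).val) D' hψmem
  have hψcoe : ∀ x, ((ψ x : D') : FractionRing E) = NormBC.fracMap A E (x : FractionRing A) :=
    fun _ => rfl
  letI algA'D' : Algebra (integralClosure A (FractionRing A)) D' := ψ.toRingHom.toAlgebra
  haveI : IsScalarTower A (integralClosure A (FractionRing A)) D' :=
    IsScalarTower.of_algebraMap_eq (fun a => (ψ.commutes a).symm)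
  letI algD'T : Algebra D' ((integralClosure E (FractionRing E)).restrictScalars A) :=
    (Subalgebra.inclusion hle).toRingHom.toAlgebra
  letI algA'T : Algebra (integralClosure A (FractionRing A))
      ((integralClosure E (FractionRing E)).restrictScalars A) :=
    ((algebraMap D' ((integralClosure E (FractionRing E)).restrictScalars A)).comp
      (algebraMap (integralClosure A (FractionRing A)) D')).toAlgebra
  haveI : IsScalarTower (integralClosure A (FractionRing A)) D'
      ((integralClosure E (FractionRing E)).restrictScalars A) := IsScalarTower.of_algebraMap_eq' rfl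
  -- `E' ≅ A' ⊗ E` over `A'`
  let Φr : (integralClosure A (FractionRing A)) ⊗[A] E ≃+*
      ((integralClosure E (FractionRing E)).restrictScalars A) :=
    (Algebra.TensorProduct.comm A (integralClosure A (FractionRing A)) E).toRingEquiv.trans
      e₀.toRingEquiv
  have hΦr : ∀ x : integralClosure A (FractionRing A),
      Φr (algebraMap (integralClosure A (FractionRing A))
        ((integralClosure A (FractionRing A)) ⊗[A] E) x) =
      algebraMap (integralClosure A (FractionRing A))
        ((integralClosure E (FractionRing E)).restrictScalars A) x := by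
    intro x
    apply Subtype.ext
    change ((e₀ ((1 : E) ⊗ₜ[A] x) : integralClosure E (FractionRing E)) : FractionRing E) =
      NormBC.fracMap A E (x : FractionRing A)
    rw [he₀, NormBC.toFrac_tmul, map_one, one_mul]
  let Φ : (integralClosure A (FractionRing A)) ⊗[A] E ≃ₐ[integralClosure A (FractionRing A)]
      ((integralClosure E (FractionRing E)).restrictScalars A) := AlgEquiv.ofRingEquiv hΦr
  haveI : Module.Flat (integralClosure A (FractionRing A))
      ((integralClosure E (FractionRing E)).restrictScalars A) :=
    Module.Flat.of_linearEquiv Φ.symm.toLinearEquiv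
  haveI : Algebra.EssFiniteType (integralClosure A (FractionRing A))
      ((integralClosure E (FractionRing E)).restrictScalars A) :=
    Algebra.EssFiniteType.of_surjective (R := integralClosure A (FractionRing A))
      (S := (integralClosure A (FractionRing A)) ⊗[A] E)
      (T := ((integralClosure E (FractionRing E)).restrictScalars A)) Φ.toAlgHom Φ.surjective
  haveI : Algebra.FormallyUnramified (integralClosure A (FractionRing A))
      ((integralClosure E (FractionRing E)).restrictScalars A) :=
    Algebra.FormallyUnramified.of_equiv (A := (integralClosure A (FractionRing A)) ⊗[A] E) Φ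
  -- normality and support idempotents of `D'`
  have hnorm : ∀ (N : Ideal D') [N.IsPrime],
      IsDomain (Localization.AtPrime N) ∧ IsIntegrallyClosed (Localization.AtPrime N) :=
    fun N _ => NormEquiv.normal_localization A E (FractionRing E) D hmin hEF D' hD' hEmin N
  have hsupp : ∀ x : D', ∃ e : D', e * e = e ∧ e * x = x ∧
      ∀ t : ((integralClosure E (FractionRing E)).restrictScalars A),
        t * algebraMap D' ((integralClosure E (FractionRing E)).restrictScalars A) x = 0 →
        t * algebraMap D' ((integralClosure E (FractionRing E)).restrictScalars A) e = 0 := by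
    intro x
    obtain ⟨e, he1, he2, he3⟩ :=
      NormEquiv.exists_support_idem A E (FractionRing E) D hmin hEF D' hD' hEmin x
    refine ⟨e, he1, he2, fun t ht => ?_⟩
    apply Subtype.ext
    exact he3 (t : FractionRing E) (congrArg Subtype.val ht)
  have hsurj' : ∀ N : Ideal D', N.IsMaximal →
      ∃ M : Ideal ((integralClosure E (FractionRing E)).restrictScalars A), M.IsPrime ∧
        M.comap (algebraMap D' ((integralClosure E (FractionRing E)).restrictScalars A)) = N := by
    intro N hN
    obtain ⟨M, hM, hMN⟩ := hsurj N hN
    exact ⟨M, hM.isPrime, hMN⟩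
  haveI h1 : Algebra.EssFiniteType (integralClosure A (FractionRing A)) D' :=
    NormalSemilocal.essFiniteType_of_normal_semilocal (integralClosure A (FractionRing A)) D'
      ((integralClosure E (FractionRing E)).restrictScalars A) hnorm hsupp hfin hsurj'
  haveI h2 : Algebra.EssFiniteType A D' :=
    Algebra.EssFiniteType.comp A (integralClosure A (FractionRing A)) D'
  -- `D → D'`
  have hιmem : ∀ d : D, ((IsScalarTower.toAlgHom A E (FractionRing E)).comp D.val) d ∈ D' := by
    intro d
    rw [hD']
    refine ⟨isIntegral_algebraMap, 1, one_mem _, d, d.2, ?_⟩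
    rw [map_one, one_mul]
    rfl
  let ι : D →ₐ[A] D' :=
    AlgHom.codRestrict ((IsScalarTower.toAlgHom A E (FractionRing E)).comp D.val) D' hιmem
  letI algDD' : Algebra D D' := ι.toRingHom.toAlgebra
  haveI : IsScalarTower A D D' := IsScalarTower.of_algebraMap_eq (fun a => (ι.commutes a).symm)
  have hinj : Function.Injective (algebraMap D D') := by
    intro x y hxy
    have h3 : algebraMap E (FractionRing E) (x : E) = algebraMap E (FractionRing E) (y : E) :=
      congrArg Subtype.val hxy
    exact Subtype.ext (hEF h3)
  let valD : D' →ₐ[D] FractionRing E :=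
    { D'.val.toRingHom with commutes' := fun d => rfl }
  haveI : Algebra.IsIntegral D D' := by
    refine ⟨fun x => ?_⟩
    rw [← isIntegral_algHom_iff valD Subtype.val_injective]
    exact ((hD' _).mp x.2).1
  exact EssAT.essFiniteType_of_isIntegral A D D' hinj

end Groth.Agent.H14.HensProp.Main16449
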