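import Mathlib
import Groth.Prelude.Def_EssEt
import Groth.Prelude.Def_EGA4b
import Groth.Agent.H14.HensProp.EtaleCritS
import Groth.Agent.H14.HensProp.HensUnionS3
import Groth.Agent.H14.HensProp.HhToHsh2
import Groth.Agent.H14.HensProp.Main16450
import Groth.Agent.H67.HenselFinite
import Groth.Agent.H3.HensUnion

/-!
# S16451: the henselization of an intermediate local ring is ind-essentially-étale iff the residual
field products agree
-/

set_option autoImplicit false
set_option linter.style.haveILetI false
set_option linter.unusedSectionVars false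
universe u

namespace Groth.Agent.H14.HensProp.Main16451

open TensorProduct IsLocalRing

/-- the direction `⇐` (only surjectivity is needed) -/
theorem backward
    (A S : Type u) [CommRing A] [IsLocalRing A] [IsReduced A] (hA : EGA4.IsExcellent A)
    [CommRing S] [IsLocalRing S] [Algebra A S] [IsLocalHom (algebraMap A S)]
    [Hensel.IsStrictHenselization A S] (D : Subalgebra A S) [IsLocalRing D]
    [IsLocalHom (algebraMap D S)]
    (Dh : Type u) [CommRing Dh] [IsLocalRing Dh] [Algebra D Dh] [IsLocalHom (algebraMap D Dh)]
    [Hensel.IsHenselization D Dh] [Algebra Dh S] [IsScalarTower D Dh S]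
    (A' D' : Subalgebra A (FractionRing S))
    (hA' : ∀ x : (FractionRing S), x ∈ A' ↔ (IsIntegral A x ∧
      ∃ a ∈ nonZeroDivisors A, ∃ b : A, algebraMap A (FractionRing S) a * x = algebraMap A (FractionRing S) b))
    (hD' : ∀ x : (FractionRing S), x ∈ D' ↔ (IsIntegral D x ∧
      ∃ a ∈ nonZeroDivisors A, ∃ d ∈ D, algebraMap A (FractionRing S) a * x = algebraMap S (FractionRing S) d))
    (hle : A' ≤ D') (ι : D →ₐ[A] D') (hι : ∀ d : D, (ι d : (FractionRing S)) = algebraMap S (FractionRing S) d)
    (hsurj : Function.Surjective ((Ideal.Quotient.mkₐ A (Ideal.jacobson (⊥ : Ideal D'))).comp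
          (Algebra.TensorProduct.productMap (Subalgebra.inclusion hle) ι))) :
    Function.Injective (algebraMap Dh S) ∧
        ∀ s : Finset S, (s : Set S) ⊆ Set.range (algebraMap Dh S) →
          ∃ E : Subalgebra A S, (s : Set S) ⊆ (E : Set S) ∧ (E : Set S) ⊆ Set.range (algebraMap Dh S) ∧
            ∃ _ : IsLocalRing E, EGA4loc.IsEssentiallyEtale A E := by
  classical
  haveI : IsNoetherianRing A := hA.1
  have hS : Hensel.IsStrictHenselization A S := inferInstance
  have hDh : Hensel.IsHenselization D Dh := inferInstance
  -- generation modulo the radical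
  have hgen : ∀ x : D', ∃ y ∈ Subring.closure
        ({z : D' | IsIntegral A (z : FractionRing S) ∧ ∃ a ∈ nonZeroDivisors A, ∃ b : A,
            algebraMap A (FractionRing S) a * (z : FractionRing S) =
              algebraMap A (FractionRing S) b} ∪
         {z : D' | ∃ d ∈ D, (z : FractionRing S) = algebraMap S (FractionRing S) d}),
        x - y ∈ Ideal.jacobson (⊥ : Ideal D') := by
    have hcl : ∀ z : A' ⊗[A] D,
        Algebra.TensorProduct.productMap (Subalgebra.inclusion hle) ι z ∈ Subring.closure
        ({z : D' | IsIntegral A (z : FractionRing S) ∧ ∃ a ∈ nonZeroDivisors A, ∃ b : A,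
            algebraMap A (FractionRing S) a * (z : FractionRing S) =
              algebraMap A (FractionRing S) b} ∪
         {z : D' | ∃ d ∈ D, (z : FractionRing S) = algebraMap S (FractionRing S) d}) := by
      intro z
      induction z using TensorProduct.induction_on with
      | zero => rw [map_zero]; exact Subring.zero_mem _
      | add z₁ z₂ h₁ h₂ =>
        rw [map_add]
        exact Subring.add_mem _ h₁ h₂
      | tmul a' d =>
        rw [Algebra.TensorProduct.productMap_apply_tmul]
        refine Subring.mul_mem _ (Subring.subset_closure (Or.inl ?_))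
          (Subring.subset_closure (Or.inr ?_))
        · exact (hA' _).mp a'.2
        · exact ⟨(d : S), d.2, hι d⟩
    intro x
    obtain ⟨z, hz⟩ := hsurj (Ideal.Quotient.mk _ x)
    have hz' : Ideal.Quotient.mk (Ideal.jacobson (⊥ : Ideal D'))
        (Algebra.TensorProduct.productMap (Subalgebra.inclusion hle) ι z) =
        Ideal.Quotient.mk _ x := hz
    rw [Ideal.Quotient.eq] at hz'
    refine ⟨Algebra.TensorProduct.productMap (Subalgebra.inclusion hle) ι z, hcl z, ?_⟩
    have h5 : x - Algebra.TensorProduct.productMap (Subalgebra.inclusion hle) ι z =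
        -(Algebra.TensorProduct.productMap (Subalgebra.inclusion hle) ι z - x) := by ring
    rw [h5]
    exact (Ideal.neg_mem_iff _).mpr hz'
  haveI hflatD : Module.Flat D S := EtaleCritS.flat A S D D' hD' hgen
  -- `Dh → S` is local and faithfully flat
  haveI hlocDh : IsLocalHom (algebraMap Dh S) := by
    refine ((IsLocalRing.local_hom_TFAE (algebraMap Dh S)).out 0 2).mpr ?_
    rw [← HhToHsh.map_maximalIdeal_henselization D Dh, Ideal.map_map,
      ← IsScalarTower.algebraMap_eq D Dh S]
    exact IsLocalRing.map_maximalIdeal_le (algebraMap D S)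
  have hpack := Groth.Agent.H3.HensUnion.package (R := D) (S := Dh) (Or.inl hDh)
  haveI : Module.Flat Dh S := hpack.1.flat_of_flat S
  haveI : Module.FaithfullyFlat Dh S := Module.FaithfullyFlat.of_flat_of_isLocalHom
  have hinj : Function.Injective (algebraMap Dh S) := FaithfulSMul.algebraMap_injective Dh S
  refine ⟨hinj, ?_⟩
  -- the image of `Dh`
  letI algADh : Algebra A Dh := ((algebraMap D Dh).comp (algebraMap A D)).toAlgebra
  haveI : IsScalarTower A D Dh := IsScalarTower.of_algebraMap_eq' rfl
  haveI : IsScalarTower A Dh S := IsScalarTower.of_algebraMap_eq (fun a => by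
    change algebraMap A S a = algebraMap Dh S (algebraMap D Dh (algebraMap A D a))
    rw [← IsScalarTower.algebraMap_apply D Dh S, ← IsScalarTower.algebraMap_apply A D S])
  let θA : Dh →ₐ[A] S := IsScalarTower.toAlgHom A Dh S
  let H : Subalgebra A S := θA.range
  let e : Dh ≃ₐ[A] H := AlgEquiv.ofInjective θA hinj
  have he : ∀ d : Dh, ((e d : H) : S) = algebraMap Dh S d := fun _ => rfl
  haveI : IsLocalRing H := RingEquiv.isLocalRing e.toRingEquiv
  haveI : IsLocalHom (algebraMap H S) := by
    constructor
    rintro ⟨x, d, rfl⟩ hx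
    have h1 : IsUnit (algebraMap Dh S d) := hx
    have h2 : IsUnit d := isUnit_of_map_unit (algebraMap Dh S) d h1
    exact h2.map e
  haveI : HenselianLocalRing Dh := hDh.henselian
  haveI : HenselianLocalRing H := Groth.Agent.H67.HenselFinite.henselian_of_ringEquiv e.toRingEquiv
  -- flatness over the image
  haveI : Module.Flat H S := by
    letI algHDh : Algebra H Dh := e.symm.toRingEquiv.toRingHom.toAlgebra
    haveI : IsScalarTower H Dh S := IsScalarTower.of_algebraMap_eq (fun h => by
      change (h : S) = algebraMap Dh S (e.symm h)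
      rw [← he, AlgEquiv.apply_symm_apply])
    let eH : H ≃ₐ[H] Dh := AlgEquiv.ofRingEquiv (f := e.symm.toRingEquiv) (fun x => rfl)
    haveI : Module.Flat H Dh := Module.Flat.of_linearEquiv eH.symm.toLinearEquiv
    exact Module.Flat.trans H Dh S
  have hmain : H ≤ HensUnionS.unionGood A S H := HensUnionS.le_unionGood A S H
  intro s hs
  have hs' : (s : Set S) ⊆ (HensUnionS.unionGood A S H : Set S) := by
    intro x hx
    obtain ⟨d, hd⟩ := hs hx
    exact hmain ⟨d, hd⟩
  obtain ⟨E, ⟨hEH, hEloc, hEet⟩, hsE⟩ := HensUnionS.exists_good_finset A S H s hs'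
  refine ⟨E, hsE, ?_, hEloc, hEet⟩
  intro x hx
  obtain ⟨d, hd⟩ := hEH hx
  exact ⟨d, hd⟩

end Groth.Agent.H14.HensProp.Main16451
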