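import Mathlib
import Groth.Prelude.Def_EssEt
import Groth.Prelude.Def_EGA4b
import Groth.Agent.H14.HensProp.Main16451
import Groth.Agent.H14.HensProp.Forward16451

/-!
# S16451: the direction `⇒`
-/

set_option autoImplicit false
set_option linter.style.haveILetI false
set_option linter.unusedSectionVars false
universe u

namespace Groth.Agent.H14.HensProp.Main16451

open TensorProduct IsLocalRing

/-- the direction `⇒` -/
theorem forward
    (A S : Type u) [CommRing A] [IsLocalRing A] [IsReduced A] (hA : EGA4.IsExcellent A)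
    [CommRing S] [IsLocalRing S] [Algebra A S] [IsLocalHom (algebraMap A S)]
    [Hensel.IsStrictHenselization A S] (D : Subalgebra A S) [IsLocalRing D]
    [IsLocalHom (algebraMap D S)]
    (Dh : Type u) [CommRing Dh] [IsLocalRing Dh] [Algebra D Dh] [IsLocalHom (algebraMap D Dh)]
    [Hensel.IsHenselization D Dh] [Algebra Dh S] [IsScalarTower D Dh S]
    (A' D' : Subalgebra A (FractionRing S))
    (hA' : ∀ x : (FractionRing S), x ∈ A' ↔ (IsIntegral A x ∧
      ∃ a ∈ nonZeroDivisors A, ∃ b : A, algebraMap A (FractionRing S) a * x = algebraMap A (FractionRing S) b))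
    (hD' : ∀ x : (FractionRing S), x ∈ D' ↔ (IsIntegral D x ∧
      ∃ a ∈ nonZeroDivisors A, ∃ d ∈ D, algebraMap A (FractionRing S) a * x = algebraMap S (FractionRing S) d))
    (hle : A' ≤ D') (ι : D →ₐ[A] D') (hι : ∀ d : D, (ι d : (FractionRing S)) = algebraMap S (FractionRing S) d)
    (hinj : Function.Injective (algebraMap Dh S))
    (hcov : ∀ s : Finset S, (s : Set S) ⊆ Set.range (algebraMap Dh S) →
          ∃ E : Subalgebra A S, (s : Set S) ⊆ (E : Set S) ∧ (E : Set S) ⊆ Set.range (algebraMap Dh S) ∧
            ∃ _ : IsLocalRing E, EGA4loc.IsEssentiallyEtale A E) :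
    ({N : Ideal D' | N.IsMaximal}.Finite ∧
        Function.Surjective ((Ideal.Quotient.mkₐ A (Ideal.jacobson (⊥ : Ideal D'))).comp
          (Algebra.TensorProduct.productMap (Subalgebra.inclusion hle) ι)) ∧
        RingHom.ker ((Ideal.Quotient.mkₐ A (Ideal.jacobson (⊥ : Ideal D'))).comp
          (Algebra.TensorProduct.productMap (Subalgebra.inclusion hle) ι)) =
          (Ideal.jacobson (⊥ : Ideal A')).map
              (Algebra.TensorProduct.includeLeft : A' →ₐ[A] A' ⊗[A] D) ⊔
            (maximalIdeal D).map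
              (Algebra.TensorProduct.includeRight : D →ₐ[A] A' ⊗[A] D)) := by
  classical
  have hS : Hensel.IsStrictHenselization A S := inferInstance
  have hDh : Hensel.IsHenselization D Dh := inferInstance
  haveI : Module.FaithfullyFlat A S := Groth.Agent.H3.SH.faithfullyFlat A hS
  haveI hlocDh : IsLocalHom (algebraMap Dh S) := by
    refine ((IsLocalRing.local_hom_TFAE (algebraMap Dh S)).out 0 2).mpr ?_
    rw [← HhToHsh.map_maximalIdeal_henselization D Dh, Ideal.map_map,
      ← IsScalarTower.algebraMap_eq D Dh S]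
    exact IsLocalRing.map_maximalIdeal_le (algebraMap D S)
  letI algADh : Algebra A Dh := ((algebraMap D Dh).comp (algebraMap A D)).toAlgebra
  haveI : IsScalarTower A D Dh := IsScalarTower.of_algebraMap_eq' rfl
  haveI : IsScalarTower A Dh S := IsScalarTower.of_algebraMap_eq (fun a => by
    change algebraMap A S a = algebraMap Dh S (algebraMap D Dh (algebraMap A D a))
    rw [← IsScalarTower.algebraMap_apply D Dh S, ← IsScalarTower.algebraMap_apply A D S])
  let θA : Dh →ₐ[A] S := IsScalarTower.toAlgHom A Dh S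
  let H : Subalgebra A S := θA.range
  let e : Dh ≃ₐ[A] H := AlgEquiv.ofInjective θA hinj
  have he : ∀ d : Dh, ((e d : H) : S) = algebraMap Dh S d := fun _ => rfl
  -- `Dh` is a union of étale images
  have hUDh : Groth.Agent.H3.UnionEtale.IsUnion A Dh := by
    intro x
    obtain ⟨E, hsE, hEH, hEloc, hEet⟩ := hcov {algebraMap Dh S x} (by
      intro y hy
      rw [Finset.coe_singleton, Set.mem_singleton_iff] at hy
      exact ⟨x, hy.symm⟩)
    letI := hEloc
    have hxE : algebraMap Dh S x ∈ E := hsE (by simp)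
    have hEH' : E ≤ H := fun y hy => hEH hy
    obtain ⟨C, _, _, hC, φ, hφ⟩ := EssEtSH.isUnion hEet ⟨algebraMap Dh S x, hxE⟩
    obtain ⟨c, hc⟩ := hφ rfl
    refine ⟨C, inferInstance, inferInstance, hC,
      (e.symm : H →ₐ[A] Dh).comp ((Subalgebra.inclusion hEH').comp φ), ?_⟩
    intro y hy
    rw [Set.mem_singleton_iff.mp hy]
    refine ⟨c, ?_⟩
    change e.symm (Subalgebra.inclusion hEH' (φ c)) = x
    rw [hc]
    apply e.injective
    rw [AlgEquiv.apply_symm_apply]
    rfl
  haveI : Module.Flat Dh S := hUDh.flat_of_flat S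
  have hpack := Groth.Agent.H3.HensUnion.package (R := D) (S := Dh) (Or.inl hDh)
  haveI : Module.FaithfullyFlat D Dh := hpack.2
  haveI : Module.Flat D S := Module.Flat.trans D Dh S
  haveI : Module.FaithfullyFlat D S := Module.FaithfullyFlat.of_flat_of_isLocalHom
  exact forward_ff A S hA D A' D' hA' hD' hle ι hι

end Groth.Agent.H14.HensProp.Main16451
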