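import Mathlib
import Groth.Prelude.Def_Hensel
import Groth.Agent.H3.HensIntegralLocal

/-!
# Primes of a strict henselization whose quotient is a strict henselization of the quotient
-/

set_option autoImplicit false
set_option linter.style.haveILetI false
universe u

namespace Groth.Agent.H14.HensProp.MinExt

open IsLocalRing

/-- Let `S` be a strict henselization of `E`, `R'` a strict henselization of `F`, and
`α : E → F`, `π : S → R'` compatible surjections. Then the kernel of `π` is generated by the
kernel of `α`. -/
theorem ker_eq_map_ker (E S F R' : Type u) [CommRing E] [IsLocalRing E] [CommRing S]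
    [IsLocalRing S] [Algebra E S] [IsLocalHom (algebraMap E S)]
    (hES : Hensel.IsStrictHenselization E S)
    [CommRing F] [IsLocalRing F] [CommRing R'] [IsLocalRing R'] [Algebra F R']
    [IsLocalHom (algebraMap F R')] (hF : Hensel.IsStrictHenselization F R')
    (α : E →+* F) (hα : Function.Surjective α) (π : S →+* R') (hπ : Function.Surjective π)
    (hcomm : π.comp (algebraMap E S) = (algebraMap F R').comp α) :
    RingHom.ker π = (RingHom.ker α).map (algebraMap E S) := by
  haveI : HenselianLocalRing S := hES.henselian
  have hcomm' : ∀ e : E, π (algebraMap E S e) = algebraMap F R' (α e) := fun e =>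
    congrArg (fun f : E →+* R' => f e) hcomm
  let J : Ideal S := (RingHom.ker α).map (algebraMap E S)
  have hJπ : J ≤ RingHom.ker π := by
    rw [Ideal.map_le_iff_le_comap]
    intro e he
    rw [Ideal.mem_comap, RingHom.mem_ker, hcomm', (RingHom.mem_ker).mp he, map_zero]
  refine le_antisymm ?_ hJπ
  haveI hπloc : IsLocalHom π := IsLocalHom.of_surjective π hπ
  have hJtop : J ≠ ⊤ := fun h => RingHom.ker_ne_top π (top_le_iff.mp (h ▸ hJπ))
  let T := S ⧸ J
  haveI : Nontrivial T := Ideal.Quotient.nontrivial_iff.mpr hJtop
  let quot : S →+* T := Ideal.Quotient.mk J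
  have hquot : Function.Surjective quot := Ideal.Quotient.mk_surjective
  haveI : IsLocalRing T := IsLocalRing.of_surjective' quot hquot
  haveI : IsLocalHom quot := IsLocalHom.of_surjective quot hquot
  haveI : Algebra.IsIntegral S T := Algebra.isIntegral_of_surjective hquot
  haveI : HenselianLocalRing T :=
    Groth.Agent.H3.HensIntegralLocal.henselianLocalRing_of_isIntegral S T
  -- `β : F → T`
  have hker : RingHom.ker α ≤ RingHom.ker (quot.comp (algebraMap E S)) := by
    intro e he
    rw [RingHom.mem_ker, RingHom.comp_apply]
    exact Ideal.Quotient.eq_zero_iff_mem.mpr (Ideal.mem_map_of_mem _ he)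
  let β : F →+* T := α.liftOfSurjective hα ⟨quot.comp (algebraMap E S), hker⟩
  have hβ : ∀ e : E, β (α e) = quot (algebraMap E S e) := fun e =>
    RingHom.liftOfSurjective_comp_apply α hα ⟨quot.comp (algebraMap E S), hker⟩ e
  haveI : IsLocalHom β := by
    constructor
    intro x hx
    obtain ⟨e, rfl⟩ := hα x
    rw [hβ] at hx
    have h1 : IsUnit (algebraMap E S e) := isUnit_of_map_unit quot _ hx
    have h2 : IsUnit e := isUnit_of_map_unit (algebraMap E S) e h1
    exact h2.map α
  -- residue fields
  let ρ : ResidueField S →+* ResidueField R' := ResidueField.map π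
  have hρsurj : Function.Surjective ρ := by
    intro x
    obtain ⟨r, rfl⟩ := residue_surjective x
    obtain ⟨s, rfl⟩ := hπ r
    exact ⟨residue S s, ResidueField.map_residue _ s⟩
  let ε : ResidueField S ≃+* ResidueField R' := RingEquiv.ofBijective ρ ⟨ρ.injective, hρsurj⟩
  have hε : ∀ s : S, ε.symm (residue R' (π s)) = residue S s := by
    intro s
    rw [RingEquiv.symm_apply_eq]
    exact (ResidueField.map_residue π s).symm
  let τ' : ResidueField R' →+* ResidueField T :=
    (ResidueField.map quot).comp (ε.symm : ResidueField R' →+* ResidueField S)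
  have hτ' : τ'.comp (ResidueField.map (algebraMap F R')) = ResidueField.map β := by
    ext x
    obtain ⟨f, rfl⟩ := residue_surjective x
    obtain ⟨e, rfl⟩ := hα f
    simp only [RingHom.comp_apply, ResidueField.map_residue, τ']
    rw [← hcomm', RingHom.coe_coe, hε, ResidueField.map_residue, hβ]
  obtain ⟨σ, ⟨hσ1, hσ2⟩, -⟩ := hF.universal T β τ' hτ'
  let f₀ : E →+* T := quot.comp (algebraMap E S)
  haveI : IsLocalHom f₀ := RingHom.isLocalHom_comp _ _
  have hτ₀ : (ResidueField.map quot).comp (ResidueField.map (algebraMap E S)) =
      ResidueField.map f₀ := (ResidueField.map_comp _ _).symm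
  obtain ⟨k, -, huniq⟩ := hES.universal T f₀ (ResidueField.map quot) hτ₀
  have e1 : quot = k :=
    huniq quot ⟨rfl, fun x => (ResidueField.map_residue quot x)⟩
  have e2 : σ.comp π = k := by
    refine huniq _ ⟨?_, fun x => ?_⟩
    · ext e
      simp only [RingHom.comp_apply, f₀]
      rw [hcomm', ← hβ]
      exact congrArg (fun g : F →+* T => g (α e)) hσ1
    · rw [RingHom.comp_apply, hσ2]
      simp only [RingHom.comp_apply, τ']
      rw [RingHom.coe_coe, hε]
  intro x hx
  have h1 : quot x = σ (π x) := by
    rw [e1, ← e2]
    rfl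
  rw [(RingHom.mem_ker).mp hx, map_zero] at h1
  exact Ideal.Quotient.eq_zero_iff_mem.mp h1

end Groth.Agent.H14.HensProp.MinExt
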