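import Mathlib
import Groth.Prelude.Def_Found
import Groth.Agent.H38.NagataIC

/-!
# Integral closure inside an integrally closed domain
-/

set_option autoImplicit false
set_option linter.style.haveILetI false
universe u

namespace Groth.Agent.H14.HensProp.NormInter

open IsLocalRing

/-- the integral closure of `A` in an integrally closed domain `D` is integrally closed -/
theorem isIntegrallyClosed_integralClosure (A D : Type u) [CommRing A] [CommRing D] [IsDomain D]
    [IsIntegrallyClosed D] [Algebra A D] : IsIntegrallyClosed (integralClosure A D) := by
  let C := integralClosure A D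
  let K := FractionRing C
  let L := FractionRing D
  have hinj : Function.Injective (algebraMap C L) := by
    intro x y hxy
    apply Subtype.ext
    exact IsFractionRing.injective D L hxy
  let ι : K →+* L := IsFractionRing.lift hinj
  have hι : ∀ c : C, ι (algebraMap C K c) = algebraMap C L c := fun c =>
    IsFractionRing.lift_algebraMap hinj c
  refine (isIntegrallyClosed_iff K).mpr ?_
  intro x hx
  have hx' : IsIntegral C (ι x) := by
    refine IsIntegral.map_of_comp_eq (RingHom.id C) ι ?_ hx
    ext c
    exact (hι c).symm
  have hx'' : IsIntegral D (ι x) := hx'.tower_top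
  obtain ⟨d, hd⟩ := IsIntegrallyClosed.isIntegral_iff.mp hx''
  have hdC : IsIntegral C d := by
    rw [← hd] at hx'
    exact (isIntegral_algHom_iff (IsScalarTower.toAlgHom C D L)
      (IsFractionRing.injective D L)).mp hx'
  have hdA : IsIntegral A d := isIntegral_trans d hdC
  refine ⟨⟨d, hdA⟩, ?_⟩
  apply ι.injective
  rw [hι, ← hd]
  rfl

/-- finiteness of the integral closure in a domain with finitely generated fraction field over
an N-2 domain -/
theorem finite_integralClosure (A D : Type u) [CommRing A] [IsDomain A] [IsNoetherianRing A]
    [CommRing D] [IsDomain D] [Algebra A D] (hinj : Function.Injective (algebraMap A D))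
    (hN2 : CAlg.IsN2 A)
    (hfg : ∃ s : Finset D, Subfield.closure (Set.range (algebraMap A (FractionRing D)) ∪
        (algebraMap D (FractionRing D)) '' (s : Set D)) = ⊤) :
    Module.Finite A (integralClosure A D) := by
  classical
  let F := FractionRing A
  let L := FractionRing D
  haveI : FaithfulSMul A D := (faithfulSMul_iff_algebraMap_injective A D).mpr hinj
  haveI : FaithfulSMul A L := (faithfulSMul_iff_algebraMap_injective A L).mpr (by
    rw [IsScalarTower.algebraMap_eq A D L]
    exact (IsFractionRing.injective D L).comp hinj)
  letI : Algebra F L := FractionRing.liftAlgebra A L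
  haveI : IsScalarTower A F L := FractionRing.isScalarTower_liftAlgebra A L
  obtain ⟨s, hs⟩ := hfg
  let t : Finset L := s.image (algebraMap D L)
  have htop : IntermediateField.adjoin F (t : Set L) = ⊤ := by
    apply IntermediateField.toSubfield_injective
    rw [IntermediateField.top_toSubfield, ← top_le_iff, ← hs]
    refine Subfield.closure_le.mpr ?_
    rintro x (⟨a, rfl⟩ | ⟨d, hd, rfl⟩)
    · have : algebraMap A L a = algebraMap F L (algebraMap A F a) :=
        IsScalarTower.algebraMap_apply A F L a
      change algebraMap A L a ∈ IntermediateField.adjoin F (t : Set L)
      rw [this]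
      exact (IntermediateField.adjoin F (t : Set L)).algebraMap_mem _
    · apply IntermediateField.subset_adjoin F _
      exact Finset.mem_coe.mpr (Finset.mem_image.mpr ⟨d, hd, rfl⟩)
  haveI : Algebra.EssFiniteType F L := IntermediateField.fg_top_iff.mp ⟨t, htop⟩
  have h1 : Module.Finite A (integralClosure A L) :=
    Groth.Agent.H38.NagataIC.finite_integralClosure_of_isN2_of_essFiniteType A F L hN2
  haveI : IsNoetherian A (integralClosure A L) := isNoetherian_of_isNoetherianRing_of_finite A _
  let l : integralClosure A D →ₗ[A] integralClosure A L :=
    { toFun := fun c => ⟨algebraMap D L (c : D), c.2.map (IsScalarTower.toAlgHom A D L)⟩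
      map_add' := fun x y => by
        apply Subtype.ext
        exact map_add (algebraMap D L) _ _
      map_smul' := fun a x => by
        apply Subtype.ext
        change algebraMap D L (a • (x : D)) = a • algebraMap D L (x : D)
        rw [Algebra.smul_def, map_mul, ← IsScalarTower.algebraMap_apply, Algebra.smul_def] }
  have hl : Function.Injective l := by
    intro x y hxy
    apply Subtype.ext
    apply IsFractionRing.injective D L
    exact congrArg (fun z : integralClosure A L => (z : L)) hxy
  exact Module.Finite.of_injective l hl

end Groth.Agent.H14.HensProp.NormInter
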