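import Mathlib
import Groth.Prelude.Def_Hensel
import Groth.Prelude.Def_EssEt
import Groth.Agent.H78.EssEtSub2
import Groth.Agent.H14.HensProp.UnramFlat
import Groth.Agent.H14.GeomUnibranchNormal
import Groth.Agent.H14.HensProp.NormInter

/-!
# Normal local intermediate rings of a strict henselization: auxiliary data
-/

set_option autoImplicit false
set_option linter.style.haveILetI false
universe u

namespace Groth.Agent.H14.HensProp.NormInter

open IsLocalRing

section Surj

/-- abstract surjectivity criterion by faithfully flat descent of divisibility -/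
theorem surjective_of_faithfullyFlat (A R D T : Type u) [CommRing A] [CommRing R] [CommRing D]
    [IsDomain D] [CommRing T] [Algebra A R] [Algebra R D] [Algebra A D] [IsScalarTower A R D]
    [Algebra D T] [Algebra R T] [IsScalarTower R D T] [Module.FaithfullyFlat R T]
    (hinj : Function.Injective (algebraMap A D))
    (h : ∀ d : D, ∃ a : A, a ≠ 0 ∧ a • d ∈ Set.range (algebraMap R D)) :
    Function.Surjective (algebraMap R D) := by
  intro d
  obtain ⟨a, ha, r, hr⟩ := h d
  have h1 : r ∈ ((Ideal.span {algebraMap A R a}).map (algebraMap R T)).comap (algebraMap R T) := by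
    rw [Ideal.mem_comap, IsScalarTower.algebraMap_apply R D T, hr, Algebra.smul_def, map_mul,
      IsScalarTower.algebraMap_apply A R D, ← IsScalarTower.algebraMap_apply R D T]
    exact Ideal.mul_mem_right _ _ (Ideal.mem_map_of_mem _ (Ideal.mem_span_singleton_self _))
  rw [Ideal.comap_map_eq_self_of_faithfullyFlat, Ideal.mem_span_singleton'] at h1
  obtain ⟨x, hx⟩ := h1
  refine ⟨x, ?_⟩
  have h2 : algebraMap A D a * algebraMap R D x = algebraMap A D a * d := by
    rw [← Algebra.smul_def a d, ← hr, ← hx, map_mul, ← IsScalarTower.algebraMap_apply, mul_comm]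
  have h3 : algebraMap A D a ≠ 0 := fun h0 => ha (hinj (h0.trans (map_zero _).symm))
  exact mul_left_cancel₀ h3 h2

end Surj

section Data

variable (A S : Type u) [CommRing A] [IsLocalRing A]
  [CommRing S] [IsLocalRing S] [Algebra A S] [IsLocalHom (algebraMap A S)]
  [Hensel.IsStrictHenselization A S]

/-- every finite subset of a strict henselization lies in the (injective) image of the
localization of an étale algebra at a prime over the maximal ideal, over which the strict
henselization is flat and local -/
theorem exists_essEtale_data (s : Finset S) :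
    ∃ (C : Type u) (_ : CommRing C) (_ : Algebra A C) (_ : Algebra.Etale A C) (q : Ideal C)
      (_ : q.IsPrime) (ψ : Localization.AtPrime q →ₐ[A] S),
      q.comap (algebraMap A C) = maximalIdeal A ∧ Function.Injective ψ ∧
      (s : Set S) ⊆ Set.range ψ ∧ (∀ b, IsUnit (ψ b) → IsUnit b) ∧
      (letI := ψ.toRingHom.toAlgebra; Module.Flat (Localization.AtPrime q) S) := by
  classical
  have hS : Hensel.IsStrictHenselization A S := inferInstance
  haveI : Module.FaithfullyFlat A S := Groth.Agent.H3.SH.faithfullyFlat A hS
  have hs' : InEtImage A S (s : Set S) :=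
    InEtImage.finset s fun x _ => inEtImage_of_isStrictHenselization A S x
  obtain ⟨C, _, _, hCet, φ, hφ⟩ := hs'
  obtain ⟨q, hqp, ψ, hq, hqA, hψ, hinj⟩ :=
    Groth.Agent.H78.EssEtSub.exists_essEtale_of_algHom A S φ
  refine ⟨C, inferInstance, inferInstance, hCet, q, hqp, ψ, hqA, hinj, ?_, ?_, ?_⟩
  · intro x hx
    obtain ⟨c, rfl⟩ := hφ hx
    exact ⟨algebraMap C _ c, hψ c⟩
  · intro a ha
    obtain ⟨c, t, rfl⟩ := IsLocalization.exists_mk'_eq q.primeCompl a
    have h1 : ψ (IsLocalization.mk' (Localization.AtPrime q) c t) * φ t = φ c := by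
      rw [← hψ, ← hψ, ← map_mul, IsLocalization.mk'_spec]
    have hq' : ∀ c : C, c ∉ q ↔ IsUnit (φ c) := by
      intro c
      rw [hq, Ideal.mem_comap, mem_maximalIdeal, mem_nonunits_iff, not_not]
    have h2 : IsUnit (φ c) := by
      rw [← h1]
      exact IsUnit.mul ha ((hq' t).mp t.2)
    have h3 : c ∉ q := (hq' c).mpr h2
    exact (IsLocalization.AtPrime.isUnit_mk'_iff (Localization.AtPrime q) q c t).mpr h3
  · letI : Algebra C S := φ.toRingHom.toAlgebra
    haveI : IsScalarTower A C S := IsScalarTower.of_algebraMap_eq' (by
      ext a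
      exact (φ.commutes a).symm)
    haveI : Module.Flat C S := Groth.Agent.H3.FlatOfEtale.flat_of_etale A C S
    letI : Algebra (Localization.AtPrime q) S := ψ.toRingHom.toAlgebra
    haveI : IsScalarTower C (Localization.AtPrime q) S := IsScalarTower.of_algebraMap_eq' (by
      ext c
      exact (hψ c).symm)
    exact (Module.flat_iff_of_isLocalization (Localization.AtPrime q) q.primeCompl S).mpr
      inferInstance

variable [IsDomain A]

/-- elements of a strict henselization of a domain are algebraic -/
theorem isAlgebraic_of_isStrictHenselization (x : S) : IsAlgebraic A x := by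
  obtain ⟨C, _, _, hCet, φ, hφ⟩ := inEtImage_of_isStrictHenselization A S x
  obtain ⟨c, rfl⟩ := hφ (Set.mem_singleton x)
  exact (UnramEt.isAlgebraic_of_etale A C c).algHom φ

end Data

end Groth.Agent.H14.HensProp.NormInter
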