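import Mathlib
import Groth.Prelude.Def_Hensel
import Groth.Prelude.Def_EGA4b
import Groth.Prelude.Def_EssEt
import Groth.Agent.H14.HensProp.MinExt
import Groth.Agent.H14.HensProp.SubfieldInter4
import Groth.Agent.H14.HensProp.EssEtSH
import Groth.Agent.H14.HensProp.NormInter2
import Groth.Agent.H14.HensProp.Strict

/-!
# S16446: an essentially étale subalgebra of the strict henselization from which the minimal
primes over `qS` are extended
-/

set_option autoImplicit false
set_option linter.style.haveILetI false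
universe u

namespace Groth.Agent.H14.HensProp.MinExt

open IsLocalRing SubfieldInter

section

variable (A S : Type u) [CommRing A] [HenselianLocalRing A]
  [CommRing S] [IsLocalRing S] [Algebra A S] [IsLocalHom (algebraMap A S)]
  [hS : Hensel.IsStrictHenselization A S]

/-- finitely many elements of `S` whose classes generate `L ∩ S/Q'` as an `A`-module: any
subalgebra containing them surjects onto `L ∩ S/Q'` -/
theorem exists_lifts (hN : CAlg.IsNagata A) (Q' : Ideal S) [Q'.IsPrime]
    (t' : Finset (FractionRing (S ⧸ Q'))) :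
    ∃ s : Finset S, ∀ E : Subalgebra A S, (s : Set S) ⊆ (E : Set S) → ∀ x : S,
      Ideal.Quotient.mk Q' x ∈ inter A (S ⧸ Q') t' →
        ∃ e ∈ E, Ideal.Quotient.mk Q' e = Ideal.Quotient.mk Q' x := by
  classical
  haveI : IsLocalRing (S ⧸ Q') :=
    IsLocalRing.of_surjective' (Ideal.Quotient.mk Q') Ideal.Quotient.mk_surjective
  have hπ : Function.Surjective (algebraMap S (S ⧸ Q')) := Ideal.Quotient.mk_surjective
  obtain ⟨hfin, -, -⟩ := inter_props A S (S ⧸ Q') t' hN hπ
  haveI := hfin
  obtain ⟨g, hg⟩ := (Module.Finite.fg_top : (⊤ : Submodule A (inter A (S ⧸ Q') t')).FG)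
  let lift : S ⧸ Q' → S := Function.surjInv Ideal.Quotient.mk_surjective
  have hlift : ∀ r, Ideal.Quotient.mk Q' (lift r) = r := Function.surjInv_eq _
  refine ⟨g.image (fun d : inter A (S ⧸ Q') t' => lift (d : S ⧸ Q')), ?_⟩
  intro E hE x hx
  let l : S →ₗ[A] S ⧸ Q' := (Ideal.Quotient.mkₐ A Q').toLinearMap
  have h1 : Submodule.map (inter A (S ⧸ Q') t').val.toLinearMap ⊤ ≤
      (Subalgebra.toSubmodule E).map l := by
    rw [← hg, Submodule.map_span, Submodule.span_le]
    rintro _ ⟨d, hd, rfl⟩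
    exact ⟨lift (d : S ⧸ Q'), hE (Finset.mem_coe.mpr (Finset.mem_image_of_mem _ hd)), hlift _⟩
  have h2 : Ideal.Quotient.mk Q' x ∈ (Subalgebra.toSubmodule E).map l :=
    h1 ⟨⟨_, hx⟩, Submodule.mem_top, rfl⟩
  obtain ⟨e, he, hex⟩ := h2
  exact ⟨e, he, hex⟩

/-- a prime `Q'` of `S` is extended from an essentially étale subalgebra `E` as soon as `E`
surjects onto `Frac(A/q) ∩ S/Q'` -/
theorem eq_map_comap (hN : CAlg.IsNagata A) (Q' : Ideal S) [Q'.IsPrime] (E : Subalgebra A S)
    (hE : EGA4loc.IsEssentiallyEtale A E)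
    (hlift : ∀ x : S, Ideal.Quotient.mk Q' x ∈ inter A (S ⧸ Q') ∅ →
      ∃ e ∈ E, Ideal.Quotient.mk Q' e = Ideal.Quotient.mk Q' x) :
    Q' = Ideal.map (algebraMap E S) (Q'.comap (algebraMap E S)) := by
  classical
  haveI : IsLocalRing (S ⧸ Q') :=
    IsLocalRing.of_surjective' (Ideal.Quotient.mk Q') Ideal.Quotient.mk_surjective
  have hπ : Function.Surjective (algebraMap S (S ⧸ Q')) := Ideal.Quotient.mk_surjective
  haveI : IsNoetherianRing A := hN.1
  obtain ⟨hfin, hunr, hloc, hlocHom, hD₀⟩ := inter_props A S (S ⧸ Q') ∅ hN hπ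
  haveI := hfin
  haveI := hunr
  haveI := hloc
  haveI := hlocHom
  haveI : Algebra.IsIntegral A S := FinSubSH.isIntegral_of_henselian A S
  haveI : Algebra.IsIntegral A (S ⧸ Q') := isIntegral_quotient A S (S ⧸ Q') hπ
  -- `E`
  haveI : Algebra.IsIntegral A E :=
    ⟨fun e => (isIntegral_algHom_iff E.val Subtype.val_injective).mp
      (Algebra.IsIntegral.isIntegral (R := A) (e : S))⟩
  haveI : Algebra.IsIntegral E S := Algebra.IsIntegral.tower_top (R := A)
  haveI : IsLocalRing E := FinSubSH.isLocalRing_of_isIntegral E S Subtype.val_injective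
  haveI : IsLocalHom (algebraMap A E) := FinSubSH.isLocalHom_of_isIntegral A E
  haveI : IsLocalHom (algebraMap E S) := FinSubSH.isLocalHom_of_isIntegral E S
  haveI : Algebra.EssFiniteType A E := EssEtSH.essFiniteType hE
  haveI : Algebra.FormallyUnramified A E := EssEtSH.formallyUnramified hE
  have hES : Hensel.IsStrictHenselization E S := EssEtSH.isStrictHenselization_of_tower A S E hS
  haveI : Module.Finite A E := EssEtSH.finite hE
  -- `F`
  let φ : E →ₐ[A] S ⧸ Q' := (Ideal.Quotient.mkₐ A Q').comp E.val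
  let F : Subalgebra A (S ⧸ Q') := φ.range
  let α : E →ₐ[A] F := φ.rangeRestrict
  have hα : Function.Surjective α := φ.rangeRestrict_surjective
  haveI : IsLocalRing F := IsLocalRing.of_surjective' α.toRingHom hα
  haveI : Module.Finite A F := Module.Finite.of_surjective α.toLinearMap hα
  haveI : Algebra.IsIntegral A F := Algebra.IsIntegral.of_finite A F
  haveI : Algebra.IsIntegral F (S ⧸ Q') := Algebra.IsIntegral.tower_top (R := A)
  haveI : IsLocalHom (algebraMap F (S ⧸ Q')) := FinSubSH.isLocalHom_of_isIntegral F (S ⧸ Q')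
  haveI : Algebra.FormallyUnramified A F := Algebra.FormallyUnramified.of_surjective α hα
  have hle : inter A (S ⧸ Q') ∅ ≤ F := by
    intro d hd
    obtain ⟨x, rfl⟩ := Ideal.Quotient.mk_surjective d
    obtain ⟨e, he, hex⟩ := hlift x hd
    exact ⟨⟨e, he⟩, hex⟩
  letI algD₀F : Algebra (inter A (S ⧸ Q') ∅) F := (Subalgebra.inclusion hle).toRingHom.toAlgebra
  haveI : IsScalarTower A (inter A (S ⧸ Q') ∅) F :=
    IsScalarTower.of_algebraMap_eq fun a => rfl
  haveI : IsScalarTower (inter A (S ⧸ Q') ∅) F (S ⧸ Q') :=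
    IsScalarTower.of_algebraMap_eq fun d => rfl
  haveI : Module.Finite (inter A (S ⧸ Q') ∅) F :=
    Module.Finite.of_restrictScalars_finite A (inter A (S ⧸ Q') ∅) F
  haveI : Algebra.IsIntegral (inter A (S ⧸ Q') ∅) F :=
    Algebra.IsIntegral.of_finite (inter A (S ⧸ Q') ∅) F
  haveI : IsLocalHom (algebraMap (inter A (S ⧸ Q') ∅) F) :=
    FinSubSH.isLocalHom_of_isIntegral (inter A (S ⧸ Q') ∅) F
  haveI : Algebra.EssFiniteType (inter A (S ⧸ Q') ∅) F := inferInstance
  haveI : Algebra.FormallyUnramified (inter A (S ⧸ Q') ∅) F :=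
    Algebra.FormallyUnramified.of_restrictScalars A (inter A (S ⧸ Q') ∅) F
  have hF : Hensel.IsStrictHenselization F (S ⧸ Q') :=
    EssEtSH.isStrictHenselization_of_tower (inter A (S ⧸ Q') ∅) (S ⧸ Q') F hD₀
  have hcomm : (Ideal.Quotient.mk Q').comp (algebraMap E S) =
      (algebraMap F (S ⧸ Q')).comp α.toRingHom := by
    ext e
    rfl
  have h := ker_eq_map_ker E S F (S ⧸ Q') hES hF α.toRingHom hα (Ideal.Quotient.mk Q')
    Ideal.Quotient.mk_surjective hcomm
  rw [Ideal.mk_ker] at h
  have hker : RingHom.ker α.toRingHom = Q'.comap (algebraMap E S) := by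
    ext e
    rw [RingHom.mem_ker, Ideal.mem_comap]
    constructor
    · intro he
      have h0 : (Ideal.Quotient.mk Q') (e : S) = 0 := congrArg Subtype.val he
      exact Ideal.Quotient.eq_zero_iff_mem.mp h0
    · intro he
      apply Subtype.ext
      exact Ideal.Quotient.eq_zero_iff_mem.mpr he
  rw [hker] at h
  exact h

end

end Groth.Agent.H14.HensProp.MinExt
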