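import Mathlib
import Groth.Agent.H14.HensProp.MinExt2
import Groth.Agent.S2654

/-!
# S16446
-/

set_option autoImplicit false
set_option linter.style.haveILetI false
universe u

namespace Groth.Agent.H14.HensProp.MinExt

open IsLocalRing SubfieldInter

theorem main16446
    (A S : Type u) [CommRing A] [HenselianLocalRing A] (hA : EGA4.IsExcellent A)
    [CommRing S] [IsLocalRing S] [Algebra A S] [IsLocalHom (algebraMap A S)]
    [Hensel.IsStrictHenselization A S] (Q : Ideal S) [Q.IsPrime]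
    (t : Finset (FractionRing (S ⧸ Q))) :
    ∃ E : Subalgebra A S, ∃ _ : IsLocalRing E, EGA4loc.IsEssentiallyEtale A E ∧
      (∀ Q' ∈ ((Q.comap (algebraMap A S)).map (algebraMap A S)).minimalPrimes,
        Q' = Ideal.map (algebraMap E S) (Q'.comap (algebraMap E S))) ∧
      ∀ x : S, algebraMap (S ⧸ Q) (FractionRing (S ⧸ Q)) (Ideal.Quotient.mk Q x) ∈
          Subfield.closure (Set.range (algebraMap A (FractionRing (S ⧸ Q))) ∪
            (t : Set (FractionRing (S ⧸ Q)))) →
        ∃ e ∈ E, Ideal.Quotient.mk Q e = Ideal.Quotient.mk Q x := by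
  classical
  have hN : CAlg.IsNagata A := Groth.Agent.S2654.result A ⟨hA.1, hA.2.2.1, hA.2.2.2⟩
  haveI : IsNoetherianRing A := hN.1
  haveI : IsNoetherianRing S := (strict_package A S).1
  have hfin : ((Q.comap (algebraMap A S)).map (algebraMap A S)).minimalPrimes.Finite :=
    Ideal.finite_minimalPrimes_of_isNoetherianRing S _
  obtain ⟨s₀, hs₀⟩ := exists_lifts A S hN Q t
  let liftGens : Ideal S → Finset S := fun Q' =>
    if h : Q'.IsPrime then Classical.choose (@exists_lifts A S _ _ _ _ _ _ _ hN Q' h ∅) else ∅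
  have hliftGens : ∀ (Q' : Ideal S) [Q'.IsPrime], ∀ E : Subalgebra A S,
      (liftGens Q' : Set S) ⊆ (E : Set S) → ∀ x : S,
      Ideal.Quotient.mk Q' x ∈ inter A (S ⧸ Q') ∅ →
        ∃ e ∈ E, Ideal.Quotient.mk Q' e = Ideal.Quotient.mk Q' x := by
    intro Q' hQ'
    have h1 : liftGens Q' = Classical.choose (exists_lifts A S hN Q' ∅) := dif_pos hQ'
    rw [h1]
    exact Classical.choose_spec (exists_lifts A S hN Q' ∅)
  let s : Finset S := s₀ ∪ hfin.toFinset.biUnion liftGens
  obtain ⟨C, _, _, hCet, q, hqp, ψ, hqA, hψinj, hsψ, hψloc, hψflat⟩ :=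
    NormInter.exists_essEtale_data A S s
  let e : Localization.AtPrime q ≃ₐ[A] ψ.range := AlgEquiv.ofInjective ψ hψinj
  have hE : EGA4loc.IsEssentiallyEtale A ψ.range :=
    ⟨C, inferInstance, inferInstance, q, hqp, hCet, hqA, ⟨e.symm⟩⟩
  haveI : IsLocalRing ψ.range := RingEquiv.isLocalRing e.toRingEquiv
  refine ⟨ψ.range, inferInstance, hE, ?_, ?_⟩
  · intro Q' hQ'
    haveI : Q'.IsPrime := hQ'.1.1
    apply eq_map_comap A S hN Q' ψ.range hE
    apply hliftGens Q' ψ.range
    intro x hx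
    apply hsψ
    rw [Finset.mem_coe, Finset.mem_union]
    right
    rw [Finset.mem_biUnion]
    exact ⟨Q', hfin.mem_toFinset.mpr hQ', hx⟩
  · intro x hx
    exact hs₀ ψ.range (fun y hy => hsψ (Finset.mem_coe.mpr (Finset.mem_union_left _ hy))) x hx

end Groth.Agent.H14.HensProp.MinExt
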