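import Mathlib
import Groth.Prelude.Def_Curv2
import Groth.Prelude.Def_Hensel
import Groth.Prelude.Def_Found
import Groth.Agent.H14.HensProp.NormBC3
import Groth.Agent.H14.HensProp.Strict
import Groth.Agent.H3.HensUnion

/-!
# The δ-invariant of a reduced one-dimensional Nagata local ring is unchanged under
henselization, strict henselization and completion
-/

set_option autoImplicit false
set_option linter.style.haveILetI false
universe u

namespace Groth.Agent.H14.HensProp.NormBC

open TensorProduct IsLocalRing Groth.Agent.H3.UnionEtale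

/-- **S7654.** -/
theorem deltaInv_invariant (A : Type u) [CommRing A] [IsLocalRing A] [IsReduced A]
    (hN : CAlg.IsNagata A) (hdim : ringKrullDim A = 1) :
    (∀ (B : Type u) [CommRing B] [IsLocalRing B] [Algebra A B] [IsLocalHom (algebraMap A B)],
        Hensel.IsHenselization A B → Curv2.deltaInv B = Curv2.deltaInv A) ∧
      (∀ (B : Type u) [CommRing B] [IsLocalRing B] [Algebra A B] [IsLocalHom (algebraMap A B)],
        Hensel.IsStrictHenselization A B → Curv2.deltaInv B = Curv2.deltaInv A) ∧
      Curv2.deltaInv (Curv2.cpl A) = Curv2.deltaInv A := by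
  haveI hNoeth : IsNoetherianRing A := hN.1
  refine ⟨?_, ?_, ?_⟩
  · intro B _ _ _ _ hH
    haveI := hH
    obtain ⟨hU, hff⟩ := Groth.Agent.H3.HensUnion.package (Or.inl hH)
    haveI : Module.Flat A B := hff.toFlat
    exact deltaInv_eq A B (HhToHsh.map_maximalIdeal_henselization A B)
      (fun M _ => normal_tensor_of_isUnion A B hU M)
  · intro B _ _ _ _ hS
    haveI := hS
    obtain ⟨hU, hff⟩ := Groth.Agent.H3.HensUnion.package (Or.inr hS)
    haveI : Module.Flat A B := hff.toFlat
    exact deltaInv_eq A B (Groth.Agent.H3.SH.map_maximalIdeal_eq_of_isStrictHenselization A hS)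
      (fun M _ => normal_tensor_of_isUnion A B hU M)
  · haveI hfin : Module.Finite A (integralClosure A (FractionRing A)) :=
      Groth.Agent.H38.finite_integralClosure fun p =>
        hN.2 p.1.asIdeal (Groth.Agent.H38.KK p) inferInstance
    exact deltaInv_eq A (AdicCompletion (maximalIdeal A) A)
      (AdicCompletion.maximalIdeal_eq_map).symm
      (fun M _ => normal_tensor_compl A hdim M)

end Groth.Agent.H14.HensProp.NormBC
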