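import Mathlib
import Groth.Agent.H14.HensProp.NormInter2

/-!
# Normal local intermediate rings of a strict henselization are essentially étale
-/

set_option autoImplicit false
set_option linter.style.haveILetI false
universe u

namespace Groth.Agent.H14.HensProp.NormInter

open IsLocalRing

section Core

variable (A S : Type u) [CommRing A] [IsLocalRing A] [IsDomain A]
  [CommRing S] [IsLocalRing S] [Algebra A S] [IsLocalHom (algebraMap A S)]
  [Hensel.IsStrictHenselization A S] (D : Subalgebra A S) [IsLocalRing D]
  [IsLocalHom (algebraMap D S)] [IsDomain D] [IsIntegrallyClosed D]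

theorem isEssentiallyEtale_of_finite_integralClosure
    [Module.Finite A (integralClosure A D)] : EGA4loc.IsEssentiallyEtale A D := by
  classical
  have hS : Hensel.IsStrictHenselization A S := inferInstance
  haveI : Module.FaithfullyFlat A S := Groth.Agent.H3.SH.faithfullyFlat A hS
  have hAS : Function.Injective (algebraMap A S) := FaithfulSMul.algebraMap_injective A S
  have hAD : Function.Injective (algebraMap A D) := by
    intro a b hab
    apply hAS
    exact congrArg (fun d : D => (d : S)) hab
  let C : Subalgebra A D := integralClosure A D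
  haveI : IsIntegrallyClosed C := isIntegrallyClosed_integralClosure A D
  -- generators of `C`
  obtain ⟨g, hg⟩ := (Module.Finite.fg_top : (⊤ : Submodule A C).FG)
  let l : C →ₗ[A] S := (D.val.toLinearMap).comp (C.val.toLinearMap)
  obtain ⟨C', _, _, hCet, q, hqp, ψ, hqA, hψinj, hgψ, hψloc, hψflat⟩ :=
    exists_essEtale_data A S (g.image l)
  let B := Localization.AtPrime q
  have hCψ : ∀ c : C, (D.val.comp C.val) c ∈ ψ.range := by
    intro c
    have hc : c ∈ Submodule.span A (g : Set C) := by rw [hg]; exact Submodule.mem_top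
    have h1 : l c ∈ (Submodule.span A (g : Set C)).map l := Submodule.mem_map_of_mem hc
    rw [Submodule.map_span] at h1
    have h2 : Submodule.span A (l '' (g : Set C)) ≤ Subalgebra.toSubmodule ψ.range := by
      apply Submodule.span_le.mpr
      rintro _ ⟨c', hc', rfl⟩
      exact hgψ (Finset.mem_coe.mpr (Finset.mem_image_of_mem l hc'))
    exact h2 h1
  -- the localization of `C`
  let n : Ideal C := (maximalIdeal D).comap (algebraMap C D)
  haveI hnp : n.IsPrime := Ideal.comap_isPrime _ _
  have hn : ∀ c : C, c ∉ n ↔ IsUnit (c : D) := by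
    intro c
    rw [Ideal.mem_comap, mem_maximalIdeal, mem_nonunits_iff, not_not]
    rfl
  let D₁ := Localization.AtPrime n
  let j : D₁ →ₐ[A] D := IsLocalization.liftAlgHom (M := n.primeCompl) (f := C.val)
    (fun y => (hn y).mp y.2)
  have hj : ∀ c : C, j (algebraMap C D₁ c) = (c : D) := by
    intro c
    simp [j]
  have hjinj : Function.Injective j := by
    change Function.Injective j.toRingHom
    rw [IsLocalization.injective_iff_map_algebraMap_eq n.primeCompl]
    intro x y
    constructor
    · intro h
      exact congrArg j h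
    · intro h
      change j (algebraMap C D₁ x) = j (algebraMap C D₁ y) at h
      rw [hj, hj] at h
      rw [Subtype.ext h]
  -- the map `C → B`
  let e : B ≃ₐ[A] ψ.range := AlgEquiv.ofInjective ψ hψinj
  let χ : C →ₐ[A] B := e.symm.toAlgHom.comp ((D.val.comp C.val).codRestrict ψ.range hCψ)
  have hχ : ∀ c : C, ψ (χ c) = ((c : D) : S) := by
    intro c
    change ((e (e.symm ((D.val.comp C.val).codRestrict ψ.range hCψ c)) : ψ.range) : S) = _
    rw [AlgEquiv.apply_symm_apply]
    rfl
  have hunits' : ∀ y : n.primeCompl, IsUnit (χ y) := by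
    intro y
    apply hψloc
    rw [hχ]
    exact ((hn y).mp y.2).map (algebraMap D S)
  let χ' : D₁ →ₐ[A] B := IsLocalization.liftAlgHom (M := n.primeCompl) hunits'
  have hχ' : ∀ c : C, χ' (algebraMap C D₁ c) = χ c := by
    intro c
    simp [χ']
  have hcomp : ∀ x : D₁, ψ (χ' x) = ((j x : D) : S) := by
    have h1 : (ψ.toRingHom.comp χ'.toRingHom) = (algebraMap D S).comp j.toRingHom := by
      apply IsLocalization.ringHom_ext n.primeCompl
      ext c
      change ψ (χ' (algebraMap C D₁ c)) = ((j (algebraMap C D₁ c) : D) : S)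
      rw [hχ', hχ, hj]
    intro x
    exact congrArg (fun f : D₁ →+* S => f x) h1
  have hχ'inj : Function.Injective χ' := by
    intro x y hxy
    apply hjinj
    apply Subtype.ext
    rw [← hcomp, ← hcomp, hxy]
  -- instances
  letI algBS : Algebra B S := ψ.toRingHom.toAlgebra
  haveI : IsScalarTower A B S := IsScalarTower.of_algebraMap_eq' (by
    ext a
    exact (ψ.commutes a).symm)
  haveI : Module.Flat B S := hψflat
  haveI : IsLocalHom (algebraMap B S) := ⟨hψloc⟩
  letI algD₁B : Algebra D₁ B := χ'.toRingHom.toAlgebra
  haveI : IsScalarTower A D₁ B := IsScalarTower.of_algebraMap_eq' (by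
    ext a
    exact (χ'.commutes a).symm)
  haveI : IsLocalHom (algebraMap D₁ B) := by
    constructor
    intro x hx
    have h1 : IsUnit (ψ (χ' x)) := hx.map ψ
    rw [hcomp] at h1
    have h2 : IsUnit (j x) := isUnit_of_map_unit (algebraMap D S) (j x) h1
    obtain ⟨c, u, rfl⟩ := IsLocalization.exists_mk'_eq n.primeCompl x
    have h3 : j (IsLocalization.mk' D₁ c u) * ((u : C) : D) = (c : D) := by
      rw [← hj, ← hj c, ← map_mul, IsLocalization.mk'_spec]
    have h4 : IsUnit (c : D) := by
      rw [← h3]
      exact h2.mul ((hn u).mp u.2)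
    exact (IsLocalization.AtPrime.isUnit_mk'_iff D₁ n c u).mpr ((hn c).mpr h4)
  letI algD₁S : Algebra D₁ S := ((algebraMap B S).comp (algebraMap D₁ B)).toAlgebra
  haveI : IsScalarTower D₁ B S := IsScalarTower.of_algebraMap_eq' rfl
  haveI : Algebra.FormallyUnramified C' B := Algebra.FormallyUnramified.of_isLocalization q.primeCompl
  haveI : Algebra.FormallyUnramified A B := Algebra.FormallyUnramified.comp A C' B
  haveI : Algebra.EssFiniteType A B := inferInstance
  haveI : Algebra.EssFiniteType D₁ B := Algebra.EssFiniteType.of_comp A D₁ B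
  haveI : Algebra.FormallyUnramified D₁ B := Algebra.FormallyUnramified.of_restrictScalars A D₁ B
  haveI : IsDomain D₁ := IsLocalization.isDomain_of_atPrime D₁ n
  haveI : IsIntegrallyClosed D₁ :=
    isIntegrallyClosed_of_isLocalization D₁ n.primeCompl n.primeCompl_le_nonZeroDivisors
  have hgu : CAlg2.IsGeomUnibranch D₁ := Groth.Agent.H14.isGeomUnibranch_of_isIntegrallyClosed D₁
  haveI hflat : Module.Flat D₁ B :=
    UnramFlat.flat_of_unramified_of_injective D₁ B hgu hχ'inj
  haveI : Module.Flat D₁ S := Module.Flat.trans D₁ B S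
  haveI : IsLocalHom (algebraMap D₁ S) :=
    RingHom.isLocalHom_comp (algebraMap B S) (algebraMap D₁ B)
  haveI : Module.FaithfullyFlat D₁ S := Module.FaithfullyFlat.of_flat_of_isLocalHom
  haveI : Module.FaithfullyFlat D₁ B := Module.FaithfullyFlat.of_flat_of_isLocalHom
  letI algD₁D : Algebra D₁ D := j.toRingHom.toAlgebra
  haveI : IsScalarTower A D₁ D := IsScalarTower.of_algebraMap_eq'
    (RingHom.ext fun a => (j.commutes a).symm)
  haveI : IsScalarTower D₁ D S := IsScalarTower.of_algebraMap_eq' (by
    ext x
    exact hcomp x)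
  have hsurj : Function.Surjective j := by
    apply surjective_of_faithfullyFlat A D₁ D S hAD
    intro d
    have h1 : IsAlgebraic A (d : S) := isAlgebraic_of_isStrictHenselization A S (d : S)
    have h2 : IsAlgebraic A d := (isAlgebraic_algHom_iff D.val Subtype.val_injective).mp h1
    obtain ⟨a, ha, hint⟩ := h2.exists_integral_multiple
    exact ⟨a, ha, algebraMap C D₁ ⟨a • d, hint⟩, hj ⟨a • d, hint⟩⟩
  haveI : Algebra.FiniteType A C := inferInstance
  haveI : Algebra.EssFiniteType A D₁ := inferInstance
  haveI : Algebra.EssFiniteType A D := Algebra.EssFiniteType.of_surjective (R := A) (S := D₁) (T := D) j hsurj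
  -- the maximal ideal
  haveI : IsLocalHom (algebraMap A B) := by
    constructor
    intro a ha
    have h1 : IsUnit (ψ (algebraMap A B a)) := ha.map ψ
    rw [ψ.commutes] at h1
    exact isUnit_of_map_unit (algebraMap A S) a h1
  have hB : (maximalIdeal A).map (algebraMap A B) = maximalIdeal B :=
    Algebra.FormallyUnramified.map_maximalIdeal
  have hD₁ : maximalIdeal D₁ ≤ (maximalIdeal A).map (algebraMap A D₁) := by
    intro x hx
    have h1 : x ∈ (((maximalIdeal A).map (algebraMap A D₁)).map (algebraMap D₁ B)).comap
        (algebraMap D₁ B) := by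
      rw [Ideal.map_map, ← IsScalarTower.algebraMap_eq, hB, Ideal.mem_comap, mem_maximalIdeal,
        mem_nonunits_iff]
      intro hu
      exact hx (isUnit_of_map_unit (algebraMap D₁ B) x hu)
    have h2 := Ideal.comap_map_eq_self_of_faithfullyFlat (A := D₁) (B := B)
      ((maximalIdeal A).map (algebraMap A D₁))
    rw [h2] at h1
    exact h1
  have hm : Ideal.map (algebraMap A D) (maximalIdeal A) = maximalIdeal D := by
    apply le_antisymm
    · rw [Ideal.map_le_iff_le_comap]
      intro a ha
      rw [Ideal.mem_comap, mem_maximalIdeal, mem_nonunits_iff]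
      intro hu
      have h1 : IsUnit (algebraMap D S (algebraMap A D a)) := hu.map _
      rw [← IsScalarTower.algebraMap_apply] at h1
      exact ha (isUnit_of_map_unit (algebraMap A S) a h1)
    · intro d hd
      obtain ⟨x, rfl⟩ := hsurj d
      have hx : x ∈ maximalIdeal D₁ := by
        rw [mem_maximalIdeal, mem_nonunits_iff]
        intro hu
        exact hd (hu.map j)
      have h1 : j x ∈ ((maximalIdeal A).map (algebraMap A D₁)).map j.toRingHom :=
        Ideal.mem_map_of_mem j.toRingHom (hD₁ hx)
      have h5 : j.toRingHom.comp (algebraMap A D₁) = algebraMap A D :=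
        RingHom.ext fun a => j.commutes a
      rw [Ideal.map_map, h5] at h1
      exact h1
  exact Groth.Agent.H78.EssEtSub.isEssentiallyEtale_of_map_maximalIdeal A S D hm

end Core

end Groth.Agent.H14.HensProp.NormInter
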