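import Mathlib
import Groth.Prelude.Def_Found
import Groth.Agent.H14.HensProp.NormInter3
import Groth.Agent.H13.MonoN2
import Groth.Agent.S2654

/-!
# S16432: normal local intermediate rings of a strict henselization with finitely generated
fraction field are essentially étale
-/

set_option autoImplicit false
set_option linter.style.haveILetI false
universe u

namespace Groth.Agent.H14.HensProp.NormInter

open IsLocalRing

theorem main16432 (A S : Type u) [CommRing A] [IsLocalRing A] [IsDomain A]
    (hA : EGA4.IsExcellent A) [CommRing S] [IsLocalRing S] [Algebra A S]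
    [IsLocalHom (algebraMap A S)]
    [Hensel.IsStrictHenselization A S] (D : Subalgebra A S) [IsLocalRing D]
    [IsLocalHom (algebraMap D S)] [IsDomain D] [IsIntegrallyClosed D]
    (hfg : ∃ s : Finset D, Subfield.closure (Set.range (algebraMap A (FractionRing D)) ∪
        (algebraMap D (FractionRing D)) '' (s : Set D)) = ⊤) :
    EGA4loc.IsEssentiallyEtale A D := by
  have hN : CAlg.IsNagata A := Groth.Agent.S2654.result A ⟨hA.1, hA.2.2.1, hA.2.2.2⟩
  haveI : IsNoetherianRing A := hN.1
  have hN2 : CAlg.IsN2 A := Groth.Agent.H13.MonoN2.isN2_of_isNagata A hN
  have hS : Hensel.IsStrictHenselization A S := inferInstance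
  haveI : Module.FaithfullyFlat A S := Groth.Agent.H3.SH.faithfullyFlat A hS
  have hAS : Function.Injective (algebraMap A S) := FaithfulSMul.algebraMap_injective A S
  have hAD : Function.Injective (algebraMap A D) := by
    intro a b hab
    apply hAS
    exact congrArg (fun d : D => (d : S)) hab
  haveI := finite_integralClosure A D hAD hN2 hfg
  exact isEssentiallyEtale_of_finite_integralClosure A S D

end Groth.Agent.H14.HensProp.NormInter
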