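import Mathlib
import Groth.Prelude.Def_Found
import Groth.Agent.H14.HensProp.NormInter4
import Groth.Agent.H14.HensProp.SubfieldInter3

/-!
# S16433: normal local intermediate rings of a strict henselization are directed unions of
essentially étale local algebras
-/

set_option autoImplicit false
set_option linter.style.haveILetI false
universe u

namespace Groth.Agent.H14.HensProp.NormInter

open IsLocalRing

section Sub

variable (A S : Type u) [CommRing A] [CommRing S] [Algebra A S]
  (D : Subalgebra A S) [IsDomain D] (t : Finset (FractionRing D))

/-- the intersection of `D` with the subfield of its fraction field generated by `A` and `t`,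
as a subalgebra of `S` -/
noncomputable def sub : Subalgebra A S := (SubfieldInter.inter A D t).map D.val

theorem sub_le : sub A S D t ≤ D := by
  rintro _ ⟨d, _, rfl⟩
  exact d.2

/-- the inclusion into `D` -/
noncomputable def incl : sub A S D t →ₐ[A] D := Subalgebra.inclusion (sub_le A S D t)

theorem incl_injective : Function.Injective (incl A S D t) :=
  Subalgebra.inclusion_injective (sub_le A S D t)

theorem coe_incl (x : sub A S D t) : ((incl A S D t x : D) : S) = (x : S) := rfl

theorem incl_mem (x : sub A S D t) :
    algebraMap D (FractionRing D) (incl A S D t x) ∈ SubfieldInter.genField A D t := by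
  obtain ⟨d, hd, hdx⟩ := x.2
  have h : incl A S D t x = d := Subtype.ext hdx.symm
  rw [h]
  exact hd

theorem mem_sub_of (d : D) (hd : algebraMap D (FractionRing D) d ∈ SubfieldInter.genField A D t) :
    (d : S) ∈ sub A S D t := ⟨d, hd, rfl⟩

instance isDomain_sub : IsDomain (sub A S D t) :=
  Function.Injective.isDomain (incl A S D t).toRingHom (incl_injective A S D t)

/-- units of `D` lying in `sub` are units of `sub` -/
theorem isUnit_of_isUnit_incl (x : sub A S D t) (hx : IsUnit (incl A S D t x)) : IsUnit x := by
  obtain ⟨d', hd'⟩ := hx.exists_right_inv
  have h1 : algebraMap D (FractionRing D) (incl A S D t x) * algebraMap D (FractionRing D) d' = 1 := by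
    rw [← map_mul, hd', map_one]
  have h2 : algebraMap D (FractionRing D) d' = (algebraMap D (FractionRing D) (incl A S D t x))⁻¹ :=
    eq_inv_of_mul_eq_one_right h1
  have h3 : algebraMap D (FractionRing D) d' ∈ SubfieldInter.genField A D t := by
    rw [h2]
    exact inv_mem (incl_mem A S D t x)
  refine IsUnit.of_mul_eq_one ⟨(d' : S), mem_sub_of A S D t d' h3⟩ ?_
  apply Subtype.ext
  exact congrArg (fun d : D => (d : S)) hd'

/-- `sub` is integrally closed when `D` is -/
theorem isIntegrallyClosed_sub [IsIntegrallyClosed D] : IsIntegrallyClosed (sub A S D t) := by
  let D' := sub A S D t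
  let K := FractionRing D
  let K' := FractionRing D'
  let g : D' →+* K := (algebraMap D K).comp (incl A S D t).toRingHom
  have hg : Function.Injective g :=
    (IsFractionRing.injective D K).comp (incl_injective A S D t)
  let ι : K' →+* K := IsFractionRing.lift hg
  have hι : ∀ c : D', ι (algebraMap D' K' c) = algebraMap D K (incl A S D t c) := fun c =>
    IsFractionRing.lift_algebraMap hg c
  refine (isIntegrallyClosed_iff K').mpr ?_
  intro x hx
  have hx' : IsIntegral D (ι x) := by
    refine IsIntegral.map_of_comp_eq (incl A S D t).toRingHom ι ?_ hx
    ext c
    exact (hι c).symm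
  obtain ⟨d, hd⟩ := IsIntegrallyClosed.isIntegral_iff.mp hx'
  have hmem : ι x ∈ SubfieldInter.genField A D t := by
    obtain ⟨a, b, hb, rfl⟩ := IsFractionRing.div_surjective (A := D') x
    rw [map_div₀, hι, hι]
    exact div_mem (incl_mem A S D t a) (incl_mem A S D t b)
  rw [← hd] at hmem
  refine ⟨⟨(d : S), mem_sub_of A S D t d hmem⟩, ?_⟩
  apply ι.injective
  rw [hι, ← hd]
  rfl

/-- finiteness of the integral closure of `A` in `sub` over an N-2 domain -/
theorem finite_integralClosure_sub [IsDomain A] [IsNoetherianRing A]
    (hinj : Function.Injective (algebraMap A D)) (hN2 : CAlg.IsN2 A) :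
    Module.Finite A (integralClosure A (sub A S D t)) := by
  classical
  let D' := sub A S D t
  let K := FractionRing D
  let F := FractionRing A
  haveI : FaithfulSMul A K := (faithfulSMul_iff_algebraMap_injective A K).mpr (by
    rw [IsScalarTower.algebraMap_eq A D K]
    exact (IsFractionRing.injective D K).comp hinj)
  letI : Algebra F K := FractionRing.liftAlgebra A K
  haveI : IsScalarTower A F K := FractionRing.isScalarTower_liftAlgebra A K
  let L' : IntermediateField F K := IntermediateField.adjoin F (t : Set K)
  haveI : Algebra.EssFiniteType F L' := IntermediateField.essFiniteType_iff.mpr ⟨t, rfl⟩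
  haveI : IsScalarTower A F L' := IsScalarTower.of_algebraMap_eq fun a => by
    apply Subtype.ext
    change algebraMap A K a = algebraMap F K (algebraMap A F a)
    rw [← IsScalarTower.algebraMap_apply]
  have h1 : Module.Finite A (integralClosure A L') :=
    Groth.Agent.H38.NagataIC.finite_integralClosure_of_isN2_of_essFiniteType A F L' hN2
  haveI : IsNoetherian A (integralClosure A L') := isNoetherian_of_isNoetherianRing_of_finite A _
  have hle : SubfieldInter.genField A D t ≤ L'.toSubfield := by
    refine Subfield.closure_le.mpr ?_
    rintro x (⟨a, rfl⟩ | hx)
    · have : algebraMap A K a = algebraMap F K (algebraMap A F a) :=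
        IsScalarTower.algebraMap_apply A F K a
      change algebraMap A K a ∈ L'
      rw [this]
      exact L'.algebraMap_mem _
    · exact IntermediateField.subset_adjoin F _ hx
  let l : integralClosure A D' →ₗ[A] integralClosure A L' :=
    { toFun := fun c => ⟨⟨algebraMap D K (incl A S D t (c : D')), hle (incl_mem A S D t (c : D'))⟩, by
        have hc : IsIntegral A (incl A S D t (c : D')) := c.2.map (incl A S D t)
        have hc' : IsIntegral A (algebraMap D K (incl A S D t (c : D'))) :=
          hc.map (IsScalarTower.toAlgHom A D K)
        let v : L' →ₐ[A] K := ⟨algebraMap L' K, fun a => rfl⟩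
        exact (isIntegral_algHom_iff v (algebraMap L' K).injective).mp hc'⟩
      map_add' := fun x y => by
        apply Subtype.ext; apply Subtype.ext
        change algebraMap D K (incl A S D t ((x + y : integralClosure A D') : D')) = _
        rw [Subalgebra.coe_add, map_add, map_add]
        rfl
      map_smul' := fun a x => by
        apply Subtype.ext; apply Subtype.ext
        change algebraMap D K (incl A S D t ((a • x : integralClosure A D') : D')) =
          a • algebraMap D K (incl A S D t (x : D'))
        rw [Subalgebra.coe_smul, map_smul, Algebra.smul_def, map_mul,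
          ← IsScalarTower.algebraMap_apply, Algebra.smul_def] }
  have hl : Function.Injective l := by
    intro x y hxy
    apply Subtype.ext
    apply incl_injective A S D t
    apply IsFractionRing.injective D K
    exact congrArg (fun z : integralClosure A L' => ((z : L') : K)) hxy
  exact Module.Finite.of_injective l hl

end Sub

end Groth.Agent.H14.HensProp.NormInter
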