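import Mathlib
import Groth.Prelude.Def_Found
import Groth.Agent.H14.HensProp.NormInter5

/-!
# S16433
-/

set_option autoImplicit false
set_option linter.style.haveILetI false
universe u

namespace Groth.Agent.H14.HensProp.NormInter

open IsLocalRing

theorem main16433 (A S : Type u) [CommRing A] [IsLocalRing A] [IsDomain A]
    (hA : EGA4.IsExcellent A) [CommRing S] [IsLocalRing S] [Algebra A S]
    [IsLocalHom (algebraMap A S)]
    [Hensel.IsStrictHenselization A S] (D : Subalgebra A S) [IsLocalRing D]
    [IsLocalHom (algebraMap D S)] [IsDomain D] [IsIntegrallyClosed D]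
    (s : Finset S) (hs : (s : Set S) ⊆ (D : Set S)) :
    ∃ D' : Subalgebra A S, D' ≤ D ∧ (s : Set S) ⊆ (D' : Set S) ∧
      ∃ _ : IsLocalRing D', IsLocalHom (algebraMap D' S) ∧ EGA4loc.IsEssentiallyEtale A D' := by
  classical
  have hN : CAlg.IsNagata A := Groth.Agent.S2654.result A ⟨hA.1, hA.2.2.1, hA.2.2.2⟩
  haveI : IsNoetherianRing A := hN.1
  have hN2 : CAlg.IsN2 A := Groth.Agent.H13.MonoN2.isN2_of_isNagata A hN
  have hS : Hensel.IsStrictHenselization A S := inferInstance
  haveI : Module.FaithfullyFlat A S := Groth.Agent.H3.SH.faithfullyFlat A hS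
  have hAS : Function.Injective (algebraMap A S) := FaithfulSMul.algebraMap_injective A S
  have hAD : Function.Injective (algebraMap A D) := by
    intro a b hab
    apply hAS
    exact congrArg (fun d : D => (d : S)) hab
  let K := FractionRing D
  let t : Finset K := s.attach.image
    (fun x => algebraMap D K ⟨x.1, hs (Finset.mem_coe.mpr x.2)⟩)
  let D' : Subalgebra A S := sub A S D t
  have hunit : ∀ x : D', IsUnit (algebraMap D' S x) → IsUnit x := by
    intro x hx
    apply isUnit_of_isUnit_incl A S D t x
    exact isUnit_of_map_unit (algebraMap D S) (incl A S D t x) hx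
  haveI hloc : IsLocalRing D' := by
    apply IsLocalRing.of_nonunits_add
    intro a b ha hb
    have ha' : algebraMap D' S a ∈ nonunits S := fun h => ha (hunit a h)
    have hb' : algebraMap D' S b ∈ nonunits S := fun h => hb (hunit b h)
    have hab : algebraMap D' S a + algebraMap D' S b ∈ nonunits S :=
      IsLocalRing.nonunits_add ha' hb'
    intro h
    apply hab
    rw [← map_add]
    exact h.map (algebraMap D' S)
  haveI : IsLocalHom (algebraMap D' S) := ⟨hunit⟩
  haveI : IsIntegrallyClosed D' := isIntegrallyClosed_sub A S D t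
  haveI : Module.Finite A (integralClosure A D') := finite_integralClosure_sub A S D t hAD hN2
  refine ⟨D', sub_le A S D t, ?_, hloc, inferInstance,
    isEssentiallyEtale_of_finite_integralClosure A S D'⟩
  intro x hx
  have hxs : x ∈ s := Finset.mem_coe.mp hx
  refine mem_sub_of A S D t ⟨x, hs hx⟩ ?_
  apply Subfield.subset_closure
  refine Or.inr ?_
  exact Finset.mem_coe.mpr (Finset.mem_image.mpr ⟨⟨x, hxs⟩, Finset.mem_attach _ _, rfl⟩)

end Groth.Agent.H14.HensProp.NormInter
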