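import Mathlib
import Groth.Prelude.Def_Hensel
import Groth.Prelude.Def_EGA4b
import Groth.Prelude.Def_EssEt
import Groth.Agent.H14.HensProp.SubfieldInter4

/-!
# `L ∩ S` is essentially étale over `A` when `S` is a domain (S16434)
-/

set_option autoImplicit false
set_option linter.style.haveILetI false
universe u

namespace Groth.Agent.H14.HensProp.SubfieldInter

open IsLocalRing

/-- the localization of a local ring at its maximal ideal is the ring itself -/
noncomputable def locEquiv (D : Type u) [CommRing D] [IsLocalRing D] :
    D ≃ₐ[D] Localization.AtPrime (maximalIdeal D) :=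
  IsLocalization.atUnits D (maximalIdeal D).primeCompl (by
    intro x hx
    exact IsLocalRing.notMem_maximalIdeal.mp hx)

/-- a local étale algebra is essentially étale -/
theorem isEssentiallyEtale_of_etale (A D : Type u) [CommRing A] [IsLocalRing A] [CommRing D]
    [IsLocalRing D] [Algebra A D] [IsLocalHom (algebraMap A D)] [Algebra.Etale A D] :
    EGA4loc.IsEssentiallyEtale A D := by
  refine ⟨D, inferInstance, inferInstance, maximalIdeal D, inferInstance, inferInstance, ?_,
    ⟨(locEquiv D).restrictScalars A⟩⟩
  exact ((IsLocalRing.local_hom_TFAE (algebraMap A D)).out 0 4).mp ‹IsLocalHom (algebraMap A D)›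

/-- **S16434.** -/
theorem main16434
    (A S : Type u) [CommRing A] [HenselianLocalRing A] [IsDomain A] (hA : EGA4.IsExcellent A)
    [CommRing S] [IsLocalRing S] [Algebra A S] [IsLocalHom (algebraMap A S)]
    [hS : Hensel.IsStrictHenselization A S] [IsDomain S] (t : Finset (FractionRing S)) :
    ∃ D : Subalgebra A S, (D : Set S) = (algebraMap S (FractionRing S)) ⁻¹'
        (Subfield.closure (Set.range (algebraMap A (FractionRing S)) ∪
          (t : Set (FractionRing S))) : Set (FractionRing S)) ∧
      ∃ _ : IsLocalRing D, IsLocalHom (algebraMap D S) ∧ EGA4loc.IsEssentiallyEtale A D := by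
  have hN : CAlg.IsNagata A := Groth.Agent.S2654.result A ⟨hA.1, hA.2.2.1, hA.2.2.2⟩
  haveI : IsNoetherianRing A := hA.1
  have hπ : Function.Surjective (algebraMap S S) := fun x => ⟨x, rfl⟩
  obtain ⟨h1, h2, h3, h4, h5⟩ := inter_props A S S t hN hπ
  refine ⟨inter A S t, rfl, h3, h4, ?_⟩
  haveI := h1
  haveI := h2
  haveI : Algebra.IsIntegral A (inter A S t) := Algebra.IsIntegral.of_finite A _
  haveI : IsLocalHom (algebraMap A (inter A S t)) := FinSubSH.isLocalHom_of_isIntegral A _
  haveI : Algebra.WeaklyEtale A (inter A S t) :=
    Groth.Agent.H27.SHWeaklyEtale.weaklyEtale_of_isStrictHenselization A (inter A S t) S h5 hS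
  haveI : Algebra.FinitePresentation A (inter A S t) :=
    Algebra.FinitePresentation.of_finiteType.mp inferInstance
  haveI : Algebra.Etale A (inter A S t) := Algebra.Etale.of_formallyUnramified_of_flat
  exact isEssentiallyEtale_of_etale A (inter A S t)

end Groth.Agent.H14.HensProp.SubfieldInter
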