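import Mathlib
import Groth.Prelude.Def_CAlg2
import Groth.Agent.H14.HensProp.UnramEt

set_option autoImplicit false
set_option linter.style.haveILetI false
universe u

namespace Groth.Agent.H14.HensProp.UnramEt

open IsLocalRing TensorProduct Polynomial

/-- **EGA IV 18.10.1 (ring form).** -/
theorem exists_etale_away {A B : Type u} [CommRing A] [IsDomain A] [CommRing B]
    [Algebra A B] (q : Ideal B) [q.IsPrime] (p : Ideal A) [p.IsPrime] [q.LiesOver p]
    (hA : CAlg2.IsGeomUnibranch (Localization.AtPrime p)) [Algebra.FiniteType A B]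
    [Algebra.IsUnramifiedAt A q]
    (hinj : Function.Injective
      (Localization.localRingHom p q (algebraMap A B) (q.over_def p))) :
    ∃ g : B, g ∉ q ∧ Algebra.Etale A (Localization.Away g) := by
  obtain ⟨f, hfq, P, φ, hφ⟩ := Algebra.IsUnramifiedAt.exists_hasStandardEtaleSurjectionOn (R := A) q
  have hdisj : Disjoint (Submonoid.powers f : Set B) (q : Set B) :=
    (Ideal.disjoint_powers_iff_notMem_of_isPrime _).mpr hfq
  haveI hQ : (q.map (algebraMap B (Localization.Away f))).IsPrime :=
    IsLocalization.isPrime_of_isPrime_disjoint (.powers f) _ _ ‹_› hdisj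
  have hQc : (q.map (algebraMap B (Localization.Away f))).comap (algebraMap B (Localization.Away f))
      = q := IsLocalization.under_map_of_isPrime_disjoint (.powers f) _ ‹_› hdisj
  have hover : ((q.map (algebraMap B (Localization.Away f))).comap φ).comap (algebraMap A P.Ring)
      = p := by
    ext a
    rw [Ideal.mem_comap, Ideal.mem_comap, AlgHom.commutes,
      IsScalarTower.algebraMap_apply A B (Localization.Away f), ← Ideal.mem_comap, hQc,
      q.over_def p, Ideal.under, Ideal.mem_comap]
  set Q := q.map (algebraMap B (Localization.Away f)) with hQdef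
  haveI : (Q.comap φ).LiesOver p := ⟨hover.symm⟩
  haveI : IsDomain (Localization.AtPrime p) :=
    IsLocalization.isDomain_localization (Ideal.primeCompl_le_nonZeroDivisors p)
  haveI : IsReduced (Localization.AtPrime p) := inferInstance
  obtain ⟨hdomC, -⟩ := EtLoc.isDomain_and_isGeomUnibranch_atPrime A P.Ring p (Q.comap φ) hA
  haveI := hdomC
  -- injectivity hypothesis in elementary form
  have hinjB : ∀ (a : A) (w : B), w ∉ q → algebraMap A B a * w = 0 → a = 0 := by
    intro a w hw haw
    have hwu : IsUnit (algebraMap B (Localization.AtPrime q) w) :=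
      IsLocalization.map_units (Localization.AtPrime q) (⟨w, hw⟩ : q.primeCompl)
    have h1 : algebraMap B (Localization.AtPrime q) (algebraMap A B a) = 0 := by
      have := congrArg (algebraMap B (Localization.AtPrime q)) haw
      rw [map_mul, map_zero] at this
      exact (hwu.mul_left_eq_zero).mp this
    have h2 : Localization.localRingHom p q (algebraMap A B) (q.over_def p)
        (algebraMap A (Localization.AtPrime p) a) = 0 := by
      rw [Localization.localRingHom_to_map]
      exact h1
    have h3 := hinj (h2.trans (map_zero _).symm)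
    exact IsLocalization.injective (Localization.AtPrime p)
      (Ideal.primeCompl_le_nonZeroDivisors p) (h3.trans (map_zero _).symm)
  have hinj' : ∀ (a : A) (u : Localization.Away f), u ∉ Q →
      algebraMap A (Localization.Away f) a * u = 0 → a = 0 := by
    intro a u hu hau
    obtain ⟨b, ⟨_, n, rfl⟩, rfl⟩ := IsLocalization.exists_mk'_eq (Submonoid.powers f) u
    have hb : b ∉ q := by
      intro hb
      apply hu
      rw [hQdef, IsLocalization.mk'_mem_map_algebraMap_iff]
      exact ⟨1, one_mem _, by rwa [one_mul]⟩
    have h1 : algebraMap B (Localization.Away f) (algebraMap A B a * b) = 0 := by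
      rw [map_mul, ← IsScalarTower.algebraMap_apply,
        ← IsLocalization.mk'_spec (Localization.Away f) b (⟨f ^ n, n, rfl⟩ : Submonoid.powers f), ← mul_assoc, hau,
        zero_mul]
    obtain ⟨⟨_, k, rfl⟩, hk⟩ := (IsLocalization.map_eq_zero_iff (Submonoid.powers f) _ _).mp h1
    simp only at hk
    refine hinjB a (f ^ k * b) ?_ ?_
    · exact fun h => (‹q.IsPrime›.mem_or_mem h).elim
        (fun h' => hfq (‹q.IsPrime›.mem_of_pow_mem _ h')) hb
    · rw [mul_left_comm]
      exact hk
  obtain ⟨s, hsQ, hs0⟩ := exists_kills_ker A P.Ring (Localization.Away f) φ Q hinj'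
  -- adjust `s` so that its image comes from `B`
  obtain ⟨b₀, ⟨_, n, rfl⟩, hb₀⟩ := IsLocalization.exists_mk'_eq (Submonoid.powers f) (φ s)
  obtain ⟨t, ht⟩ := hφ (algebraMap B (Localization.Away f) (f ^ n))
  have hst : φ (s * t) = algebraMap B (Localization.Away f) b₀ := by
    rw [map_mul, ht, ← hb₀]
    exact IsLocalization.mk'_spec (Localization.Away f) b₀ (⟨f ^ n, n, rfl⟩ : Submonoid.powers f)
  have hs0' : ∀ x ∈ RingHom.ker φ.toRingHom, (s * t) * x = 0 := by
    intro x hx
    rw [mul_right_comm, hs0 x hx, zero_mul]
  have hb₀q : b₀ ∉ q := by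
    intro hb
    apply hsQ
    rw [← hb₀, hQdef, IsLocalization.mk'_mem_map_algebraMap_iff]
    exact ⟨1, one_mem _, by rwa [one_mul]⟩
  haveI het := etale_away A P.Ring (Localization.Away f) φ hφ (s * t) hs0'
  have hloc : IsLocalization.Away (f * b₀) (Localization.Away (φ (s * t))) :=
    hst ▸ IsLocalization.Away.mul' (Localization.Away f) _ _ _
  refine ⟨f * b₀, fun h => (‹q.IsPrime›.mem_or_mem h).elim hfq hb₀q, ?_⟩
  exact Algebra.Etale.of_equiv
    ((IsLocalization.algEquiv (Submonoid.powers (f * b₀)) (Localization.Away (φ (s * t)))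
      (Localization.Away (f * b₀))).restrictScalars A)

end Groth.Agent.H14.HensProp.UnramEt
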