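import Mathlib

set_option autoImplicit false
set_option linter.style.haveILetI false
universe u

namespace Groth.Agent.H14.HensProp.WedgeDVR

open IsLocalRing Function

section Generic

variable {A B : Type u} [CommRing A] [IsLocalRing A] [CommRing B] [Algebra A B]

/-- length/CRT lemma: if `length_A (B / A) + 1` is the number of maximal ideals of `B`, all lying
over `m_A`, then every residue field of `B` is a quotient of `A` and the Jacobson radical of `B`
lies in the image of `A`. -/
theorem surjective_and_mem_range [Finite (MaximalSpectrum B)] [Nontrivial B]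
    (hcomap : ∀ M : MaximalSpectrum B, M.asIdeal.comap (algebraMap A B) = maximalIdeal A)
    (hlen : Module.length A (B ⧸ LinearMap.range (Algebra.linearMap A B)) + 1 =
      ENat.card (MaximalSpectrum B)) :
    (∀ M : MaximalSpectrum B,
      Function.Surjective ((Ideal.Quotient.mk M.asIdeal).comp (algebraMap A B))) ∧
    (∀ b : B, (∃ a : A, ∀ M : MaximalSpectrum B, b - algebraMap A B a ∈ M.asIdeal) →
      b ∈ (algebraMap A B).range) := by
  classical
  cases nonempty_fintype (MaximalSpectrum B)
  have hcop : Pairwise (IsCoprime on fun M : MaximalSpectrum B => M.asIdeal) := by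
    intro M M' h
    rw [Function.onFun, Ideal.isCoprime_iff_sup_eq]
    exact Ideal.IsMaximal.coprime_of_ne M.isMaximal M'.isMaximal
      (fun h' => h (MaximalSpectrum.ext h'))
  let π : B →ₗ[A] (∀ M : MaximalSpectrum B, B ⧸ M.asIdeal) :=
    LinearMap.pi fun M => (M.asIdeal.mkQ).restrictScalars A
  have hπ : Function.Surjective π := fun x => by
    obtain ⟨r, hr⟩ := Ideal.pi_quotient_surjective hcop x
    exact ⟨r, funext hr⟩
  let N0 : Submodule A B := LinearMap.range (Algebra.linearMap A B)
  let R0 : Submodule A (∀ M : MaximalSpectrum B, B ⧸ M.asIdeal) :=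
    LinearMap.range (π ∘ₗ Algebra.linearMap A B)
  have hN0R0 : N0 ≤ R0.comap π := by
    rintro _ ⟨a, rfl⟩
    exact ⟨a, rfl⟩
  let ψ : (B ⧸ N0) →ₗ[A] ((∀ M : MaximalSpectrum B, B ⧸ M.asIdeal) ⧸ R0) :=
    Submodule.mapQ N0 R0 π hN0R0
  have hψ : Function.Surjective ψ := by
    intro y
    obtain ⟨x, rfl⟩ := Submodule.Quotient.mk_surjective _ y
    obtain ⟨b, rfl⟩ := hπ x
    exact ⟨Submodule.Quotient.mk b, rfl⟩
  obtain ⟨M₀⟩ : Nonempty (MaximalSpectrum B) := by
    obtain ⟨M, hM⟩ := Ideal.exists_maximal B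
    exact ⟨⟨M, hM⟩⟩
  -- the image of `A` in the product is simple
  have hker : LinearMap.ker (π ∘ₗ Algebra.linearMap A B) = maximalIdeal A := by
    ext a
    rw [LinearMap.mem_ker]
    constructor
    · intro h
      have h1 := congrFun h M₀
      rw [← hcomap M₀, Ideal.mem_comap]
      exact Ideal.Quotient.eq_zero_iff_mem.mp h1
    · intro h
      funext M
      rw [← hcomap M, Ideal.mem_comap] at h
      exact Ideal.Quotient.eq_zero_iff_mem.mpr h
  have hR0 : Module.length A R0 = 1 := by
    haveI : IsSimpleModule A (A ⧸ (maximalIdeal A : Submodule A A)) :=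
      isSimpleModule_iff_isCoatom.mpr (Ideal.isMaximal_def.mp inferInstance)
    have e : (A ⧸ (maximalIdeal A : Submodule A A)) ≃ₗ[A] R0 :=
      (Submodule.quotEquivOfEq _ _ hker.symm).trans (LinearMap.quotKerEquivRange _)
    rw [← e.length_eq]
    exact Module.length_eq_one A _
  have h1 : Module.length A (∀ M : MaximalSpectrum B, B ⧸ M.asIdeal) =
      Module.length A R0 + Module.length A ((∀ M : MaximalSpectrum B, B ⧸ M.asIdeal) ⧸ R0) :=
    Module.length_eq_add_of_exact R0.subtype R0.mkQ R0.subtype_injective R0.mkQ_surjective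
      (LinearMap.exact_subtype_mkQ R0)
  have h2 : Module.length A ((∀ M : MaximalSpectrum B, B ⧸ M.asIdeal) ⧸ R0) ≤
      Module.length A (B ⧸ N0) := Module.length_le_of_surjective ψ hψ
  have h3 : Module.length A (∀ M : MaximalSpectrum B, B ⧸ M.asIdeal) =
      ∑ M : MaximalSpectrum B, Module.length A (B ⧸ M.asIdeal) :=
    Module.length_pi_of_fintype A _
  have h4 : ∀ M : MaximalSpectrum B, 1 ≤ Module.length A (B ⧸ M.asIdeal) := by
    intro M
    haveI : Nontrivial (B ⧸ M.asIdeal) := Ideal.Quotient.nontrivial_iff.mpr M.isMaximal.ne_top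
    exact Order.one_le_iff_pos.mpr Module.length_pos
  have hcard : ENat.card (MaximalSpectrum B) = (Fintype.card (MaximalSpectrum B) : ℕ∞) :=
    ENat.card_eq_coe_fintype_card
  have hsum_le : ∑ M : MaximalSpectrum B, Module.length A (B ⧸ M.asIdeal) ≤
      (Fintype.card (MaximalSpectrum B) : ℕ∞) := by
    rw [← h3, h1, hR0, ← hcard, ← hlen, add_comm]
    gcongr
  have hfin : ∀ M : MaximalSpectrum B, Module.length A (B ⧸ M.asIdeal) ≠ ⊤ := fun M h => by
    have h5 := Finset.single_le_sum (f := fun M : MaximalSpectrum B =>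
      Module.length A (B ⧸ M.asIdeal)) (fun i _ => zero_le) (Finset.mem_univ M)
    simp only [h] at h5
    exact (lt_of_le_of_lt (h5.trans hsum_le) (ENat.natCast_lt_top _)).ne rfl
  choose n hn using fun M => ENat.ne_top_iff_exists.mp (hfin M)
  have hn1 : ∀ M, 1 ≤ n M := fun M => by
    have := h4 M
    rw [← hn M] at this
    exact_mod_cast this
  have hnsum : ∑ M, n M ≤ Fintype.card (MaximalSpectrum B) := by
    have : ((∑ M, n M : ℕ) : ℕ∞) ≤ Fintype.card (MaximalSpectrum B) := by
      rw [Nat.cast_sum]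
      simp_rw [hn]
      exact hsum_le
    exact_mod_cast this
  have hn_eq : ∀ M, n M = 1 := by
    by_contra hcon
    push Not at hcon
    obtain ⟨M1, hM1⟩ := hcon
    have hlt : ∑ _M : MaximalSpectrum B, (1 : ℕ) < ∑ M, n M :=
      Finset.sum_lt_sum (fun M _ => hn1 M)
        ⟨M1, Finset.mem_univ _, lt_of_le_of_ne (hn1 M1) (Ne.symm hM1)⟩
    simp only [Finset.sum_const, Finset.card_univ, smul_eq_mul, mul_one] at hlt
    omega
  have hl1 : ∀ M : MaximalSpectrum B, Module.length A (B ⧸ M.asIdeal) = 1 := fun M => by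
    rw [← hn M, hn_eq M]
    rfl
  have hsum_eq : ∑ M : MaximalSpectrum B, Module.length A (B ⧸ M.asIdeal) =
      (Fintype.card (MaximalSpectrum B) : ℕ∞) := by
    simp [hl1]
  have hδfin : Module.length A (B ⧸ N0) ≠ ⊤ := by
    intro h
    rw [h, hcard] at hlen
    simp at hlen
  have hquot : Module.length A ((∀ M : MaximalSpectrum B, B ⧸ M.asIdeal) ⧸ R0) =
      Module.length A (B ⧸ N0) := by
    have h6 : Module.length A ((∀ M : MaximalSpectrum B, B ⧸ M.asIdeal) ⧸ R0) + 1 =
        Module.length A (B ⧸ N0) + 1 := by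
      rw [hlen, hcard, ← hsum_eq, ← h3, h1, hR0, add_comm]
    exact ENat.add_left_injective_of_ne_top ENat.one_ne_top h6
  have hkerψ : LinearMap.ker ψ = ⊥ := by
    have h5 := Module.length_eq_add_of_exact (LinearMap.ker ψ).subtype ψ
      (Submodule.subtype_injective _) hψ (LinearMap.exact_subtype_ker_map ψ)
    rw [hquot] at h5
    have h7 : Module.length A (LinearMap.ker ψ) = 0 := by
      have h8 : 0 + Module.length A (B ⧸ N0) =
          Module.length A (LinearMap.ker ψ) + Module.length A (B ⧸ N0) := by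
        rw [zero_add]
        exact h5
      exact (ENat.add_left_injective_of_ne_top hδfin h8).symm
    rw [Module.length_eq_zero_iff] at h7
    exact Submodule.eq_bot_of_subsingleton
  refine ⟨fun M => ?_, fun b hb => ?_⟩
  · have hs : IsSimpleModule A (B ⧸ M.asIdeal) := Module.length_eq_one_iff.mp (hl1 M)
    have hr : LinearMap.range ((M.asIdeal.mkQ).restrictScalars A ∘ₗ Algebra.linearMap A B) = ⊤ := by
      refine (eq_bot_or_eq_top _).resolve_left fun hbot => ?_
      have h1m : (Ideal.Quotient.mk M.asIdeal (1 : B)) ∈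
          LinearMap.range ((M.asIdeal.mkQ).restrictScalars A ∘ₗ Algebra.linearMap A B) :=
        ⟨1, by simp⟩
      rw [hbot, Submodule.mem_bot] at h1m
      haveI : Nontrivial (B ⧸ M.asIdeal) :=
        Ideal.Quotient.nontrivial_iff.mpr M.isMaximal.ne_top
      rw [map_one] at h1m
      exact one_ne_zero h1m
    intro y
    have hy : y ∈ LinearMap.range ((M.asIdeal.mkQ).restrictScalars A ∘ₗ Algebra.linearMap A B) := by
      rw [hr]
      trivial
    obtain ⟨a, ha⟩ := hy
    exact ⟨a, ha⟩
  · obtain ⟨a, ha⟩ := hb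
    have hπb : π b = π (algebraMap A B a) := by
      funext M
      exact (Ideal.Quotient.eq).mpr (ha M)
    have hmem : (Submodule.Quotient.mk b : B ⧸ N0) ∈ LinearMap.ker ψ := by
      rw [LinearMap.mem_ker]
      change Submodule.Quotient.mk (π b) = 0
      rw [Submodule.Quotient.mk_eq_zero, hπb]
      exact ⟨a, rfl⟩
    rw [hkerψ, Submodule.mem_bot, Submodule.Quotient.mk_eq_zero] at hmem
    obtain ⟨a', ha'⟩ := hmem
    exact ⟨a', ha'⟩

end Generic

end Groth.Agent.H14.HensProp.WedgeDVR
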