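import Mathlib
import Groth.Prelude.Def_Curv2
import Groth.Prelude.Def_Brnch
import Groth.Prelude.Def_Found
import Groth.Agent.H14.HensProp.NormBC3
import Groth.Agent.H14.HensProp.HhToHsh2
import Groth.Agent.H14.HensProp.WedgeDVR

set_option autoImplicit false
set_option linter.style.haveILetI false
universe u

namespace Groth.Agent.H14.HensProp.WedgeDVR

open IsLocalRing Function

section SepClosed

variable {A κ L : Type u} [CommRing A] [Field κ] [Field L]
  (r : A →+* κ) (hr : Function.Surjective r) (t : A →+* L)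
  (hker : RingHom.ker r ≤ RingHom.ker t) (ht : t.IsIntegral)

include hr hker ht in
theorem pow_mem_of_isSepClosed [IsSepClosed κ] (x : L) :
    ∃ n : ℕ, x ^ (ringExpChar L) ^ n ∈ t.range := by
  let ι : κ →+* L := RingHom.liftOfSurjective r hr ⟨t, hker⟩
  have hι : ∀ a, ι (r a) = t a := fun a => RingHom.liftOfSurjective_comp_apply r hr ⟨t, hker⟩ a
  let _ : Algebra κ L := ι.toAlgebra
  have hint : Algebra.IsAlgebraic κ L := by
    refine ⟨fun x => ?_⟩
    obtain ⟨p, hpm, hp⟩ := ht x
    refine IsIntegral.isAlgebraic ⟨p.map r, hpm.map r, ?_⟩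
    rw [Polynomial.eval₂_map]
    have : (algebraMap κ L).comp r = t := RingHom.ext fun a => hι a
    rw [this]
    exact hp
  have hq : ExpChar κ (ringExpChar L) := ι.expChar ι.injective (ringExpChar L)
  have hpi : IsPurelyInseparable κ L := inferInstance
  obtain ⟨n, k, hk⟩ := (isPurelyInseparable_iff_pow_mem κ (ringExpChar L)).mp hpi x
  obtain ⟨a, rfl⟩ := hr k
  exact ⟨n, a, by rw [← hk]; exact (hι a).symm⟩

end SepClosed

section Branches

variable (A : Type u) [CommRing A] [IsLocalRing A] [IsSepClosed (ResidueField A)]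

theorem subsingleton_emb (m' : MaximalSpectrum (CAlg2.normRed A)) :
    Subsingleton (Brnch.Emb A m') := by
  have := m'.isMaximal
  let _ : Field (CAlg2.normRed A ⧸ m'.asIdeal) := Ideal.Quotient.field m'.asIdeal
  exact (Groth.Agent.H46.emb_nonempty_and_subsingleton_iff A m').2.mpr fun x =>
    pow_mem_of_isSepClosed (IsLocalRing.residue A) IsLocalRing.residue_surjective
      (Brnch.toResidue A m') (Groth.Agent.H46.ker_residue_le A m')
      (Groth.Agent.H46.toResidue_isIntegral A m') x

theorem numGeomBranches_eq_card (hfin : (minimalPrimes A).Finite) :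
    Brnch.numGeomBranches A = ENat.card (MaximalSpectrum (CAlg2.normRed A)) := by
  unfold Brnch.numGeomBranches
  rw [if_pos hfin]
  haveI : ∀ m' : MaximalSpectrum (CAlg2.normRed A), Unique (Brnch.Emb A m') := fun m' =>
    @Unique.mk' _ ⟨(Groth.Agent.H46.emb_nonempty_and_subsingleton_iff A m').1.some⟩
      (subsingleton_emb A m')
  exact ENat.card_congr (Equiv.sigmaUnique _ _)

end Branches

end Groth.Agent.H14.HensProp.WedgeDVR
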