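import Mathlib
import Groth.Prelude.Def_Curv2
import Groth.Prelude.Def_Brnch
import Groth.Prelude.Def_Found
import Groth.Agent.H14.HensProp.WedgeDVR2
import Groth.Agent.H14.HensProp.NormBC4

set_option autoImplicit false
set_option linter.style.haveILetI false
universe u

namespace Groth.Agent.H14.HensProp.WedgeDVR

open IsLocalRing Function

section NZD

variable (A : Type u) [CommRing A] [IsLocalRing A] [IsNoetherianRing A] [IsReduced A]

/-- a reduced Noetherian local ring of dimension one has a nonzerodivisor in its maximal ideal -/
theorem exists_mem_nonZeroDivisors (hdim : ringKrullDim A = 1) :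
    ∃ a ∈ maximalIdeal A, a ∈ nonZeroDivisors A := by
  classical
  have hfin : (minimalPrimes A).Finite := minimalPrimes.finite_of_isNoetherianRing A
  -- a prime which is not maximal
  have hnot0 : ¬ Ring.KrullDimLE 0 A := by
    intro h
    have := Ring.krullDimLE_iff.mp h
    rw [hdim] at this
    exact absurd this (by decide)
  rw [Ring.krullDimLE_zero_iff] at hnot0
  push Not at hnot0
  obtain ⟨I, hI, hImax⟩ := hnot0
  -- the maximal ideal is in no minimal prime
  have hnle : ¬ ∃ p ∈ hfin.toFinset, maximalIdeal A ≤ p := by
    rintro ⟨p, hp, hle⟩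
    rw [Set.Finite.mem_toFinset] at hp
    have hIm : I ≤ maximalIdeal A := le_maximalIdeal hI.ne_top
    have hpI : p ≤ I := hp.2 ⟨hI, bot_le⟩ (hIm.trans hle)
    have : I = maximalIdeal A := le_antisymm hIm (hle.trans hpI)
    exact hImax (this ▸ inferInstance)
  have hav := (Ideal.subset_union_prime (s := hfin.toFinset) (f := fun p : Ideal A => p)
    (maximalIdeal A) (maximalIdeal A) (fun p hp _ _ => by
      rw [Set.Finite.mem_toFinset] at hp
      exact hp.1.1) (I := maximalIdeal A)).not.mpr hnle
  rw [Set.not_subset] at hav
  obtain ⟨a, ham, hau⟩ := hav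
  refine ⟨a, ham, ?_⟩
  have hau' : ∀ p ∈ minimalPrimes A, a ∉ p := by
    intro p hp hap
    apply hau
    simp only [Set.mem_iUnion]
    exact ⟨p, by simpa using hp, hap⟩
  rw [mem_nonZeroDivisors_iff_right]
  intro b hb
  have hbn : b ∈ nilradical A := by
    rw [nilradical, ← Ideal.sInf_minimalPrimes, Ideal.mem_sInf]
    intro p hp
    have : b * a ∈ p := by
      rw [hb]
      exact p.zero_mem
    exact (hp.1.1.mem_or_mem this).resolve_right (hau' p hp)
  rw [nilradical_eq_zero] at hbn
  exact hbn

end NZD


section Main

/-- a ring isomorphism induces a bijection of maximal spectra -/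
noncomputable def maximalSpectrumEquiv {R S : Type*} [CommRing R] [CommRing S] (E : R ≃+* S) :
    MaximalSpectrum R ≃ MaximalSpectrum S where
  toFun P := ⟨P.asIdeal.comap E.symm.toRingHom, by
    haveI := P.isMaximal
    exact Ideal.comap_isMaximal_of_surjective E.symm.toRingHom E.symm.surjective⟩
  invFun M := ⟨M.asIdeal.comap E.toRingHom, by
    haveI := M.isMaximal
    exact Ideal.comap_isMaximal_of_surjective E.toRingHom E.surjective⟩
  left_inv P := by
    apply MaximalSpectrum.ext
    ext x
    change E.symm (E x) ∈ P.asIdeal ↔ x ∈ P.asIdeal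
    rw [E.symm_apply_apply]
  right_inv M := by
    apply MaximalSpectrum.ext
    ext x
    change E (E.symm x) ∈ M.asIdeal ↔ x ∈ M.asIdeal
    rw [E.apply_symm_apply]

variable (A : Type u) [CommRing A] [IsLocalRing A] [IsReduced A]

theorem isDVR_localization [IsNoetherianRing A] (hdim : ringKrullDim A = 1)
    [Module.Finite A (integralClosure A (FractionRing A))]
    (m' : Ideal (integralClosure A (FractionRing A))) [m'.IsMaximal] :
    ∃ _ : IsDomain (Localization.AtPrime m'),
      IsDiscreteValuationRing (Localization.AtPrime m') := by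
  haveI : Algebra.IsIntegral A (integralClosure A (FractionRing A)) :=
    Algebra.IsIntegral.of_finite A _
  haveI : IsNoetherianRing (integralClosure A (FractionRing A)) :=
    IsNoetherianRing.of_finite A _
  have hK : Ring.KrullDimLE 1 A := Ring.krullDimLE_iff.mpr hdim.le
  obtain ⟨hd, hic⟩ := Groth.Agent.H38.localization_integralClosure (A := A) ⟨m', inferInstance⟩
  haveI := hd
  haveI := hic
  refine ⟨hd, ?_⟩
  haveI : IsNoetherianRing (Localization.AtPrime m') :=
    IsLocalization.isNoetherianRing m'.primeCompl _ inferInstance
  have hdim1 : ∀ P : Ideal (Localization.AtPrime m'), P ≠ ⊥ → P.IsPrime →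
      P = maximalIdeal (Localization.AtPrime m') := fun P hP hPp =>
    ComplOneDim.eq_maximalIdeal_of_ne_bot (A := A) hK m' P hP hPp
  have h30 := (tfae_of_isNoetherianRing_of_isLocalRing_of_isDomain
    (Localization.AtPrime m')).out 3 0
  have hpir : IsPrincipalIdealRing (Localization.AtPrime m') := h30.mp ⟨hic, hdim1⟩
  refine { toIsPrincipalIdealRing := hpir, toIsLocalRing := inferInstance, not_a_field' := ?_ }
  obtain ⟨a, ham, hand⟩ := exists_mem_nonZeroDivisors A hdim
  have hcomap : m'.comap (algebraMap A (integralClosure A (FractionRing A))) = maximalIdeal A :=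
    eq_maximalIdeal (Ideal.isMaximal_comap_of_isIntegral_of_isMaximal m')
  intro hbot
  have hmem : algebraMap (integralClosure A (FractionRing A)) (Localization.AtPrime m')
      (algebraMap A (integralClosure A (FractionRing A)) a) ∈
      maximalIdeal (Localization.AtPrime m') := by
    rw [IsLocalization.AtPrime.to_map_mem_maximal_iff (Localization.AtPrime m') m']
    rw [← hcomap] at ham
    exact ham
  rw [hbot, Ideal.mem_bot] at hmem
  obtain ⟨s, hs⟩ := (IsLocalization.map_eq_zero_iff m'.primeCompl
    (Localization.AtPrime m') _).mp hmem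
  have hs' : ((s : integralClosure A (FractionRing A)) : FractionRing A) *
      algebraMap A (FractionRing A) a = 0 := by
    have := congrArg (Subtype.val) hs
    simpa using this
  have hu : IsUnit (algebraMap A (FractionRing A) a) :=
    IsLocalization.map_units (FractionRing A) (⟨a, hand⟩ : nonZeroDivisors A)
  have hs0 : ((s : integralClosure A (FractionRing A)) : FractionRing A) = 0 :=
    (hu.mul_left_eq_zero).mp hs'
  have hs00 : (s : integralClosure A (FractionRing A)) = 0 := Subtype.ext hs0
  exact s.2 (hs00 ▸ m'.zero_mem)

theorem main [IsSepClosed (ResidueField A)] (hN : CAlg.IsNagata A) (hdim : ringKrullDim A = 1)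
    (heq : Curv2.deltaInv A + 1 = Brnch.numGeomBranches A) :
    (∀ m' : MaximalSpectrum ↥(integralClosure A (FractionRing A)),
        (∃ _ : IsDomain (Localization.AtPrime m'.asIdeal),
          IsDiscreteValuationRing (Localization.AtPrime m'.asIdeal)) ∧
        Function.Surjective (⇑(IsLocalRing.residue (Localization.AtPrime m'.asIdeal)) ∘
          ⇑(algebraMap ↥(integralClosure A (FractionRing A)) (Localization.AtPrime m'.asIdeal)) ∘
          ⇑(algebraMap A ↥(integralClosure A (FractionRing A))))) ∧
    ∀ a' : ↥(integralClosure A (FractionRing A)),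
      (∃ a : A, ∀ m' : MaximalSpectrum ↥(integralClosure A (FractionRing A)),
          a' - algebraMap A _ a ∈ m'.asIdeal) →
      a' ∈ (algebraMap A ↥(integralClosure A (FractionRing A))).range := by
  haveI hNoeth : IsNoetherianRing A := hN.1
  haveI hfin : Module.Finite A (integralClosure A (FractionRing A)) :=
    Groth.Agent.H38.finite_integralClosure fun p =>
      hN.2 p.1.asIdeal (Groth.Agent.H38.KK p) inferInstance
  haveI : Algebra.IsIntegral A (integralClosure A (FractionRing A)) :=
    Algebra.IsIntegral.of_finite A _
  have hcomap : ∀ M : MaximalSpectrum (integralClosure A (FractionRing A)),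
      M.asIdeal.comap (algebraMap A (integralClosure A (FractionRing A))) = maximalIdeal A := by
    intro M
    haveI := M.isMaximal
    exact eq_maximalIdeal (Ideal.isMaximal_comap_of_isIntegral_of_isMaximal M.asIdeal)
  haveI : Finite (MaximalSpectrum (integralClosure A (FractionRing A))) := by
    have hf := Algebra.QuasiFinite.finite_primesOver (R := A)
      (S := integralClosure A (FractionRing A)) (maximalIdeal A)
    haveI := hf.to_subtype
    refine Finite.of_injective (fun M : MaximalSpectrum (integralClosure A (FractionRing A)) =>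
      (⟨M.asIdeal, M.isMaximal.isPrime, ⟨(hcomap M).symm⟩⟩ :
        (maximalIdeal A).primesOver (integralClosure A (FractionRing A)))) ?_
    intro M M' h
    exact MaximalSpectrum.ext (congrArg Subtype.val h)
  have hminfin : (minimalPrimes A).Finite := minimalPrimes.finite_of_isNoetherianRing A
  have hcard : Brnch.numGeomBranches A =
      ENat.card (MaximalSpectrum (integralClosure A (FractionRing A))) := by
    rw [numGeomBranches_eq_card A hminfin]
    exact (ENat.card_congr (maximalSpectrumEquiv (HhToHsh.normRingEquiv A))).symm
  have hlen : Module.length A ((integralClosure A (FractionRing A)) ⧸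
      LinearMap.range (Algebra.linearMap A (integralClosure A (FractionRing A)))) + 1 =
      ENat.card (MaximalSpectrum (integralClosure A (FractionRing A))) := by
    rw [← hcard, ← heq]
    rfl
  obtain ⟨hsurj, hmem⟩ := surjective_and_mem_range hcomap hlen
  refine ⟨fun m' => ⟨?_, ?_⟩, hmem⟩
  · haveI := m'.isMaximal
    exact isDVR_localization A hdim m'.asIdeal
  · haveI := m'.isMaximal
    intro y
    obtain ⟨z, hz⟩ := (IsLocalization.AtPrime.equivQuotMaximalIdeal m'.asIdeal
      (Localization.AtPrime m'.asIdeal)).surjective y
    obtain ⟨a, ha⟩ := hsurj m' z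
    refine ⟨a, ?_⟩
    rw [← hz, ← ha]
    rfl

end Main

end Groth.Agent.H14.HensProp.WedgeDVR
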